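import Cfsg.Agent.Classical.PrimeDim.Descent
import Cfsg.Agent.Classical.Symp.Decomp

/-! Forms fixed by an absolutely irreducible normal subgroup. -/

set_option autoImplicit false
set_option linter.unusedSimpArgs false
set_option linter.unusedSectionVars false
set_option linter.style.haveILetI false

namespace Cfsg.Lib.Classical.PrimeDim

open Matrix Cfsg.Geo
open scoped MatrixGroups

universe u

variable {ι : Type} [Fintype ι] [DecidableEq ι] {F : Type u} [Field F] {n : ℕ}

/-- A non-degenerate form, linear in the first and `σ`-semilinear in the second argument. -/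
structure IsSesq (σ : F ≃+* F) (f : (ι → F) → (ι → F) → F) : Prop where
  add_left : ∀ x y v, f (x + y) v = f x v + f y v
  smul_left : ∀ (c : F) (x v : ι → F), f (c • x) v = c * f x v
  add_right : ∀ v x y, f v (x + y) = f v x + f v y
  smul_right : ∀ (c : F) (v x : ι → F), f v (c • x) = σ c * f v x
  nondegenerate : IsNondegenerateForm f

theorem IsSesq.of_unitary {σ : F ≃+* F} {f : (ι → F) → (ι → F) → F} (h : IsUnitaryForm σ f) : IsSesq σ f where
  add_left := h.add_left
  smul_left := h.smul_left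
  add_right v x y := by rw [h.herm, h.add_left, map_add, ← h.herm, ← h.herm]
  smul_right c v x := by rw [h.herm, h.smul_left, map_mul, ← h.herm]
  nondegenerate := h.nondegenerate

theorem IsSesq.of_quadratic {Q : (ι → F) → F} (h : IsNondegenerateQuadraticForm Q) :
    IsSesq (RingEquiv.refl F) (QuadraticMap.polar Q) where
  add_left := h.polar_bilinear.add_left
  smul_left := h.polar_bilinear.smul_left
  add_right := h.polar_bilinear.add_right
  smul_right := h.polar_bilinear.smul_right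
  nondegenerate := h.nondegenerate

theorem IsSesq.sum_left {σ : F ≃+* F} {f : (ι → F) → (ι → F) → F} (h : IsSesq σ f) {α : Type*} (s : Finset α)
    (x : α → ι → F) (v : ι → F) : f (∑ a ∈ s, x a) v = ∑ a ∈ s, f (x a) v := by
  classical
  induction s using Finset.induction_on with
  | empty => simpa using h.smul_left 0 0 v
  | insert a s ha ih => rw [Finset.sum_insert ha, Finset.sum_insert ha, h.add_left, ih]

theorem IsSesq.sum_right {σ : F ≃+* F} {f : (ι → F) → (ι → F) → F} (h : IsSesq σ f) {α : Type*} (s : Finset α)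
    (x : α → ι → F) (v : ι → F) : f v (∑ a ∈ s, x a) = ∑ a ∈ s, f v (x a) := by
  classical
  induction s using Finset.induction_on with
  | empty => simpa using h.smul_right 0 v 0
  | insert a s ha ih => rw [Finset.sum_insert ha, Finset.sum_insert ha, h.add_right, ih]

theorem IsSesq.apply_eq {σ : F ≃+* F} {f : (ι → F) → (ι → F) → F} (h : IsSesq σ f) (u v : ι → F) :
    f u v = u ⬝ᵥ (gramMatrix f *ᵥ (σ ∘ v)) := by
  conv_lhs => rw [pi_eq_sum_univ' u, pi_eq_sum_univ' v]
  rw [h.sum_left]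
  simp only [h.sum_right, h.smul_left, h.smul_right, dotProduct, Matrix.mulVec, gramMatrix, Function.comp_apply,
    Finset.mul_sum]
  exact Finset.sum_congr rfl fun a _ => Finset.sum_congr rfl fun b _ => by ring

theorem IsSesq.det_gram_ne_zero {σ : F ≃+* F} {f : (ι → F) → (ι → F) → F} (h : IsSesq σ f) :
    (gramMatrix f).det ≠ 0 := by
  intro h0
  obtain ⟨u, hu, hu'⟩ := Matrix.exists_vecMul_eq_zero_iff.mpr h0
  obtain ⟨x, hx⟩ := (h.nondegenerate u hu).2
  rw [h.apply_eq, Matrix.dotProduct_mulVec, hu', zero_dotProduct] at hx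
  exact hx rfl

theorem comp_mulVec (σ : F ≃+* F) (M : Matrix ι ι F) (v : ι → F) : σ ∘ (M *ᵥ v) = M.map σ *ᵥ (σ ∘ v) :=
  funext fun i => RingHom.map_mulVec (σ : F →+* F) M v i

theorem IsSesq.apply_mulVec {σ : F ≃+* F} {f : (ι → F) → (ι → F) → F} (h : IsSesq σ f) (A B : Matrix ι ι F)
    (u v : ι → F) : f (A *ᵥ u) (B *ᵥ v) = u ⬝ᵥ ((Aᵀ * gramMatrix f * B.map σ) *ᵥ (σ ∘ v)) := by
  rw [h.apply_eq, comp_mulVec, ← Matrix.mulVec_mulVec, ← Matrix.mulVec_mulVec, Matrix.dotProduct_mulVec u Aᵀ,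
    Matrix.vecMul_transpose]

theorem IsSesq.fixes_iff {σ : F ≃+* F} {f : (ι → F) → (ι → F) → F} (h : IsSesq σ f) {s : Matrix ι ι F} (c : F) :
    (∀ u v, f (s *ᵥ u) (s *ᵥ v) = c * f u v) ↔ sᵀ * gramMatrix f * s.map σ = c • gramMatrix f := by
  constructor
  · intro hs
    ext i j
    have e := hs (Pi.single i 1) (Pi.single j 1)
    rw [h.apply_mulVec, show σ ∘ Pi.single j (1 : F) = Pi.single j (1 : F) from funext fun k => by
        rw [Function.comp_apply, Pi.single_apply]; split_ifs <;> simp,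
      Matrix.mulVec_single_one, single_one_dotProduct] at e
    exact e
  · intro e u v
    rw [h.apply_mulVec, e, Matrix.smul_mulVec, dotProduct_smul, ← h.apply_eq, smul_eq_mul]

/-- The normaliser of an absolutely irreducible group of isometries consists of similitudes. -/
theorem le_similarity [Nonempty ι] {H P : Subgroup (GL ι F)} (hn : Normalises H P)
    (hai : ActsAbsolutelyIrreducibly (matrixSet P)) {σ : F ≃+* F} {f : (ι → F) → (ι → F) → F} (hf : IsSesq σ f)
    (hfix : FixesForm (matrixSet P) f) : H ≤ similarityGroup f := by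
  intro h hh
  set G := gramMatrix f with hG_def
  set Hm : Matrix ι ι F := (h : Matrix ι ι F) with hHm
  set G' := Hmᵀ * G * Hm.map σ with hG'
  have hGfix : ∀ s ∈ P, (s : Matrix ι ι F)ᵀ * G * (s : Matrix ι ι F).map σ = G := fun s hs => by
    have := (hf.fixes_iff (1 : F)).mp (fun u v => by rw [one_mul]; exact hfix _ (mem_matrixSet hs) u v)
    rwa [one_smul] at this
  have hG'fix : ∀ s ∈ P, (s : Matrix ι ι F)ᵀ * G' * (s : Matrix ι ι F).map σ = G' := fun s hs => by
    have e : Hm * (s : Matrix ι ι F) = ((h * s * h⁻¹ : GL ι F) : Matrix ι ι F) * Hm := by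
      rw [hHm, ← Units.val_mul, ← Units.val_mul, inv_mul_cancel_right]
    calc (s : Matrix ι ι F)ᵀ * G' * (s : Matrix ι ι F).map σ
        = (Hm * (s : Matrix ι ι F))ᵀ * G * (Hm * (s : Matrix ι ι F)).map σ := by
          rw [hG', Matrix.transpose_mul, Matrix.map_mul]; simp only [mul_assoc]
      _ = Hmᵀ * (((h * s * h⁻¹ : GL ι F) : Matrix ι ι F)ᵀ * G *
            ((h * s * h⁻¹ : GL ι F) : Matrix ι ι F).map σ) * Hm.map σ := by
          rw [e, Matrix.transpose_mul, Matrix.map_mul]; simp only [mul_assoc]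
      _ = G' := by rw [hGfix _ (hn h hh s hs), hG']
  have hGdet := hf.det_gram_ne_zero
  have hGu : IsUnit G.det := isUnit_iff_ne_zero.mpr hGdet
  set Mσ := G⁻¹ * G' with hMσ
  have hcomm : ∀ s ∈ P, Mσ * (s : Matrix ι ι F).map σ = (s : Matrix ι ι F).map σ * Mσ := by
    intro s hs
    have hT : IsUnit (s : Matrix ι ι F)ᵀ := by
      rw [Matrix.isUnit_iff_isUnit_det, Matrix.det_transpose]
      exact isUnit_iff_ne_zero.mpr (gl_det_ne_zero s)
    apply (hT.mul ((Matrix.isUnit_iff_isUnit_det G).mpr hGu)).mul_left_cancel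
    calc (s : Matrix ι ι F)ᵀ * G * (Mσ * (s : Matrix ι ι F).map σ)
        = (s : Matrix ι ι F)ᵀ * (G * G⁻¹) * G' * (s : Matrix ι ι F).map σ := by rw [hMσ]; simp only [mul_assoc]
      _ = G' := by rw [Matrix.mul_nonsing_inv _ hGu, mul_one, hG'fix s hs]
      _ = ((s : Matrix ι ι F)ᵀ * G * (s : Matrix ι ι F).map σ) * Mσ := by
          rw [hGfix s hs, hMσ, ← mul_assoc, Matrix.mul_nonsing_inv _ hGu, one_mul]
      _ = (s : Matrix ι ι F)ᵀ * G * ((s : Matrix ι ι F).map σ * Mσ) := by simp only [mul_assoc]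
  obtain ⟨c, hc⟩ := hai.2 (Mσ.map σ.symm) (forall_matrixSet.mpr fun s hs => by
    have := congrArg (fun X : Matrix ι ι F => X.map σ.symm) (hcomm s hs)
    simp only [Matrix.map_mul, Matrix.map_map] at this
    simpa [Function.comp_def] using this)
  have hc' : Mσ = σ c • (1 : Matrix ι ι F) := by
    have := congrArg (fun X : Matrix ι ι F => X.map σ) hc
    simp only [Matrix.map_map] at this
    rw [show (⇑σ ∘ ⇑σ.symm) = id from funext σ.apply_symm_apply, Matrix.map_id] at this
    rw [this]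
    ext i j
    simp [Matrix.one_apply, apply_ite σ]
  have hG'eq : G' = σ c • G := by
    have := congrArg (fun X => G * X) hc'
    simp only [hMσ, ← mul_assoc, Matrix.mul_nonsing_inv _ hGu, one_mul, Matrix.mul_smul, mul_one] at this
    exact this
  have hc0 : σ c ≠ 0 := by
    intro h0
    rw [hG', h0, zero_smul] at hG'eq
    have := congrArg Matrix.det hG'eq
    rw [Matrix.det_zero, Matrix.det_mul, Matrix.det_mul, Matrix.det_transpose] at this
    have hmap : (Hm.map σ).det = σ Hm.det := ((σ : F →+* F).map_det Hm).symm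
    rw [hmap] at this
    exact mul_ne_zero (mul_ne_zero (gl_det_ne_zero h) hGdet) (fun e => gl_det_ne_zero h (σ.injective (e.trans σ.map_zero.symm))) this
  exact ⟨Units.mk0 (σ c) hc0, (hf.fixes_iff _).mpr hG'eq⟩

theorem two_ne_zero_of_odd [Fintype F] (h : Odd (Fintype.card F)) : (2 : F) ≠ 0 := by
  intro h2
  haveI : CharP F 2 := CharTwo.of_one_ne_zero_of_two_eq_zero one_ne_zero h2
  have := FiniteField.even_card_of_char_two (F := F) (ringChar.eq F 2)
  rw [Nat.odd_iff] at h
  omega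

theorem polar_self {Q : (ι → F) → F} (hQ : IsNondegenerateQuadraticForm Q) (v : ι → F) :
    QuadraticMap.polar Q v v = 2 * Q v := by
  rw [QuadraticMap.polar, show v + v = (2 : F) • v by rw [two_smul], hQ.smul]
  ring

theorem le_quadSimilarity [Nonempty ι] {H P : Subgroup (GL ι F)} (hn : Normalises H P)
    (hai : ActsAbsolutelyIrreducibly (matrixSet P)) (h2 : (2 : F) ≠ 0) {Q : (ι → F) → F}
    (hQ : IsNondegenerateQuadraticForm Q) (hfix : FixesQuadForm (matrixSet P) Q) : H ≤ quadSimilarityGroup Q := by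
  intro h hh
  obtain ⟨c, hc⟩ := le_similarity hn hai (IsSesq.of_quadratic hQ) (fun s hs u v => by
    simp only [QuadraticMap.polar, ← Matrix.mulVec_add, hfix s hs]) hh
  refine ⟨c, fun v => mul_left_cancel₀ h2 ?_⟩
  rw [← polar_self hQ, hc v v, polar_self hQ]
  ring

/-- There is no non-degenerate alternating form in odd dimension. -/
theorem no_alternating (hcard : Fintype.card ι = n) (hodd : Odd n) {f : (ι → F) → (ι → F) → F}
    (hb : IsBilinearForm f) (halt : ∀ v, f v v = 0) (hnd : IsNondegenerateForm f) : False := by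
  let B : LinearMap.BilinForm F (ι → F) := LinearMap.mk₂ F f hb.add_left
    (fun c x v => hb.smul_left c x v) hb.add_right (fun c v x => hb.smul_right c v x)
  have hB : B.Nondegenerate := by
    refine ⟨fun v hv => ?_, fun v hv => ?_⟩
    · by_contra h0
      obtain ⟨x, hx⟩ := (hnd v h0).2
      exact hx (hv x)
    · by_contra h0
      obtain ⟨x, hx⟩ := (hnd v h0).1
      exact hx (hv x)
  have := Cfsg.Lib.Classical.even_finrank_of_symplectic (B := B) (fun v => halt v) hB
  rw [finrank_pi_card, hcard] at this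
  exact Nat.not_even_iff_odd.mpr hodd this

theorem no_quadratic_of_two_eq_zero (hcard : Fintype.card ι = n) (hodd : Odd n) (h2 : (2 : F) = 0)
    {Q : (ι → F) → F} (hQ : IsNondegenerateQuadraticForm Q) : False :=
  no_alternating hcard hodd hQ.polar_bilinear (fun v => by rw [polar_self hQ, h2, zero_mul]) hQ.nondegenerate

/-- The diagonal form in the coordinates given by `B`. -/
def stdHerm (B : GL ι F) (σ : F → F) (u v : ι → F) : F :=
  ∑ i, ((B : Matrix ι ι F) *ᵥ u) i * σ (((B : Matrix ι ι F) *ᵥ v) i)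

theorem stdHerm_isUnitary (B : GL ι F) {σ : F ≃+* F} (hne : σ ≠ RingEquiv.refl F) (hinv : ∀ a, σ (σ a) = a) :
    IsUnitaryForm σ (stdHerm B σ) where
  ne_refl := hne
  involutive := hinv
  add_left x y v := by
    simp only [stdHerm, Matrix.mulVec_add, Pi.add_apply, add_mul, Finset.sum_add_distrib]
  smul_left c x v := by
    simp only [stdHerm, Matrix.mulVec_smul, Pi.smul_apply, smul_eq_mul, Finset.mul_sum, mul_assoc]
  herm v w := by
    simp only [stdHerm, map_sum, map_mul, hinv]
    exact Finset.sum_congr rfl fun i _ => mul_comm _ _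
  nondegenerate v hv := by
    obtain ⟨i, hi⟩ := Function.ne_iff.mp (gl_mulVec_ne_zero B hv)
    refine ⟨⟨((B⁻¹ : GL ι F) : Matrix ι ι F) *ᵥ Pi.single i 1, ?_⟩,
      ⟨((B⁻¹ : GL ι F) : Matrix ι ι F) *ᵥ Pi.single i 1, ?_⟩⟩
    · rw [stdHerm, mulVec_inv_mulVec, Finset.sum_eq_single i (fun j _ hj => by
        rw [Pi.single_eq_of_ne hj, zero_mul]) (by simp), Pi.single_eq_same, one_mul]
      exact fun e => hi (σ.injective (e.trans σ.map_zero.symm))
    · rw [stdHerm, mulVec_inv_mulVec, Finset.sum_eq_single i (fun j _ hj => by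
        rw [Pi.single_eq_of_ne hj, map_zero, mul_zero]) (by simp), Pi.single_eq_same, map_one, mul_one]
      exact hi

/-- The diagonal quadratic form in the coordinates given by `B`. -/
def stdQuad (B : GL ι F) (v : ι → F) : F := ∑ i, ((B : Matrix ι ι F) *ᵥ v) i ^ 2

theorem stdQuad_polar (B : GL ι F) (u v : ι → F) :
    QuadraticMap.polar (stdQuad B) u v = 2 * stdHerm B id u v := by
  simp only [QuadraticMap.polar, stdQuad, stdHerm, id, Matrix.mulVec_add, Pi.add_apply, Finset.mul_sum,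
    ← Finset.sum_sub_distrib]
  exact Finset.sum_congr rfl fun i _ => by ring

theorem stdQuad_nondegenerate (B : GL ι F) (h2 : (2 : F) ≠ 0) : IsNondegenerateQuadraticForm (stdQuad B) := by
  refine ⟨fun c v => ?_, ⟨fun x y v => ?_, fun c x v => ?_, fun v x y => ?_, fun c v x => ?_⟩, fun v hv => ?_⟩
  · simp only [stdQuad, Matrix.mulVec_smul, Pi.smul_apply, smul_eq_mul, mul_pow, Finset.mul_sum]
  · simp only [stdQuad_polar, stdHerm, id, Matrix.mulVec_add, Pi.add_apply, add_mul, Finset.sum_add_distrib, mul_add]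
  · simp only [stdQuad_polar, stdHerm, id, Matrix.mulVec_smul, Pi.smul_apply, smul_eq_mul, Finset.mul_sum]
    exact Finset.sum_congr rfl fun i _ => by ring
  · simp only [stdQuad_polar, stdHerm, id, Matrix.mulVec_add, Pi.add_apply, mul_add, Finset.sum_add_distrib]
  · simp only [stdQuad_polar, stdHerm, id, Matrix.mulVec_smul, Pi.smul_apply, smul_eq_mul, Finset.mul_sum]
    exact Finset.sum_congr rfl fun i _ => by ring
  · obtain ⟨i, hi⟩ := Function.ne_iff.mp (gl_mulVec_ne_zero B hv)
    refine ⟨⟨((B⁻¹ : GL ι F) : Matrix ι ι F) *ᵥ Pi.single i 1, ?_⟩,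
      ⟨((B⁻¹ : GL ι F) : Matrix ι ι F) *ᵥ Pi.single i 1, ?_⟩⟩
    · rw [stdQuad_polar, stdHerm, mulVec_inv_mulVec, Finset.sum_eq_single i (fun j _ hj => by
        simp [Pi.single_eq_of_ne hj]) (by simp), Pi.single_eq_same, one_mul]
      exact mul_ne_zero h2 hi
    · rw [stdQuad_polar, stdHerm, mulVec_inv_mulVec, Finset.sum_eq_single i (fun j _ hj => by
        simp [Pi.single_eq_of_ne hj]) (by simp), Pi.single_eq_same, id, mul_one]
      exact mul_ne_zero h2 hi

theorem monomial_mulVec {M : Matrix ι ι F} {π : Equiv.Perm ι} {d : ι → F}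
    (hM : ∀ i j, M i j = if i = π j then d j else 0) (u : ι → F) (j : ι) : (M *ᵥ u) (π j) = d j * u j := by
  rw [Matrix.mulVec, dotProduct, Finset.sum_eq_single j (fun k _ hk => by
    rw [hM, if_neg (fun e => hk (π.injective e).symm), zero_mul]) (by simp), hM, if_pos rfl]

theorem stdHerm_fix {σ : F ≃+* F} {B g : GL ι F} {π : Equiv.Perm ι} {d : ι → F}
    (hM : ∀ i j, ((B * g * B⁻¹ : GL ι F) : Matrix ι ι F) i j = if i = π j then d j else 0)
    (hd : ∀ j, d j * σ (d j) = 1) (u v : ι → F) :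
    stdHerm B σ ((g : Matrix ι ι F) *ᵥ u) ((g : Matrix ι ι F) *ᵥ v) = stdHerm B σ u v := by
  have e : ∀ w, (B : Matrix ι ι F) *ᵥ ((g : Matrix ι ι F) *ᵥ w) =
      ((B * g * B⁻¹ : GL ι F) : Matrix ι ι F) *ᵥ ((B : Matrix ι ι F) *ᵥ w) := fun w => by
    rw [Matrix.mulVec_mulVec, Matrix.mulVec_mulVec, ← Units.val_mul, ← Units.val_mul, inv_mul_cancel_right]
  rw [stdHerm, e, e, ← Equiv.sum_comp π]
  refine Finset.sum_congr rfl fun j _ => ?_
  rw [monomial_mulVec hM, monomial_mulVec hM, map_mul]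
  calc d j * ((B : Matrix ι ι F) *ᵥ u) j * (σ (d j) * σ (((B : Matrix ι ι F) *ᵥ v) j))
      = (d j * σ (d j)) * (((B : Matrix ι ι F) *ᵥ u) j * σ (((B : Matrix ι ι F) *ᵥ v) j)) := by ring
    _ = _ := by rw [hd, one_mul]

theorem stdQuad_fix {B g : GL ι F} {π : Equiv.Perm ι} {d : ι → F}
    (hM : ∀ i j, ((B * g * B⁻¹ : GL ι F) : Matrix ι ι F) i j = if i = π j then d j else 0)
    (hd : ∀ j, d j * d j = 1) (v : ι → F) : stdQuad B ((g : Matrix ι ι F) *ᵥ v) = stdQuad B v := by
  have := stdHerm_fix (σ := RingEquiv.refl F) hM hd v v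
  simpa [stdHerm, stdQuad, sq] using this

/-- The Frobenius power `x ↦ x ^ q₀` when `|F| = q₀ ^ 2`. -/
theorem exists_conj [Fintype F] {q₀ : ℕ} (hF : Fintype.card F = q₀ ^ 2) :
    ∃ σ : F ≃+* F, (∀ a, σ a = a ^ q₀) ∧ σ ≠ RingEquiv.refl F ∧ ∀ a, σ (σ a) = a := by
  obtain ⟨p, f, hp, hchar, hf0, hf⟩ := exists_char_card F
  haveI := Fact.mk hp
  rw [Nat.card_eq_fintype_card, hF] at hf
  obtain ⟨m, -, hm⟩ := (Nat.dvd_prime_pow hp).mp (hf ▸ dvd_pow_self q₀ two_ne_zero : q₀ ∣ p ^ f)
  have hm2 : f = 2 * m := (Nat.pow_right_injective hp.two_le (by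
    show p ^ (2 * m) = p ^ f
    rw [mul_comm, pow_mul, ← hm, hf])).symm
  let σ : F ≃+* F := RingEquiv.ofBijective (iterateFrobenius F p m)
    (Finite.injective_iff_bijective.mp (iterateFrobenius F p m).injective)
  have hσ : ∀ a, σ a = a ^ q₀ := fun a => by
    show iterateFrobenius F p m a = _
    rw [iterateFrobenius_def, hm]
  refine ⟨σ, hσ, fun e => ?_, fun a => ?_⟩
  · have hcard := card_powField (F := F) (p := p) (m := m) (f := f) (by omega)
      (by rw [Nat.card_eq_fintype_card, hF, hf]) ⟨2, by omega⟩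
    have hall : ∀ x : F, x ∈ powField F p m := fun x => mem_powField.mpr (by
      have := RingEquiv.congr_fun e x
      rwa [hσ, hm] at this)
    rw [Nat.card_congr (Equiv.subtypeUnivEquiv hall), Nat.card_eq_fintype_card, hF, hf] at hcard
    have := Nat.pow_right_injective hp.two_le hcard
    omega
  · rw [hσ, hσ, ← pow_mul, ← sq, ← hF, FiniteField.pow_card]

/-- A Heisenberg group with `n ∣ q₀ + 1`, `|F| = q₀ ^ 2`, fixes a unitary form. -/
theorem IsHeisenberg.exists_unitary_fixed [Fintype F] (hcard : Fintype.card ι = n) (hn : n.Prime)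
    {R : Subgroup (GL ι F)} (hR : IsHeisenberg n R) {q₀ : ℕ} (hF : Fintype.card F = q₀ ^ 2) (hdvd : n ∣ q₀ + 1) :
    ∃ (σ : F ≃+* F) (f : (ι → F) → (ι → F) → F), IsUnitaryForm σ f ∧ FixesForm (matrixSet R) f := by
  obtain ⟨B, ζ, hζ, hB⟩ := hR.exists_basis hcard hn
  obtain ⟨σ, hσ, hne, hinv⟩ := exists_conj hF
  refine ⟨σ, stdHerm B σ, stdHerm_isUnitary B hne hinv, forall_matrixSet.mpr fun g hg u v => ?_⟩
  obtain ⟨π, k, hk⟩ := hB g hg
  refine stdHerm_fix hk (fun j => ?_) u v
  obtain ⟨m, hm⟩ := hdvd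
  rw [hσ, ← pow_mul, ← pow_add, show k j + k j * q₀ = k j * (q₀ + 1) by ring, hm, ← mul_assoc, mul_comm (k j) n,
    mul_assoc, pow_mul, hζ.pow_eq_one, one_pow]

end Cfsg.Lib.Classical.PrimeDim
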