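import Cfsg.Agent.Classical.PrimeDim.UnitaryMembersTwo

/-! Subfield structures compatible with a Hermitian form. -/

set_option autoImplicit false
set_option linter.unusedSimpArgs false
set_option linter.unusedSectionVars false
set_option linter.style.haveILetI false

namespace Cfsg.Lib.Classical.PrimeDim

open Matrix Cfsg.Geo
open scoped MatrixGroups

universe u

/-- Intertwiners of two families defined over a subfield are scaled matrices over that subfield. -/
theorem scaled_intertwiner {ι : Type} [Fintype ι] [DecidableEq ι] {F : Type u} [Field F] [Nonempty ι]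
    {F₀ : Subfield F} {α : Type*} {a b : α → Matrix ι ι F}
    (hai : ∀ M : Matrix ι ι F, (∀ s, M * a s = a s * M) → ∃ c : F, M = c • 1)
    (ha : ∀ s i j, a s i j ∈ F₀) (hb : ∀ s i j, b s i j ∈ F₀) {g : GL ι F}
    (hg : ∀ s, (g : Matrix ι ι F) * a s = b s * (g : Matrix ι ι F)) :
    ∃ c : F, c ≠ 0 ∧ ∀ i j, c * (g : Matrix ι ι F) i j ∈ F₀ := by
  set G : Matrix ι ι F := (g : Matrix ι ι F) with hG
  obtain ⟨i₀, j₀, hij⟩ : ∃ i j, G i j ≠ 0 := by
    by_contra hc
    push Not at hc
    exact g.ne_zero (Matrix.ext hc)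
  obtain ⟨π, hπ⟩ := (Algebra.linearMap F₀ F).exists_leftInverse_of_injective
    (LinearMap.ker_eq_bot.mpr Subtype.val_injective)
  have hπ1 : ∀ x : F₀, π (x : F) = x := fun x => LinearMap.congr_fun hπ x
  have hlin : ∀ (x : F₀) (y : F), π ((x : F) * y) = x * π y := fun x y => by
    have := π.map_smul x y
    rwa [Subfield.smul_def, smul_eq_mul, smul_eq_mul] at this
  set c := (G i₀ j₀)⁻¹ with hc_def
  let G' : Matrix ι ι F := Matrix.of fun i j => ((π (c * G i j) : F₀) : F)
  have hG'0 : G' i₀ j₀ = 1 := by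
    show ((π (c * G i₀ j₀) : F₀) : F) = 1
    rw [hc_def, inv_mul_cancel₀ hij, show (1 : F) = ((1 : F₀) : F) from rfl, hπ1]
  have hint : ∀ s, G' * a s = b s * G' := by
    intro s
    ext i j
    have hij' := congrArg (fun M : Matrix ι ι F => c * M i j) (hg s)
    simp only [Matrix.mul_apply, Finset.mul_sum] at hij'
    have h2 := congrArg π hij'
    rw [map_sum, map_sum] at h2
    rw [Matrix.mul_apply, Matrix.mul_apply]
    simp only [G', Matrix.of_apply]
    have h3 := congrArg (fun x : F₀ => (x : F)) h2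
    simp only [AddSubmonoidClass.coe_finsetSum] at h3
    convert h3 using 2 with k hk k hk
    · rw [show c * (G i k * a s k j) = ((⟨a s k j, ha s k j⟩ : F₀) : F) * (c * G i k) by show _ = a s k j * _; ring,
        hlin, Subfield.coe_mul, mul_comm]
    · rw [show c * (b s i k * G k j) = ((⟨b s i k, hb s i k⟩ : F₀) : F) * (c * G k j) by show _ = b s i k * _; ring,
        hlin, Subfield.coe_mul]
  obtain ⟨d, hd⟩ := hai (((g⁻¹ : GL ι F) : Matrix ι ι F) * G') (fun s => by
    calc ((g⁻¹ : GL ι F) : Matrix ι ι F) * G' * a s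
        = ((g⁻¹ : GL ι F) : Matrix ι ι F) * (b s * G) * (((g⁻¹ : GL ι F) : Matrix ι ι F) * G') := by
          rw [mul_assoc _ G' (a s), hint s, mul_assoc (((g⁻¹ : GL ι F) : Matrix ι ι F)) (b s * G), mul_assoc (b s) G,
            ← mul_assoc G, hG, val_mul_inv, one_mul]
      _ = a s * (((g⁻¹ : GL ι F) : Matrix ι ι F) * G') := by
          rw [← hg s, ← mul_assoc _ G (a s), hG, val_inv_mul, one_mul])
  have hG' : G' = d • G := by
    have := congrArg (fun M => G * M) hd
    simp only [← mul_assoc] at this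
    rwa [hG, val_mul_inv, one_mul, Matrix.mul_smul, mul_one] at this
  refine ⟨d, fun h0 => ?_, fun i j => ?_⟩
  · rw [hG', h0, zero_smul] at hG'0
    exact zero_ne_one hG'0
  · have := congrFun (congrFun hG' i) j
    rw [Matrix.smul_apply, smul_eq_mul] at this
    rw [← this]
    exact Subtype.mem _

theorem symm_quad_diag {ι : Type} [Fintype ι] {F : Type u} [Field F] [CharP F 2]
    {G : Matrix ι ι F} (hG : ∀ i j, G i j = G j i) (x : ι → F) :
    ∑ i, ∑ j, x i * G i j * x j = ∑ i, G i i * x i ^ 2 := by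
  classical
  have h : ∀ i, ∑ j, x i * G i j * x j = G i i * x i ^ 2 + ∑ j ∈ Finset.univ.erase i, x i * G i j * x j := fun i => by
    rw [← Finset.add_sum_erase _ _ (Finset.mem_univ i)]; ring
  simp only [h, Finset.sum_add_distrib]
  refine add_eq_left.mpr ?_
  rw [Finset.sum_sigma']
  refine Finset.sum_involution (fun p _ => ⟨p.2, p.1⟩) (fun p hp => ?_) (fun p hp _ e => ?_) (fun p hp => ?_)
    (fun p hp => rfl)
  · rw [show x p.2 * G p.2 p.1 * x p.1 = x p.1 * G p.1 p.2 * x p.2 by rw [hG]; ring]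
    exact CharTwo.add_self_eq_zero _
  · simp only [Finset.mem_sigma, Finset.mem_erase] at hp
    exact hp.2.1 (congrArg Sigma.fst e)
  · simp only [Finset.mem_sigma, Finset.mem_erase] at hp ⊢
    exact ⟨Finset.mem_univ _, hp.2.1.symm, Finset.mem_univ _⟩

variable {n : ℕ} {F : Type u} [Field F] [Fintype F] {q : ℕ}

/-- The scalar matrix as an element of `GL`. -/
def scalarGL {ι : Type} [Fintype ι] [DecidableEq ι] {μ : F} (hμ : μ ≠ 0) : GL ι F :=
  Units.map (Matrix.scalar ι : F →+* Matrix ι ι F).toMonoidHom (Units.mk0 μ hμ)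

theorem scalarGL_mem {ι : Type} [Fintype ι] [DecidableEq ι] {μ : F} (hμ : μ ≠ 0) :
    (scalarGL hμ : GL ι F) ∈ scalars ι F := ⟨_, rfl⟩

theorem scalarGL_val {ι : Type} [Fintype ι] [DecidableEq ι] {μ : F} (hμ : μ ≠ 0) :
    ((scalarGL hμ : GL ι F) : Matrix ι ι F) = μ • 1 := by
  show Matrix.scalar ι μ = _
  rw [Matrix.scalar_apply, Matrix.smul_one_eq_diagonal]

theorem map_conj_scalar {ι : Type} [Fintype ι] [DecidableEq ι] (F₀ : Subfield F) (B : GL ι F) {μ : F} (hμ : μ ≠ 0) :
    subfieldSubgroup F₀ (B * scalarGL hμ) = subfieldSubgroup F₀ B := by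
  unfold subfieldSubgroup
  congr 1
  refine MonoidHom.ext fun x => ?_
  rw [MulEquiv.coe_toMonoidHom, MulEquiv.coe_toMonoidHom, MulAut.conj_apply, MulAut.conj_apply, mul_assoc B,
    scalar_commute (scalarGL_mem hμ) x]
  simp [mul_assoc]

theorem gu_transpose (hF : Fintype.card F = q ^ 2) {g : GL (Fin n) F} (hg : g ∈ Cfsg.GU n F q) :
    (g : Matrix (Fin n) (Fin n) F)ᵀ * (g : Matrix (Fin n) (Fin n) F).map (frob hF) = 1 := by
  have h := ((herm_isSesq hF).fixes_iff (1 : F)).mp (fun u v => by rw [one_mul]; exact mem_GU_iff.mp hg u v)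
  have hG : gramMatrix (Cfsg.hermForm n F q) = 1 := by
    ext i j
    simp only [gramMatrix, hermForm_eq hF, stdHerm, Units.val_one, Matrix.one_mulVec]
    rw [Finset.sum_eq_single i (fun l _ hl => by rw [Pi.single_eq_of_ne hl, zero_mul]) (by simp), Pi.single_eq_same,
      one_mul, Matrix.one_apply, Pi.single_apply]
    split_ifs <;> simp
  rwa [hG, mul_one, one_smul] at h

/-- A subfield structure on a normaliser in the unitary group carries the form. -/
theorem unitary_subfield (hF : Fintype.card F = q ^ 2) (h2 : 2 ≤ n) (hodd : Odd n) {H P : Subgroup (GL (Fin n) F)}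
    (hH : H ≤ Cfsg.GU n F q) (hn : Normalises H P) (hPH : P ≤ H) (hai : ActsAbsolutelyIrreducibly (matrixSet P))
    {F₀ : Subfield F} (hne : F₀ ≠ ⊤) (hreal : RealisableOver F₀ (matrixSet P)) :
    ∃ (F₁ : Subfield F) (r : ℕ) (B : GL (Fin n) F), r.Prime ∧ Fintype.card F = Nat.card F₁ ^ r ∧ F₁ ≠ ⊤ ∧
      H ≤ subfieldSubgroup F₁ B ∧ IsFormRationalStructure (Cfsg.hermForm n F q) F₁ 1 B ∧
      (Odd r ∨ (r = 2 ∧ Odd q)) := by
  classical
  haveI : Nonempty (Fin n) := ⟨⟨0, by omega⟩⟩
  obtain ⟨F₁, r, B, hr, hcard, hle, hent⟩ := le_subfield_of_realisable hn hai hne hreal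
  rw [Nat.card_eq_fintype_card] at hcard
  have hF₁ : F₁ ≠ ⊤ := fun h => by
    rw [h, Nat.card_congr Subfield.topEquiv.toEquiv, Nat.card_eq_fintype_card] at hcard
    have h1 : Fintype.card F < Fintype.card F ^ r := lt_self_pow₀ Fintype.one_lt_card hr.one_lt
    omega
  set σ := frob hF with hσ
  have hσ₁ : ∀ x ∈ F₁, σ x ∈ F₁ := fun x hx => by rw [hσ, frob_apply]; exact pow_mem hx q
  set Bm : Matrix (Fin n) (Fin n) F := (B : Matrix (Fin n) (Fin n) F)
  set Bi : Matrix (Fin n) (Fin n) F := ((B⁻¹ : GL (Fin n) F) : Matrix (Fin n) (Fin n) F)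
  set G := Bmᵀ * Bm.map σ with hGdef
  have hGdet : G.det ≠ 0 := by
    rw [hGdef, Matrix.det_mul, Matrix.det_transpose,
      show (Bm.map σ).det = σ Bm.det from ((σ : F →+* F).map_det Bm).symm]
    exact mul_ne_zero (gl_det_ne_zero B) fun e => gl_det_ne_zero B (σ.injective (e.trans σ.map_zero.symm))
  let GG : GL (Fin n) F := Matrix.GeneralLinearGroup.mkOfDetNeZero G hGdet
  set S : P → Matrix (Fin n) (Fin n) F := fun s => ((B⁻¹ * (s : GL (Fin n) F) * B : GL (Fin n) F) : Matrix (Fin n) (Fin n) F)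
  have hS : ∀ s : P, (S s)ᵀ * G * (S s).map σ = G := fun s => by
    have e : Bm * S s = ((s : GL (Fin n) F) : Matrix (Fin n) (Fin n) F) * Bm := by
      simp only [S, Bm, ← Units.val_mul]
      congr 1
      simp [mul_assoc]
    calc (S s)ᵀ * G * (S s).map σ = (Bm * S s)ᵀ * (Bm * S s).map σ := by
          rw [hGdef, Matrix.transpose_mul, Matrix.map_mul]; simp only [mul_assoc]
      _ = Bmᵀ * ((((s : GL (Fin n) F) : Matrix (Fin n) (Fin n) F))ᵀ *
            ((s : GL (Fin n) F) : Matrix (Fin n) (Fin n) F).map σ) * Bm.map σ := by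
          rw [e, Matrix.transpose_mul, Matrix.map_mul]; simp only [mul_assoc]
      _ = G := by rw [hσ, gu_transpose hF (hH (hPH s.2)), mul_one, hGdef]
  have hcomm : ∀ M : Matrix (Fin n) (Fin n) F, (∀ s : P, M * S s = S s * M) → ∃ c : F, M = c • 1 := by
    intro M hM
    obtain ⟨c, hc⟩ := hai.2 (Bm * M * Bi) (forall_matrixSet.mpr fun g hg => by
      have e : M * (Bi * (g : Matrix (Fin n) (Fin n) F) * Bm) = (Bi * (g : Matrix (Fin n) (Fin n) F) * Bm) * M := by
        have := hM ⟨g, hg⟩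
        simpa only [S, Units.val_mul, Bi, Bm] using this
      calc Bm * M * Bi * (g : Matrix (Fin n) (Fin n) F)
          = Bm * (M * (Bi * (g : Matrix (Fin n) (Fin n) F) * Bm)) * Bi := by
            simp only [mul_assoc, show Bm * Bi = 1 from val_mul_inv B, mul_one]
        _ = (Bm * Bi) * (g : Matrix (Fin n) (Fin n) F) * (Bm * M * Bi) := by rw [e]; simp only [mul_assoc]
        _ = (g : Matrix (Fin n) (Fin n) F) * (Bm * M * Bi) := by rw [show Bm * Bi = 1 from val_mul_inv B, one_mul])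
    refine ⟨c, ?_⟩
    calc M = (Bi * Bm) * M * (Bi * Bm) := by rw [show Bi * Bm = 1 from val_inv_mul B, one_mul, mul_one]
      _ = Bi * (Bm * M * Bi) * Bm := by simp only [mul_assoc]
      _ = c • 1 := by rw [hc, Matrix.mul_smul, Matrix.smul_mul, mul_one, show Bi * Bm = 1 from val_inv_mul B]
  obtain ⟨c, hc0, hcG⟩ := scaled_intertwiner (F₀ := F₁) (α := P) (a := fun s => (S s).map σ)
    (b := fun s => (S s⁻¹)ᵀ) (g := GG)
    (fun M hM => by
      obtain ⟨c, hc⟩ := hcomm (M.map σ) (fun s => by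
        have := congrArg (fun X : Matrix (Fin n) (Fin n) F => X.map σ) (hM s)
        simp only [Matrix.map_mul, Matrix.map_map] at this
        rwa [show (⇑σ ∘ ⇑σ) = id from funext fun a => frob_frob hF a, Matrix.map_id] at this)
      refine ⟨σ c, ?_⟩
      have := congrArg (fun X : Matrix (Fin n) (Fin n) F => X.map σ) hc
      simp only [Matrix.map_map] at this
      rw [show (⇑σ ∘ ⇑σ) = id from funext fun a => frob_frob hF a, Matrix.map_id] at this
      rw [this]
      ext i j
      simp [Matrix.one_apply, apply_ite σ])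
    (fun s i j => hσ₁ _ (hent s s.2 i j)) (fun s i j => hent _ (P.inv_mem s.2) j i)
    (fun s => by
      have e : (S s⁻¹)ᵀ * (S s)ᵀ = 1 := by
        rw [← Matrix.transpose_mul]
        simp only [S, ← Units.val_mul]
        rw [show B⁻¹ * (s : GL (Fin n) F) * B * (B⁻¹ * ((s⁻¹ : P) : GL (Fin n) F) * B) = 1 by simp [mul_assoc],
          Units.val_one, Matrix.transpose_one]
      show G * (S s).map σ = (S s⁻¹)ᵀ * G
      calc G * (S s).map σ = (S s⁻¹)ᵀ * ((S s)ᵀ * G * (S s).map σ) := by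
            rw [← mul_assoc, ← mul_assoc, e, one_mul]
        _ = (S s⁻¹)ᵀ * G := by rw [hS s])
  change ∀ i j, c * G i j ∈ F₁ at hcG
  have hherm : ∀ i j, σ (G i j) = G j i := fun i j => by
    rw [hGdef, Matrix.mul_apply, Matrix.mul_apply, map_sum]
    refine Finset.sum_congr rfl fun k _ => ?_
    simp only [Matrix.transpose_apply, Matrix.map_apply, map_mul, hσ, frob_frob]
    ring
  obtain ⟨i₀, j₀, hij⟩ : ∃ i j, G i j ≠ 0 := by
    by_contra h
    push Not at h
    exact hGdet (Matrix.det_eq_zero_of_row_eq_zero (Classical.arbitrary _) (h _))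
  set ε := σ c / c with hε
  have hεmem : ε ∈ F₁ := by
    have e : ε = σ (c * G i₀ j₀) / (c * G j₀ i₀) := by
      rw [hε, map_mul, hherm, mul_div_mul_right _ _ (fun e => hij (by
        rw [← hherm i₀ j₀] at e; exact σ.injective (e.trans σ.map_zero.symm)))]
    rw [e]
    exact div_mem (hσ₁ _ (hcG i₀ j₀)) (hcG j₀ i₀)
  have hσc : σ c ≠ 0 := fun e => hc0 (σ.injective (e.trans σ.map_zero.symm))
  have hεε : ε * σ ε = 1 := by
    rw [hε, map_div₀, hσ, frob_frob, div_mul_div_comm, mul_comm, div_self (mul_ne_zero hc0 hσc)]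
  -- it is enough to find a multiplier fixed by the Frobenius
  suffices h : ∃ d : F, d ≠ 0 ∧ σ d = d ∧ (∀ i j, d * G i j ∈ F₁) ∧ (Odd r ∨ (r = 2 ∧ Odd q)) by
    obtain ⟨d, hd0, hdσ, hdG, hrr⟩ := h
    obtain ⟨μ, hμ⟩ := exists_norm_eq hF hdσ
    have hμ0 : μ ≠ 0 := fun e => hd0 (by rw [← hμ, e, zero_mul])
    refine ⟨F₁, r, B * scalarGL hμ0, hr, hcard, hF₁, (map_conj_scalar F₁ B hμ0).symm ▸ hle, fun u v hu hv => ?_, hrr⟩
    rw [one_mul, Units.val_mul, scalarGL_val, Matrix.mul_smul, mul_one, Matrix.smul_mulVec, Matrix.smul_mulVec,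
      (herm_isSesq hF).smul_left, (herm_isSesq hF).smul_right, ← mul_assoc, hμ, (herm_isSesq hF).apply_mulVec]
    have hG1 : gramMatrix (Cfsg.hermForm n F q) = 1 := by
      ext i j
      simp only [gramMatrix, hermForm_eq hF, stdHerm, Units.val_one, Matrix.one_mulVec]
      rw [Finset.sum_eq_single i (fun l _ hl => by rw [Pi.single_eq_of_ne hl, zero_mul]) (by simp), Pi.single_eq_same,
        one_mul, Matrix.one_apply, Pi.single_apply]
      split_ifs <;> simp
    rw [hG1, mul_one, show Bmᵀ * Bm.map σ = G from rfl]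
    simp only [dotProduct, Matrix.mulVec, Function.comp_apply, Finset.mul_sum]
    refine sum_mem fun i _ => sum_mem fun j _ => ?_
    rw [show d * (u i * (G i j * σ (v j))) = u i * (d * G i j) * σ (v j) by ring]
    exact mul_mem (mul_mem (hu i) (hdG i j)) (hσ₁ _ (hv j))
  by_cases hnt : ∃ z ∈ F₁, σ z ≠ z
  · obtain ⟨z, hz, hzne⟩ := hnt
    have hodd_r : Odd r := by
      rcases hr.eq_two_or_odd' with rfl | h
      · exfalso
        apply hzne
        have hcq : Nat.card F₁ = q := Nat.pow_left_injective two_ne_zero (hcard.symm.trans hF)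
        haveI : Finite F₁ := Finite.of_injective _ Subtype.val_injective
        letI := Fintype.ofFinite F₁
        have h1 := congrArg Subtype.val (FiniteField.pow_card (⟨z, hz⟩ : F₁))
        rw [Fintype.card_eq_nat_card, hcq] at h1
        rw [hσ, frob_apply]
        exact h1
      · exact h
    obtain ⟨d, hdmem, hd0, hd⟩ : ∃ d ∈ F₁, d ≠ 0 ∧ σ d = ε * d := by
      by_cases h1 : 1 + σ ε = 0
      · refine ⟨z + σ z * σ ε, add_mem hz (mul_mem (hσ₁ _ hz) (hσ₁ _ hεmem)), fun e => hzne ?_, ?_⟩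
        · have : σ ε = -1 := by linear_combination h1
          rw [this] at e
          linear_combination -e
        · rw [map_add, map_mul, hσ, frob_frob, frob_frob, mul_add, ← mul_assoc, mul_comm ε (frob hF z), mul_assoc,
            hεε]
          ring
      · exact ⟨1 + σ ε, add_mem (one_mem _) (hσ₁ _ hεmem), h1, by
          rw [map_add, map_one, hσ, frob_frob, mul_add, hεε]; ring⟩
    refine ⟨c / d, div_ne_zero hc0 hd0, ?_, fun i j => ?_, Or.inl hodd_r⟩
    · rw [map_div₀, hd, hε, div_eq_div_iff (mul_ne_zero (div_ne_zero hσc hc0) hd0) hd0]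
      field_simp
    · rw [div_mul_eq_mul_div]
      exact div_mem (hcG i j) hdmem
  push Not at hnt
  obtain ⟨p, f, hp, hchar, hf0, hf⟩ := exists_char_card F
  haveI := Fact.mk hp
  have hr2 : r = 2 := by
    rw [Nat.card_eq_fintype_card, hF] at hf
    obtain ⟨m, -, hm⟩ := (Nat.dvd_prime_pow hp).mp (hf ▸ dvd_pow_self q two_ne_zero : q ∣ p ^ f)
    have hf2 : f = 2 * m := (Nat.pow_right_injective hp.two_le (by
      show p ^ (2 * m) = p ^ f
      rw [mul_comm, pow_mul, ← hm, hf])).symm
    have hmle : F₁ ≤ powField F p m := fun x hx => mem_powField.mpr (by rw [← hm, ← frob_apply hF]; exact hnt x hx)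
    letI : Algebra F₁ (powField F p m) := (Subfield.inclusion hmle).toAlgebra
    have hk := Module.natCard_eq_pow_finrank (K := F₁) (V := powField F p m)
    rw [card_powField (F := F) (f := f) (by omega) (by rw [Nat.card_eq_fintype_card, hF, hf]) ⟨2, by omega⟩, ← hm] at hk
    set k := Module.finrank F₁ (powField F p m)
    have h1 : 1 < Nat.card F₁ := Finite.one_lt_card
    have h3 : r = k * 2 := Nat.pow_right_injective h1 (by
      show Nat.card F₁ ^ r = Nat.card F₁ ^ (k * 2)
      rw [pow_mul, ← hk, ← hF, ← hcard])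
    exact ((Nat.prime_dvd_prime_iff_eq Nat.prime_two hr).mp ⟨k, by rw [h3, mul_comm]⟩).symm
  have hfixG : ∀ i j, c * G j i = ε⁻¹ * (c * G i j) := fun i j => by
    have e := hnt _ (hcG i j)
    rw [map_mul, hherm] at e
    rw [hε, inv_div]
    field_simp
    linear_combination e
  have hsq : ε * ε = 1 := by
    have e := hεε
    rwa [hnt ε hεmem] at e
  have hεinv : ε⁻¹ = ε := inv_eq_of_mul_eq_one_right hsq
  let G₁ : Matrix (Fin n) (Fin n) F := c • G
  have hG₁t : G₁ᵀ = ε • G₁ := by
    ext i j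
    simp only [G₁, Matrix.transpose_apply, Matrix.smul_apply, smul_eq_mul]
    rw [hfixG i j, hεinv]
  have hG₁det : G₁.det ≠ 0 := by
    rw [Matrix.det_smul]
    exact mul_ne_zero (pow_ne_zero _ hc0) hGdet
  have hε1 : ε = 1 := by
    have h := congrArg Matrix.det hG₁t
    rw [Matrix.det_transpose, Matrix.det_smul G₁ ε, Fintype.card_fin] at h
    obtain ⟨k, hk⟩ := hodd
    have hp : ε ^ n = ε := calc
      ε ^ n = ε ^ (2 * k + 1) := congrArg _ hk
      _ = ε := by rw [pow_succ, pow_mul, pow_two ε, hsq, one_pow, one_mul]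
    rw [hp] at h
    exact (mul_eq_right₀ hG₁det).mp h.symm
  have hσcc : σ c = c := by
    have := hε1
    rwa [hε, div_eq_one_iff_eq hc0] at this
  refine ⟨c, hc0, hσcc, hcG, Or.inr ⟨hr2, ?_⟩⟩
  rcases Nat.even_or_odd q with heven | h
  swap
  · exact h
  exfalso
  have hp2 : p = 2 := by
    rw [Nat.card_eq_fintype_card, hF] at hf
    have h2 : 2 ∣ p ^ f := hf ▸ dvd_pow (even_iff_two_dvd.mp heven) two_ne_zero
    exact ((Nat.prime_dvd_prime_iff_eq Nat.prime_two hp).mp (Nat.prime_two.dvd_of_dvd_pow h2)).symm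
  subst hp2
  have hsymm : ∀ i j, G₁ i j = G₁ j i := fun i j => by
    have := congrFun (congrFun hG₁t j) i
    simpa [hε1] using this
  have hsqrt : Function.Surjective (frobenius F 2) :=
    Finite.injective_iff_surjective.mp (frobenius_inj F 2)
  choose w hw using fun i => hsqrt (G₁ i i)
  have hw' : ∀ i, w i ^ 2 = G₁ i i := hw
  have hwS : ∀ s : P, ∀ i, ∑ k, w k * S s k i = w i := by
    intro s i
    refine frobenius_inj F 2 ?_
    show (∑ k, w k * S s k i) ^ 2 = w i ^ 2
    rw [CharTwo.sum_sq, hw']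
    have hmap : (S s).map σ = S s := Matrix.ext fun a b => hnt _ (hent s s.2 a b)
    have h := congrFun (congrFun (hS s) i) i
    rw [hmap] at h
    calc ∑ k, (w k * S s k i) ^ 2 = ∑ k, G₁ k k * S s k i ^ 2 :=
          Finset.sum_congr rfl fun k _ => by rw [mul_pow, hw']
      _ = ∑ a, ∑ b, S s a i * G₁ a b * S s b i := (symm_quad_diag hsymm fun k => S s k i).symm
      _ = c * ((S s)ᵀ * G * S s) i i := by
          simp only [Matrix.mul_apply, Matrix.transpose_apply, Finset.mul_sum, Finset.sum_mul, G₁, Matrix.smul_apply,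
            smul_eq_mul]
          rw [Finset.sum_comm]
          exact Finset.sum_congr rfl fun a _ => Finset.sum_congr rfl fun b _ => by ring
      _ = G₁ i i := by rw [h]; rfl
  have hw0 : w = 0 := by
    by_contra hw0
    let ℓ : (Fin n → F) →ₗ[F] F :=
      { toFun := fun v => w ⬝ᵥ (Bi *ᵥ v)
        map_add' := fun a b => by simp [Matrix.mulVec_add, dotProduct_add]
        map_smul' := fun a b => by simp [Matrix.mulVec_smul, dotProduct_smul] }
    rcases (irreducible_iff P).mp hai.1 (LinearMap.ker ℓ) (fun g hg v hv => by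
      rw [LinearMap.mem_ker] at hv ⊢
      show w ⬝ᵥ (Bi *ᵥ ((g : Matrix (Fin n) (Fin n) F) *ᵥ v)) = 0
      have e : Bi * (g : Matrix (Fin n) (Fin n) F) = S ⟨g, hg⟩ * Bi := by
        simp only [S, Bi, ← Units.val_mul]
        congr 1
        simp [mul_assoc]
      rw [Matrix.mulVec_mulVec, e, ← Matrix.mulVec_mulVec, Matrix.dotProduct_mulVec,
        show Matrix.vecMul w (S ⟨g, hg⟩) = w from funext fun i => hwS ⟨g, hg⟩ i]
      exact hv) with h | h
    · have h1 := LinearMap.finrank_range_add_finrank_ker ℓ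
      rw [h, finrank_bot, add_zero, finrank_pi_card, Fintype.card_fin] at h1
      have h2' := Submodule.finrank_le (LinearMap.range ℓ)
      rw [Module.finrank_self] at h2'
      omega
    · apply hw0
      funext i
      have := LinearMap.congr_fun (LinearMap.ker_eq_top.mp h) (Bm *ᵥ Pi.single i 1)
      change w ⬝ᵥ (Bi *ᵥ (Bm *ᵥ Pi.single i 1)) = 0 at this
      rw [Matrix.mulVec_mulVec, show Bi * Bm = 1 from val_inv_mul B, Matrix.one_mulVec, dotProduct_single, mul_one] at this
      exact this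
  refine no_alternating (Fintype.card_fin n) hodd (f := fun u v => u ⬝ᵥ (G₁ *ᵥ v))
    ⟨fun x y v => by simp [add_dotProduct], fun a x v => by simp [smul_dotProduct],
      fun v x y => by simp [Matrix.mulVec_add, dotProduct_add],
      fun a v x => by simp [Matrix.mulVec_smul, dotProduct_smul]⟩ (fun v => ?_) (fun v hv => ⟨?_, ?_⟩)
  · simp only [dotProduct, Matrix.mulVec, Finset.mul_sum, ← mul_assoc]
    rw [symm_quad_diag hsymm]
    refine Finset.sum_eq_zero fun i _ => ?_
    rw [← hw' i, congrFun hw0 i, Pi.zero_apply]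
    ring
  · by_contra hc'
    push Not at hc'
    refine hG₁det (Matrix.exists_mulVec_eq_zero_iff.mp ⟨v, hv, funext fun i => ?_⟩)
    simpa [single_one_dotProduct] using hc' (Pi.single i 1)
  · by_contra hc'
    push Not at hc'
    refine hG₁det (Matrix.exists_vecMul_eq_zero_iff.mp ⟨v, hv, funext fun i => ?_⟩)
    have hi := hc' (Pi.single i 1)
    rw [Matrix.mulVec_single_one] at hi
    exact hi

/-- A group of isometries of both a Hermitian and a quadratic form is realisable over the fixed field. -/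
theorem realisable_of_quad (hF : Fintype.card F = q ^ 2) (hodd : Odd n) {P : Subgroup (GL (Fin n) F)}
    (hP : P ≤ Cfsg.GU n F q) (hai : ActsAbsolutelyIrreducibly (matrixSet P)) {Q : (Fin n → F) → F}
    (hQ : IsNondegenerateQuadraticForm Q) (hfix : FixesQuadForm (matrixSet P) Q) :
    ∃ F₀ : Subfield F, F₀ ≠ ⊤ ∧ RealisableOver F₀ (matrixSet P) := by
  classical
  by_cases h2 : (2 : F) = 0
  · exact (no_quadratic_of_two_eq_zero (Fintype.card_fin n) hodd h2 hQ).elim
  set σ := frob hF with hσ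
  set A := gramMatrix (QuadraticMap.polar Q) with hAdef
  have hAdet := (IsSesq.of_quadratic hQ).det_gram_ne_zero
  have hA : ∀ g ∈ P, (g : Matrix (Fin n) (Fin n) F)ᵀ * A * (g : Matrix (Fin n) (Fin n) F) = A := fun g hg => by
    have h := ((IsSesq.of_quadratic hQ).fixes_iff (s := (g : Matrix (Fin n) (Fin n) F)) (1 : F)).mp (fun u v => by
      rw [one_mul]
      have hq := hfix (g : Matrix (Fin n) (Fin n) F) (mem_matrixSet hg)
      simp only [QuadraticMap.polar, ← Matrix.mulVec_add, hq])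
    rw [one_smul] at h
    simpa using h
  have hint : ∀ g ∈ P, A * (g : Matrix (Fin n) (Fin n) F) = (g : Matrix (Fin n) (Fin n) F).map σ * A := fun g hg => by
    have e := gu_transpose hF (hP hg)
    have hinv : (g : Matrix (Fin n) (Fin n) F).map σ * (g : Matrix (Fin n) (Fin n) F)ᵀ = 1 := mul_eq_one_comm.mp e
    calc A * (g : Matrix (Fin n) (Fin n) F) = ((g : Matrix (Fin n) (Fin n) F).map σ * (g : Matrix (Fin n) (Fin n) F)ᵀ) *
          (A * (g : Matrix (Fin n) (Fin n) F)) := by rw [hinv, one_mul]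
      _ = (g : Matrix (Fin n) (Fin n) F).map σ * A := by
          rw [mul_assoc, ← mul_assoc (g : Matrix (Fin n) (Fin n) F)ᵀ, hA g hg]
  have hmm : ∀ M : Matrix (Fin n) (Fin n) F, (M.map σ).map σ = M := fun M => by
    rw [Matrix.map_map, show (⇑σ ∘ ⇑σ) = id from funext fun a => frob_frob hF a, Matrix.map_id]
  obtain ⟨ρ, hρ⟩ := hai.2 (A.map σ * A) (forall_matrixSet.mpr fun g hg => by
    have e := congrArg (fun X : Matrix (Fin n) (Fin n) F => X.map σ) (hint g hg)
    simp only [Matrix.map_mul, hmm] at e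
    rw [mul_assoc, hint g hg, ← mul_assoc, e, mul_assoc])
  have hσA : (A.map σ).det ≠ 0 := by
    rw [show (A.map σ).det = σ A.det from ((σ : F →+* F).map_det A).symm]
    exact fun e => hAdet (σ.injective (e.trans σ.map_zero.symm))
  have hρ0 : ρ ≠ 0 := fun e => by
    have hd := congrArg Matrix.det hρ
    rw [Matrix.det_mul, Matrix.det_smul, e, zero_pow (by simpa using hodd.pos.ne'), zero_mul] at hd
    exact mul_ne_zero hσA hAdet hd
  have hρσ : σ ρ = ρ := by
    haveI : Nonempty (Fin n) := ⟨⟨0, hodd.pos⟩⟩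
    have e2 : A * A.map σ = σ ρ • (1 : Matrix (Fin n) (Fin n) F) := by
      have := congrArg (fun X : Matrix (Fin n) (Fin n) F => X.map σ) hρ
      simp only [Matrix.map_mul, hmm] at this
      rw [this]
      ext i j
      simp [Matrix.one_apply, apply_ite σ]
    have e3 := congrArg (fun X => A * X) hρ
    simp only [← mul_assoc, e2, Matrix.smul_mul, one_mul, Matrix.mul_smul, mul_one] at e3
    refine smul_left_injective F (fun e => hAdet ?_) e3
    rw [← hAdef, e, Matrix.det_zero]
  obtain ⟨μ, hμ⟩ := exists_norm_eq hF (a := ρ⁻¹) (by rw [map_inv₀, hρσ])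
  let J : (Fin n → F) → (Fin n → F) := fun v => ⇑σ ∘ ((μ • A) *ᵥ v)
  have hJadd : ∀ v w, J (v + w) = J v + J w := fun v w => by
    funext i
    simp [J, Matrix.mulVec_add]
  have hJsmul : ∀ (a : F) v, J (a • v) = σ a • J v := fun a v => by
    funext i
    simp only [J, Function.comp_apply, Matrix.mulVec_smul, Pi.smul_apply, smul_eq_mul, map_mul]
  have hJJ : ∀ v, J (J v) = v := fun v => by
    simp only [J]
    rw [comp_mulVec σ (μ • A) (⇑σ ∘ _), show ⇑σ ∘ (⇑σ ∘ ((μ • A) *ᵥ v)) = (μ • A) *ᵥ v from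
      funext fun i => frob_frob hF _, Matrix.mulVec_mulVec, show (μ • A).map σ = σ μ • A.map σ by
        ext i j; simp, Matrix.smul_mul, Matrix.mul_smul, hρ, smul_smul, smul_smul, mul_comm (σ μ) μ, hμ,
      inv_mul_cancel₀ hρ0, one_smul, Matrix.one_mulVec]
  have hJs : ∀ g ∈ P, ∀ v, J ((g : Matrix (Fin n) (Fin n) F) *ᵥ v) = (g : Matrix (Fin n) (Fin n) F) *ᵥ J v := by
    intro g hg v
    simp only [J, Matrix.mulVec_mulVec, Matrix.smul_mul]
    rw [hint g hg, ← Matrix.mul_smul, ← Matrix.mulVec_mulVec, comp_mulVec σ, hmm]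
  let Fix : Subfield F := (σ : F →+* F).eqLocusField (RingHom.id F)
  have hfix_mem : ∀ x, x ∈ Fix ↔ σ x = x := fun x => Iff.rfl
  obtain ⟨θ, hθ⟩ : ∃ θ, σ θ ≠ θ := by
    by_contra h
    push Not at h
    exact frob_ne_refl hF (RingEquiv.ext h)
  have hspan : Submodule.span F {v : Fin n → F | J v = v} = ⊤ := Submodule.eq_top_iff'.mpr fun v => by
    have h1 : v + J v ∈ Submodule.span F {v : Fin n → F | J v = v} := Submodule.subset_span (by
      show J _ = _; rw [hJadd, hJJ, add_comm])
    have h2 : θ • v + σ θ • J v ∈ Submodule.span F {v : Fin n → F | J v = v} := Submodule.subset_span (by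
      show J _ = _; rw [hJadd, hJsmul, hJsmul, hJJ, hσ, frob_frob, add_comm])
    have h3 := Submodule.smul_mem _ (θ - σ θ)⁻¹ (sub_mem h2 (Submodule.smul_mem _ (σ θ) h1))
    rwa [show θ • v + σ θ • J v - σ θ • (v + J v) = (θ - σ θ) • v by rw [smul_add, sub_smul]; abel, smul_smul,
      inv_mul_cancel₀ (sub_ne_zero.mpr hθ.symm), one_smul] at h3
  let b := Module.Basis.ofSpan hspan.ge
  haveI : Finite (LinearIndepOn.extend (linearIndepOn_empty F id) (Set.empty_subset {v : Fin n → F | J v = v})) :=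
    Subtype.finite
  letI := Fintype.ofFinite (LinearIndepOn.extend (linearIndepOn_empty F id) (Set.empty_subset {v : Fin n → F | J v = v}))
  have hcardb := Module.finrank_eq_card_basis b
  rw [finrank_pi_card, Fintype.card_fin] at hcardb
  let e := (Fintype.equivFinOfCardEq hcardb.symm)
  let b' := b.reindex e
  have hb' : ∀ i, J (b' i) = b' i := fun i => by
    rw [Module.Basis.reindex_apply]
    exact Module.Basis.ofSpan_subset hspan.ge ⟨e.symm i, rfl⟩
  let P' : Matrix (Fin n) (Fin n) F := Matrix.of fun a j => b' j a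
  have hcol : ∀ u : Fin n → F, P' *ᵥ u = ∑ j, u j • b' j := fun u => by
    funext a
    simp [P', Matrix.mulVec, dotProduct, Finset.sum_apply, mul_comm]
  have hdet : P'.det ≠ 0 := by
    intro h0
    obtain ⟨u, hu, hu'⟩ := Matrix.exists_mulVec_eq_zero_iff.mpr h0
    rw [hcol] at hu'
    exact hu (funext fun j => Fintype.linearIndependent_iff.mp b'.linearIndependent u hu' j)
  let PG : GL (Fin n) F := Matrix.GeneralLinearGroup.mkOfDetNeZero P' hdet
  refine ⟨Fix, fun h => hθ ((hfix_mem θ).mp (h ▸ Subfield.mem_top θ)), PG⁻¹, forall_matrixSet.mpr fun g hg i j => ?_⟩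
  rw [inv_inv, hfix_mem]
  set u := ((PG⁻¹ : GL (Fin n) F) : Matrix (Fin n) (Fin n) F) *ᵥ ((g : Matrix (Fin n) (Fin n) F) *ᵥ b' j) with hu
  have hPu : P' *ᵥ u = (g : Matrix (Fin n) (Fin n) F) *ᵥ b' j := mulVec_inv_mulVec PG _
  have hJu : J (P' *ᵥ u) = P' *ᵥ (⇑σ ∘ u) := by
    rw [hcol, hcol]
    have hJsum : ∀ (s : Finset (Fin n)), J (∑ k ∈ s, u k • b' k) = ∑ k ∈ s, σ (u k) • b' k := by
      intro s
      induction s using Finset.induction_on with
      | empty => simpa using hJsmul 0 0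
      | insert a s ha ih => rw [Finset.sum_insert ha, Finset.sum_insert ha, hJadd, ih, hJsmul, hb']
    exact hJsum Finset.univ
  have hσu : ⇑σ ∘ u = u := by
    have h : P' *ᵥ (⇑σ ∘ u) = P' *ᵥ u := by rw [← hJu, hPu, hJs g hg, hb']
    have h' := congrArg (fun x => ((PG⁻¹ : GL (Fin n) F) : Matrix (Fin n) (Fin n) F) *ᵥ x) h
    simp only [show P' = (PG : Matrix (Fin n) (Fin n) F) from rfl, inv_mulVec_mulVec] at h'
    exact h'
  have hentry : (((PG⁻¹ : GL (Fin n) F) : Matrix (Fin n) (Fin n) F) * (g : Matrix (Fin n) (Fin n) F) *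
      (PG : Matrix (Fin n) (Fin n) F)) i j = u i := by
    have : (PG : Matrix (Fin n) (Fin n) F) *ᵥ Pi.single j 1 = b' j := by rw [Matrix.mulVec_single_one]; rfl
    rw [hu, ← this, Matrix.mulVec_mulVec, Matrix.mulVec_mulVec, Matrix.mulVec_single_one]
    rfl
  rw [hentry]
  exact congrFun hσu i

end Cfsg.Lib.Classical.PrimeDim
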