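import Cfsg.Agent.Classical.PrimeDim.Members

/-! Maximal subgroups of `SL` in odd prime degree. -/

set_option autoImplicit false
set_option linter.unusedSimpArgs false
set_option linter.unusedSectionVars false
set_option linter.style.haveILetI false

namespace Cfsg.Lib.Classical.PrimeDim

open Matrix Cfsg.Geo
open scoped MatrixGroups

universe u

variable {ι : Type} [Fintype ι] [DecidableEq ι] {F : Type u} [Field F] {n : ℕ}

theorem eq_inf_of_maximal {G : Type*} [Group G] {K H M : Subgroup G} (hH : IsMaximalIn K H) (hle : H ≤ M)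
    (hnot : ¬ K ≤ M) : H = M ⊓ K :=
  ((hH.2 (M ⊓ K) (le_inf hle hH.1.le) inf_le_right).resolve_right (fun e => hnot (e ▸ inf_le_left))).symm

/-- A decomposition into lines gives coordinates in which its stabiliser is monomial. -/
theorem exists_monomial_basis (hcard : Fintype.card ι = n) {D : Fin n → Submodule F (ι → F)}
    (hD : IsMDecomposition 1 D) :
    ∃ B : GL ι F, ∀ h ∈ decompositionStabilizer D, ∃ (π : Equiv.Perm ι) (d : ι → F), (∀ j, d j ≠ 0) ∧
      ∀ i j, ((B * h * B⁻¹ : GL ι F) : Matrix ι ι F) i j = if i = π j then d j else 0 := by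
  classical
  have hvec : ∀ i, ∃ b ∈ D i, b ≠ 0 ∧ ∀ w ∈ D i, ∃ c : F, w = c • b := by
    intro i
    obtain ⟨⟨b, hb⟩, hb0, hb'⟩ := finrank_eq_one_iff'.mp (hD.finrank_eq i)
    refine ⟨b, hb, fun e => hb0 (Subtype.ext e), fun w hw => ?_⟩
    obtain ⟨c, hc⟩ := hb' ⟨w, hw⟩
    exact ⟨c, (congrArg Subtype.val hc).symm⟩
  choose b hb hb0 hbs using hvec
  let e : ι ≃ Fin n := Fintype.equivFinOfCardEq hcard
  let P : Matrix ι ι F := Matrix.of fun a j => b (e j) a
  have hPcol : ∀ j, P *ᵥ Pi.single j 1 = b (e j) := fun j => by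
    rw [Matrix.mulVec_single_one]; rfl
  have hPdet : P.det ≠ 0 := by
    intro h0
    obtain ⟨u, hu, hu'⟩ := Matrix.exists_mulVec_eq_zero_iff.mpr h0
    apply hu
    funext j
    have := (iSupIndep_iff_finsetSum_eq_zero_imp_eq_zero _).mp hD.indep Finset.univ
      (fun i => u (e.symm i) • b i) (fun i _ => Submodule.smul_mem _ _ (hb i))
      (by
        rw [← hu', ← Equiv.sum_comp e]
        funext a
        simp only [Matrix.mulVec, dotProduct, P, Matrix.of_apply, Finset.sum_apply, Pi.smul_apply, smul_eq_mul,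
          Equiv.symm_apply_apply]
        exact Finset.sum_congr rfl fun k _ => mul_comm _ _) (e j) (Finset.mem_univ _)
    rw [Equiv.symm_apply_apply] at this
    exact (smul_eq_zero.mp this).resolve_right (hb0 _)
  let PG : GL ι F := Matrix.GeneralLinearGroup.mkOfDetNeZero P hPdet
  refine ⟨PG⁻¹, fun h hh => ?_⟩
  obtain ⟨σ, hσ⟩ := hh
  have hc : ∀ j, ∃ c : F, (h : Matrix ι ι F) *ᵥ b (e j) = c • b (σ (e j)) := fun j =>
    hbs _ _ (hσ (e j) ▸ ⟨b (e j), hb _, Matrix.toLin'_apply _ _⟩)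
  choose d hd using hc
  refine ⟨(e.trans σ).trans e.symm, d, fun j hd0 => gl_mulVec_ne_zero h (hb0 (e j)) (by rw [hd j, hd0, zero_smul]),
    fun i j => ?_⟩
  rw [inv_inv]
  have hcol : ((PG⁻¹ * h * PG : GL ι F) : Matrix ι ι F) *ᵥ Pi.single j 1 = d j • Pi.single (e.symm (σ (e j))) 1 := by
    rw [Units.val_mul, Units.val_mul, ← Matrix.mulVec_mulVec, show (PG : Matrix ι ι F) = P from rfl, hPcol,
      ← Matrix.mulVec_mulVec, hd j]
    have : b (σ (e j)) = P *ᵥ Pi.single (e.symm (σ (e j))) 1 := by rw [hPcol, Equiv.apply_symm_apply]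
    rw [this, Matrix.mulVec_smul, show P = (PG : Matrix ι ι F) from rfl, inv_mulVec_mulVec]
  have h4 := congrFun hcol i
  rw [Matrix.mulVec_single_one] at h4
  rw [show ((PG⁻¹ * h * PG : GL ι F) : Matrix ι ι F) i j = _ from h4, Pi.smul_apply, Pi.single_apply, smul_eq_mul]
  simp only [Equiv.trans_apply]
  split_ifs <;> simp_all

theorem orderOf_natCast_facts {p : ℕ} (hn : n.Prime) (hpn : ¬ n ∣ p) :
    0 < orderOf (p : ZMod n) ∧ orderOf (p : ZMod n) ∣ n - 1 ∧
      ∀ d, n ∣ p ^ d - 1 ↔ orderOf (p : ZMod n) ∣ d := by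
  haveI := Fact.mk hn
  have hp0 : (p : ZMod n) ≠ 0 := fun h => hpn ((ZMod.natCast_eq_zero_iff p n).mp h)
  have hdvd := ZMod.orderOf_dvd_card_sub_one hp0
  refine ⟨Nat.pos_of_dvd_of_pos hdvd (Nat.sub_pos_of_lt hn.one_lt), hdvd, fun d => ?_⟩
  have h1 : 1 ≤ p ^ d := Nat.one_le_pow _ _ (Nat.pos_of_ne_zero fun h => hpn (h ▸ dvd_zero n))
  rw [orderOf_dvd_iff_pow_eq_one, ← ZMod.natCast_eq_zero_iff, Nat.cast_sub h1, sub_eq_zero, Nat.cast_pow, Nat.cast_one]

/-- The maximal subgroups of `SL` in odd prime degree. -/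
theorem linear_cases [Fintype F] (hcard : Fintype.card ι = n) (hn : n.Prime) (h3 : 3 ≤ n) {H : Subgroup (GL ι F)}
    (hH : IsMaximalIn (specialLinear ι F) H) :
    (∃ W : Submodule F (ι → F), W ≠ ⊥ ∧ W ≠ ⊤ ∧ H = subspaceStabilizer W ⊓ specialLinear ι F) ∨
    (5 ≤ Fintype.card F ∧ ∃ D : Fin n → Submodule F (ι → F), IsMDecomposition 1 D ∧
      H = decompositionStabilizer D ⊓ specialLinear ι F) ∨
    (∃ K : Subalgebra F (Matrix ι ι F), IsFieldSubalgebra n K ∧ H = subalgebraNormalizer K ⊓ specialLinear ι F) ∨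
    (∃ (F₀ : Subfield F) (r : ℕ) (P : GL ι F), r.Prime ∧ Fintype.card F = Nat.card F₀ ^ r ∧
      H = subfieldSubgroup F₀ P ⊓ specialLinear ι F) ∨
    ((∃ p e : ℕ, p.Prime ∧ CharP F p ∧ Fintype.card F = p ^ e ∧ Odd e ∧ e ∣ n - 1 ∧ orderOf (p : ZMod n) = e) ∧
      ∃ R : Subgroup (GL ι F), IsLinearSymplecticTypeData n R ∧ H = subgroupNormalizer R ⊓ specialLinear ι F) ∨
    (Odd (Fintype.card F) ∧ ∃ Q : (ι → F) → F, IsNondegenerateQuadraticForm Q ∧
      H = quadSimilarityGroup Q ⊓ specialLinear ι F) ∨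
    (∃ (σ : F ≃+* F) (f : (ι → F) → (ι → F) → F), IsUnitaryForm σ f ∧ H = similarityGroup f ⊓ specialLinear ι F) ∨
    InLinearResidualClass H := by
  classical
  haveI : Nonempty ι := Fintype.card_pos_iff.mp (by omega)
  haveI : Nontrivial ι := Fintype.one_lt_card_iff_nontrivial.mp (by omega)
  have hodd : Odd n := hn.odd_of_ne_two (by omega)
  by_cases hW : ∃ W : Submodule F (ι → F), W ≠ ⊥ ∧ W ≠ ⊤ ∧ Invariant H W
  · obtain ⟨W, h0, h1, hinv⟩ := hW
    exact Or.inl ⟨W, h0, h1, eq_inf_of_maximal hH hinv.le_stabilizer (not_le_subspace h0 h1)⟩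
  have hirr : ActsIrreducibly (matrixSet H) := (irreducible_iff H).mpr fun W hinv => by
    by_contra hc
    push Not at hc
    exact hW ⟨W, hc.1, hc.2, hinv⟩
  have hUnit : ∀ {σ : F ≃+* F} {f : (ι → F) → (ι → F) → F}, IsUnitaryForm σ f → H ≤ similarityGroup f →
      ∃ (σ : F ≃+* F) (f : (ι → F) → (ι → F) → F), IsUnitaryForm σ f ∧ H = similarityGroup f ⊓ specialLinear ι F :=
    fun {σ f} hf hle => ⟨σ, f, hf, eq_inf_of_maximal hH hle (not_le_similarity hcard h3 (IsSesq.of_unitary hf))⟩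
  have hQuad : ∀ {Q : (ι → F) → F}, IsNondegenerateQuadraticForm Q → H ≤ quadSimilarityGroup Q →
      ∃ Q : (ι → F) → F, IsNondegenerateQuadraticForm Q ∧ H = quadSimilarityGroup Q ⊓ specialLinear ι F :=
    fun {Q} hQ hle => ⟨Q, hQ, eq_inf_of_maximal hH hle (not_le_quadSimilarity hcard h3 hQ)⟩
  have hSub : ∀ {P : Subgroup (GL ι F)}, Normalises H P → ActsAbsolutelyIrreducibly (matrixSet P) →
      ∀ {F₀ : Subfield F}, F₀ ≠ ⊤ → RealisableOver F₀ (matrixSet P) →
      ∃ (F₀ : Subfield F) (r : ℕ) (P : GL ι F), r.Prime ∧ Fintype.card F = Nat.card F₀ ^ r ∧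
        H = subfieldSubgroup F₀ P ⊓ specialLinear ι F := by
    intro P hPn hPai F₀ hne hreal
    obtain ⟨F₁, r, B, hr, hcardF, hle, -⟩ := le_subfield_of_realisable hPn hPai hne hreal
    refine ⟨F₁, r, B, hr, Nat.card_eq_fintype_card (α := F) ▸ hcardF, eq_inf_of_maximal hH hle
      (not_le_subfieldSubgroup (fun h => ?_) B)⟩
    rw [h, Nat.card_congr Subfield.topEquiv.toEquiv] at hcardF
    have h1 : Nat.card F < Nat.card F ^ r := lt_self_pow₀ Finite.one_lt_card hr.one_lt
    omega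
  rcases core_cases hcard hn hodd hH.1.le hirr with ⟨N, -, -, D, hD⟩ | ⟨N, -, hNn, hK⟩ | ⟨R, -, hRn, hR⟩ | ⟨P, hP⟩
  · by_cases hq : 5 ≤ Fintype.card F
    · exact Or.inr (Or.inl ⟨hq, D, hD.decomp, eq_inf_of_maximal hH hD.le_stab (not_le_decomposition hD.decomp)⟩)
    obtain ⟨B, hB⟩ := exists_monomial_basis hcard hD.decomp
    have hq2 : 2 ≤ Fintype.card F := Fintype.one_lt_card
    have hpow : ∀ d : F, d ≠ 0 → d ^ (Fintype.card F - 1) = 1 := fun d hd => FiniteField.pow_card_sub_one_eq_one d hd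
    obtain hq' | hq' | hq' : Fintype.card F = 2 ∨ Fintype.card F = 3 ∨ Fintype.card F = 4 := by omega
    · exfalso
      set u : ι → F := ((B⁻¹ : GL ι F) : Matrix ι ι F) *ᵥ (fun _ => 1) with hu
      have hu0 : u ≠ 0 := gl_mulVec_ne_zero _ (fun e => one_ne_zero (congrFun e (Classical.arbitrary ι)))
      have hfix : ∀ h ∈ H, (h : Matrix ι ι F) *ᵥ u = u := by
        intro h hh
        obtain ⟨π, d, hd0, hM⟩ := hB h (hD.le_stab hh)
        have hd : ∀ j, d j = 1 := fun j => by simpa [hq'] using hpow (d j) (hd0 j)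
        have e : ((B * h * B⁻¹ : GL ι F) : Matrix ι ι F) *ᵥ (fun _ => (1 : F)) = fun _ => 1 := funext fun i => by
          rw [← π.apply_symm_apply i, monomial_mulVec hM, hd, one_mul]
        calc (h : Matrix ι ι F) *ᵥ u
            = ((B⁻¹ : GL ι F) : Matrix ι ι F) *ᵥ (((B * h * B⁻¹ : GL ι F) : Matrix ι ι F) *ᵥ (fun _ => (1 : F))) := by
              rw [hu, Matrix.mulVec_mulVec, Matrix.mulVec_mulVec, ← Units.val_mul, ← Units.val_mul]
              congr 2
              simp [mul_assoc]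
          _ = u := by rw [e]
      refine hW ⟨Submodule.span F {u}, fun e => hu0 (Submodule.span_singleton_eq_bot.mp e), fun e => ?_, ?_⟩
      · have := finrank_span_singleton (K := F) hu0
        rw [e, finrank_top, finrank_pi_card, hcard] at this
        omega
      · intro h hh v hv
        obtain ⟨c, rfl⟩ := Submodule.mem_span_singleton.mp hv
        rw [Matrix.mulVec_smul, hfix h hh]
        exact Submodule.smul_mem _ _ (Submodule.mem_span_singleton_self u)
    · have hoddF : Odd (Fintype.card F) := by rw [hq']; exact ⟨1, rfl⟩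
      refine Or.inr (Or.inr (Or.inr (Or.inr (Or.inr (Or.inl ⟨hoddF,
        hQuad (stdQuad_nondegenerate B (two_ne_zero_of_odd hoddF)) fun h hh => ?_⟩)))))
      obtain ⟨π, d, hd0, hM⟩ := hB h (hD.le_stab hh)
      exact ⟨1, fun v => by
        rw [Units.val_one, one_mul]
        exact stdQuad_fix hM (fun j => by simpa [hq', pow_two] using hpow (d j) (hd0 j)) v⟩
    · obtain ⟨σ, hσ, hne, hinv⟩ := exists_conj (F := F) (q₀ := 2) (by rw [hq']; norm_num)
      refine Or.inr (Or.inr (Or.inr (Or.inr (Or.inr (Or.inr (Or.inl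
        (hUnit (stdHerm_isUnitary B hne hinv) fun h hh => ?_)))))))
      obtain ⟨π, d, hd0, hM⟩ := hB h (hD.le_stab hh)
      refine ⟨1, fun u v => ?_⟩
      rw [Units.val_one, one_mul]
      exact stdHerm_fix hM (fun j => by
        rw [hσ, ← pow_succ']
        simpa [hq'] using hpow (d j) (hd0 j)) u v
  · exact Or.inr (Or.inr (Or.inl ⟨_, hK, eq_inf_of_maximal hH (le_subalgebraNormalizer_comm hNn)
      (not_le_field hcard h3 hK)⟩))
  · obtain ⟨p, f, hp, hchar, hf0, hf⟩ := exists_char_card F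
    haveI := Fact.mk hp
    haveI := Fact.mk hn
    obtain ⟨B, ζ, hζ, hB⟩ := hR.exists_basis hcard hn
    haveI : NeZero n := ⟨hn.ne_zero⟩
    haveI : NeZero ((n : ℕ) : F) := hζ.neZero'
    have hpn : n ≠ p := fun e => NeZero.ne (n : F) (e ▸ CharP.cast_eq_zero F p)
    obtain ⟨he0, he1, he⟩ := orderOf_natCast_facts (n := n) (p := p) hn
      (fun h => hpn ((Nat.prime_dvd_prime_iff_eq hn hp).mp h))
    set e := orderOf (p : ZMod n) with he_def
    have hef : e ∣ f := (he f).mp (by
      rw [← hf, ← Nat.card_units]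
      have hu := hζ.isUnit hn.ne_zero
      rw [hζ.eq_orderOf, ← hu.unit_spec, orderOf_units]
      exact orderOf_dvd_natCard hu.unit)
    by_cases hlt : e = f
    · rcases Nat.even_or_odd e with heven | hoe
      · obtain ⟨e', he'⟩ := heven
        have hF : Fintype.card F = (p ^ e') ^ 2 := by
          rw [← Nat.card_eq_fintype_card, hf, ← hlt, he', ← pow_mul]; ring_nf
        have hdvd : n ∣ p ^ e' + 1 := by
          have hsq : ((p : ZMod n) ^ e') * ((p : ZMod n) ^ e') = 1 := by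
            rw [← pow_add, ← he']; exact pow_orderOf_eq_one _
          rcases mul_self_eq_one_iff.mp hsq with h | h
          · exfalso
            have := orderOf_dvd_of_pow_eq_one h
            rw [← he_def] at this
            have := Nat.le_of_dvd (by omega) this
            omega
          · rw [← ZMod.natCast_eq_zero_iff, Nat.cast_add, Nat.cast_pow, h, Nat.cast_one, neg_add_cancel]
        obtain ⟨σ, g, hg, hfix⟩ := hR.exists_unitary_fixed hcard hn hF hdvd
        exact Or.inr (Or.inr (Or.inr (Or.inr (Or.inr (Or.inr (Or.inl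
          (hUnit hg (le_similarity hRn hR.absIrred (IsSesq.of_unitary hg) hfix))))))))
      · refine Or.inr (Or.inr (Or.inr (Or.inr (Or.inl ⟨⟨p, e, hp, hchar, ?_, hoe, he1, he_def.symm⟩, R, ?_,
          eq_inf_of_maximal hH (fun h hh => ?_) (not_le_heisenbergNormalizer hcard hn h3 hR)⟩))))
        · rw [← Nat.card_eq_fintype_card, hf, hlt]
        · refine ⟨hR.symplecticType, hR.absIrred, p, e, hpn, ⟨hp, hchar, ?_, ?_, ?_⟩,
            Or.inl ⟨hodd, hoe, hR.card_center, 1, le_rfl, hR.card⟩⟩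
          · rw [← Nat.card_eq_fintype_card, hf, hlt]
          · rw [hR.card_center]; exact (he e).mpr dvd_rfl
          · intro d hd0 hde hdvd
            rw [hR.card_center] at hdvd
            exact absurd (Nat.le_of_dvd hd0 ((he d).mp hdvd)) (by omega)
        · rw [subgroupNormalizer, Subgroup.mem_normalizer_iff]
          exact fun x => ⟨fun hx => hRn h hh x hx, fun hx => by simpa [mul_assoc] using hRn.inv hh hx⟩
    · refine Or.inr (Or.inr (Or.inr (Or.inl (hSub hRn hR.absIrred (F₀ := powField F p e) (fun h => ?_) ?_))))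
      · have := card_powField (F := F) he0 hf hef
        rw [h, Nat.card_congr Subfield.topEquiv.toEquiv, hf] at this
        exact hlt (Nat.pow_right_injective hp.two_le this).symm
      · refine ⟨B, forall_matrixSet.mpr fun g hg i j => ?_⟩
        obtain ⟨π, k, hk⟩ := hB g hg
        rw [← Units.val_mul, ← Units.val_mul, hk]
        split_ifs
        · refine pow_mem (mem_powField.mpr ?_) _
          have hle : 1 ≤ p ^ e := Nat.one_le_pow _ _ hp.pos
          obtain ⟨m, hm⟩ := (he e).mpr dvd_rfl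
          rw [show p ^ e = n * m + 1 by omega, pow_succ, pow_mul, hζ.pow_eq_one, one_pow, one_mul]
        · exact zero_mem _
  · by_cases hreal : ∃ F₀ : Subfield F, F₀ ≠ ⊤ ∧ RealisableOver F₀ (matrixSet P)
    · obtain ⟨F₀, hne, hreal⟩ := hreal
      exact Or.inr (Or.inr (Or.inr (Or.inl (hSub hP.normal hP.absIrred hne hreal))))
    by_cases hq : ∃ Q : (ι → F) → F, IsNondegenerateQuadraticForm Q ∧ FixesQuadForm (matrixSet P) Q
    · obtain ⟨Q, hQ, hfix⟩ := hq
      by_cases hoF : Odd (Fintype.card F)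
      · exact Or.inr (Or.inr (Or.inr (Or.inr (Or.inr (Or.inl ⟨hoF,
          hQuad hQ (le_quadSimilarity hP.normal hP.absIrred (two_ne_zero_of_odd hoF) hQ hfix)⟩)))))
      · exfalso
        refine no_quadratic_of_two_eq_zero hcard hodd ?_ hQ
        have hc : ringChar F = 2 := FiniteField.even_card_iff_char_two.mpr (Nat.even_iff.mp (Nat.not_odd_iff_even.mp hoF))
        have := ringChar.Nat.cast_ringChar (R := F)
        rwa [hc, Nat.cast_ofNat] at this
    by_cases hu : ∃ (σ : F ≃+* F) (f : (ι → F) → (ι → F) → F), IsUnitaryForm σ f ∧ FixesForm (matrixSet P) f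
    · obtain ⟨σ, g, hg, hfix⟩ := hu
      exact Or.inr (Or.inr (Or.inr (Or.inr (Or.inr (Or.inr (Or.inl
        (hUnit hg (le_similarity hP.normal hP.absIrred (IsSesq.of_unitary hg) hfix))))))))
    refine Or.inr (Or.inr (Or.inr (Or.inr (Or.inr (Or.inr (Or.inr
      ⟨P, hP.residualCore fun F₀ hne hr => hreal ⟨F₀, hne, hr⟩, hq, ?_, hu⟩))))))
    rintro ⟨f, hf, -⟩
    exact no_alternating hcard hodd hf.bilinear hf.alternating hf.nondegenerate

end Cfsg.Lib.Classical.PrimeDim
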