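import Cfsg.Agent.Classical.PrimeDim.OrthFrame
import Cfsg.Agent.Classical.Orth.StdForms

/-! Maximal subgroups of `Ω` in odd prime degree. -/

set_option autoImplicit false
set_option linter.unusedSimpArgs false
set_option linter.unusedSectionVars false
set_option linter.style.haveILetI false

namespace Cfsg.Lib.Classical.PrimeDim.Orth

open Matrix Cfsg.Geo
open scoped MatrixGroups
open Cfsg.Lib.Classical (HypQuad.perp HypQuad.mem_perp HypQuad.finrank_perp)

universe u

section

variable {ι : Type} [Fintype ι] [DecidableEq ι] {F : Type u} [Field F] [Fintype F] (Q : QuadraticForm F (ι → F))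
  (hQ : (QuadraticMap.polarBilin Q).Nondegenerate)

include hQ in
theorem perp_invariant {H : Subgroup (GL ι F)} (hH : H ≤ omegaGL (⇑Q)) {W : Submodule F (ι → F)}
    (hW : Invariant H W) : Invariant H (HypQuad.perp Q W) := fun g hg x hx => (HypQuad.mem_perp Q).mpr fun w hw => by
  rw [← mulVec_inv_mulVec g w, omega_polar Q (hH hg)]
  exact (HypQuad.mem_perp Q).mp hx _ (hW _ (H.inv_mem hg) w hw)

include hQ in
/-- A group stabilising a plus plane over three elements stabilises a non-singular point. -/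
theorem plane_point (h3 : Fintype.card F = 3) (h2 : (2 : F) ≠ 0) {W : Submodule F (ι → F)}
    (hWd : Module.finrank F W = 2) (hW : IsNondegenerateOn (QuadraticMap.polar (⇑Q)) W)
    (hplus : IsPlusTypeOn (⇑Q) W) {H : Subgroup (GL ι F)} (hH : H ≤ omegaGL (⇑Q)) (hinv : Invariant H W) :
    ∃ e, Q e = 1 ∧ Invariant H (Submodule.span F {e}) := by
  obtain ⟨U, hUW, hUs, hUd⟩ := hplus
  have hU1 : Module.finrank F U = 1 := by omega
  obtain ⟨u, huU, hu0⟩ := (Submodule.ne_bot_iff U).mp (fun e => by rw [e, finrank_bot] at hU1; exact zero_ne_one hU1)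
  have hu : Q u = 0 := hUs u huU
  obtain ⟨-, y, hy, huy⟩ := hW u (hUW huU) hu0
  set y' := (QuadraticMap.polar (⇑Q) u y)⁻¹ • y
  have huy' : QuadraticMap.polar (⇑Q) u y' = 1 := by
    rw [QuadraticMap.polar_smul_right, smul_eq_mul, inv_mul_cancel₀ huy]
  set v := y' - Q y' • u with hv_def
  have hvW : v ∈ W := sub_mem (W.smul_mem _ hy) (W.smul_mem _ (hUW huU))
  have huv : QuadraticMap.polar (⇑Q) u v = 1 := by
    rw [hv_def, QuadraticMap.polar_sub_right, huy', QuadraticMap.polar_smul_right, QuadraticMap.polar_self, hu]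
    simp
  have hv : Q v = 0 := by
    rw [hv_def, sub_eq_add_neg, ← neg_smul, Cfsg.Lib.Classical.WittQuad.val_smul_add, hu,
      QuadraticMap.polar_comm (⇑Q) y' u, huy']
    ring
  have hspan : ∀ w ∈ W, ∃ a b : F, w = a • u + b • v := by
    intro w hw
    have hli : LinearIndependent F ![u, v] := LinearIndependent.pair_iff.mpr fun a b hab => by
      have h1 := congrArg (fun x => QuadraticMap.polar (⇑Q) u x) hab
      simp only [QuadraticMap.polar_add_right, QuadraticMap.polar_smul_right, QuadraticMap.polar_self, hu, huv,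
        smul_zero, zero_add, smul_eq_mul, mul_one, QuadraticMap.polar_zero_right] at h1
      have hb0 : b = 0 := by linear_combination h1
      subst hb0
      rw [zero_smul, add_zero] at hab
      exact ⟨(smul_eq_zero.mp hab).resolve_right hu0, rfl⟩
    have hle : Submodule.span F (Set.range ![u, v]) ≤ W := Submodule.span_le.mpr (by
      rintro _ ⟨i, rfl⟩
      fin_cases i
      exacts [hUW huU, hvW])
    have e := Submodule.eq_of_le_of_finrank_le hle (by rw [finrank_span_eq_card hli, Fintype.card_fin, hWd])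
    rw [← e, Submodule.mem_span_range_iff_exists_fun] at hw
    obtain ⟨c, hc⟩ := hw
    refine ⟨c 0, c 1, ?_⟩
    rw [← hc]
    simp [Fin.sum_univ_two]
  refine ⟨u + v, by rw [QuadraticMap.map_add (f := Q), hu, hv, huv]; ring, fun g hg x hx => ?_⟩
  obtain ⟨t, rfl⟩ := Submodule.mem_span_singleton.mp hx
  obtain ⟨a, b, hab⟩ := hspan _ (hinv g hg _ (W.add_mem (hUW huU) hvW))
  have hq : a * b = 1 := by
    have e := omega_preserves' Q (hH hg) (u + v)
    rw [hab, QuadraticMap.map_add (f := Q), QuadraticMap.map_add (f := Q), QuadraticMap.map_smul,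
      QuadraticMap.map_smul, QuadraticMap.polar_smul_left, QuadraticMap.polar_smul_right, hu, hv, huv] at e
    simpa using e
  have hb : b = a := by
    have ha : a ≠ 0 := left_ne_zero_of_mul_eq_one hq
    have ha2 : a * a = 1 := by
      have := FiniteField.pow_card_sub_one_eq_one a ha
      rw [h3] at this
      rwa [← pow_two]
    exact mul_left_cancel₀ ha (hq.trans ha2.symm)
  rw [Matrix.mulVec_smul, hab, hb, ← smul_add, smul_smul]
  exact Submodule.mem_span_singleton.mpr ⟨t * a, rfl⟩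

include hQ in
/-- The maximal subgroups of `Ω` in odd prime degree. -/
theorem orth_cases {m n : ℕ} (hcard : Fintype.card ι = n) (hn : n.Prime) (hnm : n = 2 * m + 1) (hm3 : 3 ≤ m)
    (hoddq : Odd (Fintype.card F))
    (hdisc : (gramMatrix (QuadraticMap.polar (⇑Q))).det = 2 ∨ (gramMatrix (QuadraticMap.polar (⇑Q))).det = -2)
    {H : Subgroup (GL ι F)} (hH : IsMaximalIn (omegaGL (⇑Q)) H) :
    (∃ W : Submodule F (ι → F), W ≠ ⊥ ∧ IsTotallySingularQuad (⇑Q) W ∧
      H = subspaceStabilizer W ⊓ omegaGL (⇑Q)) ∨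
    (∃ W : Submodule F (ι → F), W ≠ ⊥ ∧ Even (Module.finrank F W) ∧
      IsNondegenerateOn (QuadraticMap.polar (⇑Q)) W ∧
      ¬ (Fintype.card F = 3 ∧ Module.finrank F W = 2 ∧ IsPlusTypeOn (⇑Q) W) ∧
      H = subspaceStabilizer W ⊓ omegaGL (⇑Q)) ∨
    ((Fintype.card F).Prime ∧ ∃ D : Fin n → Submodule F (ι → F), IsOrthogonalMDecomposition (⇑Q) 1 D ∧
      H = decompositionStabilizer D ⊓ omegaGL (⇑Q)) ∨
    (∃ (F₀ : Subfield F) (r : ℕ) (P : GL ι F), r.Prime ∧ Fintype.card F = Nat.card F₀ ^ r ∧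
      IsQuadFormRationalStructure (⇑Q) F₀ P ∧ H = subfieldSubgroup F₀ P ⊓ omegaGL (⇑Q)) ∨
    InOrthogonalResidualClass H := by
  classical
  have h2 : (2 : F) ≠ 0 := Cfsg.Lib.Classical.Refl.two_ne_zero_of_odd hoddq
  have hm : Fintype.card ι = 2 * m + 1 := hcard.trans hnm
  haveI : Nonempty ι := Fintype.card_pos_iff.mp (by omega)
  have hodd : Odd n := ⟨m, hnm⟩
  have hV : Module.finrank F (ι → F) = n := by rw [finrank_pi_card, hcard]
  have hiso : ∀ g ∈ H, ∀ x, Q ((g : Matrix ι ι F) *ᵥ x) = Q x := fun g hg => omega_preserves' Q (hH.1.le hg)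
  have hdet : H ≤ specialLinear ι F := fun g hg => omega_det Q (hH.1.le hg)
  have hSub : ∀ {P : Subgroup (GL ι F)} {F₀ : Subfield F}, P ≤ H → Normalises H P →
      ActsAbsolutelyIrreducibly (matrixSet P) → F₀ ≠ ⊤ → RealisableOver F₀ (matrixSet P) →
      ∃ (F₀ : Subfield F) (r : ℕ) (P : GL ι F), r.Prime ∧ Fintype.card F = Nat.card F₀ ^ r ∧
        IsQuadFormRationalStructure (⇑Q) F₀ P ∧ H = subfieldSubgroup F₀ P ⊓ omegaGL (⇑Q) := by
    intro P F₀ hPH hPn hai hne hreal
    obtain ⟨F₁, r, B, hr, hc, hne₁, hle, hstr⟩ :=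
      orth_subfield Q hQ h2 hm hdisc hPn (fun g hg => hiso g (hPH hg)) hai hne hreal
    exact ⟨F₁, r, B, hr, hc, hstr,
      eq_inf_of_maximal hH hle (omega_not_le_subfieldSubgroup Q hQ h2 (by omega) hne₁ B)⟩
  by_cases hW : ∃ W : Submodule F (ι → F), W ≠ ⊥ ∧ W ≠ ⊤ ∧ Invariant H W
  · obtain ⟨W, h0, h1, hinv⟩ := hW
    have hmem : ∀ {U : Submodule F (ι → F)}, U ≠ ⊥ → U ≠ ⊤ → Invariant H U →
        H = subspaceStabilizer U ⊓ omegaGL (⇑Q) := fun hU0 hU1 hU =>
      eq_inf_of_maximal hH hU.le_stabilizer (omega_not_le_subspace Q hQ h2 (by omega) hU0 hU1)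
    have hperp := perp_invariant Q hQ hH.1.le hinv
    by_cases hrad : W ⊓ HypQuad.perp Q W = ⊥
    swap
    · refine Or.inl ⟨W ⊓ HypQuad.perp Q W, hrad, fun w hw => ?_, hmem hrad
        (fun e => h1 (top_le_iff.mp (e ▸ inf_le_left))) (fun g hg v hv => ⟨hinv g hg v hv.1, hperp g hg v hv.2⟩)⟩
      rw [quad_eq_half Q h2, (HypQuad.mem_perp Q).mp hw.2 w hw.1, zero_div]
    have hnd : IsNondegenerateOn (QuadraticMap.polar (⇑Q)) W := by
      intro w hw hw0
      obtain ⟨x, hx, hne⟩ : ∃ x ∈ W, QuadraticMap.polar (⇑Q) x w ≠ 0 := by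
        by_contra hc
        push Not at hc
        exact hw0 ((Submodule.eq_bot_iff _).mp hrad w ⟨hw, (HypQuad.mem_perp Q).mpr hc⟩)
      exact ⟨⟨x, hx, hne⟩, x, hx, fun e => hne ((QuadraticMap.polar_comm _ _ _).trans e)⟩
    obtain ⟨hcompl, hndperp⟩ := Cfsg.Lib.Classical.Refl.nondeg_perp Q hQ hnd
    have hsum := Submodule.finrank_add_eq_of_isCompl hcompl
    rw [hV] at hsum
    have hpos : 0 < Module.finrank F W := Nat.pos_of_ne_zero fun e => h0 (Submodule.finrank_eq_zero.mp e)
    have hlt : Module.finrank F W < n := hV ▸ Submodule.finrank_lt h1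
    obtain ⟨U, hU0, hUlt, hUev, hUnd, hUinv⟩ : ∃ U : Submodule F (ι → F), 0 < Module.finrank F U ∧
        Module.finrank F U < n ∧ Even (Module.finrank F U) ∧ IsNondegenerateOn (QuadraticMap.polar (⇑Q)) U ∧
        Invariant H U := by
      rcases Nat.even_or_odd (Module.finrank F W) with he | he
      · exact ⟨W, hpos, hlt, he, hnd, hinv⟩
      · refine ⟨HypQuad.perp Q W, by omega, by omega, ?_, hndperp, hperp⟩
        obtain ⟨k, hk⟩ := he
        exact ⟨m - k, by omega⟩
    have hne : ∀ {X : Submodule F (ι → F)}, 0 < Module.finrank F X → Module.finrank F X < n → X ≠ ⊥ ∧ X ≠ ⊤ :=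
      fun ha hb => ⟨fun e => by rw [e, finrank_bot] at ha; omega, fun e => by rw [e, finrank_top, hV] at hb; omega⟩
    by_cases hex : Fintype.card F = 3 ∧ Module.finrank F U = 2 ∧ IsPlusTypeOn (⇑Q) U
    · obtain ⟨e, he, heinv⟩ := plane_point Q hQ hex.1 h2 hex.2.1 hUnd hex.2.2 hH.1.le hUinv
      have he0 : e ≠ 0 := fun h => by rw [h, QuadraticMap.map_zero] at he; exact zero_ne_one he
      have hend : IsNondegenerateOn (QuadraticMap.polar (⇑Q)) (Submodule.span F {e}) := by
        intro w hw hw0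
        obtain ⟨c, rfl⟩ := Submodule.mem_span_singleton.mp hw
        have hee : QuadraticMap.polar (⇑Q) (c • e) e ≠ 0 := by
          rw [QuadraticMap.polar_smul_left, QuadraticMap.polar_self, he]
          simpa [h2] using fun h : c = 0 => hw0 (by rw [h, zero_smul])
        exact ⟨⟨e, Submodule.mem_span_singleton_self e, by rwa [QuadraticMap.polar_comm]⟩,
          e, Submodule.mem_span_singleton_self e, hee⟩
      obtain ⟨hc', hnd'⟩ := Cfsg.Lib.Classical.Refl.nondeg_perp Q hQ hend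
      have hs' := Submodule.finrank_add_eq_of_isCompl hc'
      rw [hV, finrank_span_singleton he0] at hs'
      obtain ⟨ha, hb⟩ := hne (X := HypQuad.perp Q (Submodule.span F {e})) (by omega) (by omega)
      exact Or.inr (Or.inl ⟨_, ha, ⟨m, by omega⟩, hnd', fun h => by omega,
        hmem ha hb (perp_invariant Q hQ hH.1.le heinv)⟩)
    · obtain ⟨ha, hb⟩ := hne hU0 hUlt
      exact Or.inr (Or.inl ⟨U, ha, hUev, hUnd, hex, hmem ha hb hUinv⟩)
  push Not at hW
  have hirr : ActsIrreducibly (matrixSet H) := (irreducible_iff H).mpr fun W hinv =>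
    or_iff_not_imp_left.mpr fun h0 => by_contra fun h1 => hW W h0 h1 hinv
  rcases core_cases hcard hn hodd hdet hirr with ⟨N, hNH, -, D, hD⟩ | ⟨N, hNH, -, hK⟩ | ⟨R, hRH, -, hR⟩ | ⟨P, hP⟩
  · obtain ⟨hDnd, a, b, ha, hb⟩ := frame_orthogonal Q hQ h2 hodd hiso hNH hD
    by_cases hpr : (Fintype.card F).Prime
    · refine Or.inr (Or.inr (Or.inl ⟨hpr, D, ⟨hDnd, fun i j => ?_⟩,
        eq_inf_of_maximal hH hD.le_stab (omega_not_le_decomposition Q hQ h2 (by omega) hDnd)⟩))
      obtain ⟨h, hh, hmap⟩ := hD.trans i j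
      have hinj : Function.Injective (Matrix.toLin' (h : Matrix ι ι F)) := fun x y e => by
        rw [Matrix.toLin'_apply, Matrix.toLin'_apply] at e
        rw [← inv_mulVec_mulVec h x, e, inv_mulVec_mulVec]
      refine ⟨(Submodule.equivMapOfInjective _ hinj (D i)).trans (LinearEquiv.ofEq _ _ hmap), fun w => ?_⟩
      rw [LinearEquiv.trans_apply, LinearEquiv.coe_ofEq_apply, Submodule.coe_equivMapOfInjective_apply,
        Matrix.toLin'_apply, hiso h hh]
    · obtain ⟨p, f, hp, hchar, hf0, hf⟩ := exists_char_card F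
      haveI := Fact.mk hp
      have hne : powField F p 1 ≠ ⊤ := fun e => by
        have h1 := card_powField (F := F) (p := p) (m := 1) (f := f) one_pos hf (one_dvd f)
        rw [e, Nat.card_congr Subfield.topEquiv.toEquiv, Nat.card_eq_fintype_card, pow_one] at h1
        exact hpr (h1 ▸ hp)
      obtain ⟨F₁, r, -, hr, hc⟩ := exists_prime_index_subfield hne
      rw [Nat.card_eq_fintype_card] at hc
      have hne₁ : F₁ ≠ ⊤ := fun h => by
        rw [h, Nat.card_congr Subfield.topEquiv.toEquiv, Nat.card_eq_fintype_card] at hc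
        have h1 : Fintype.card F < Fintype.card F ^ r := lt_self_pow₀ Fintype.one_lt_card hr.one_lt
        omega
      obtain ⟨B, hle, hstr⟩ := frame_subfield Q hQ h2 hm hcard hdisc hiso hDnd hD.le_stab ha hb F₁
      exact Or.inr (Or.inr (Or.inr (Or.inl ⟨F₁, r, B, hr, hc, hstr,
        eq_inf_of_maximal hH hle (omega_not_le_subfieldSubgroup Q hQ h2 (by omega) hne₁ B)⟩)))
  · exact (no_field_commutant Q hQ h2 hcard hodd (by omega) (fun g hg => hiso g (hNH hg)) hK).elim
  · exact (no_heisenberg Q hQ (by omega) hR inferInstance (fun g hg => hiso g (hRH hg))).elim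
  · by_cases hreal : ∃ F₀ : Subfield F, F₀ ≠ ⊤ ∧ RealisableOver F₀ (matrixSet P)
    · obtain ⟨F₀, hne, hreal⟩ := hreal
      exact Or.inr (Or.inr (Or.inr (Or.inl (hSub hP.le hP.normal hP.absIrred hne hreal))))
    refine Or.inr (Or.inr (Or.inr (Or.inr ⟨P, hP.residualCore fun F₀ hne hr => hreal ⟨F₀, hne, hr⟩, ?_⟩)))
    rintro ⟨σ, f, hf, hfix⟩
    exact hreal (realisable_of_unitary Q hQ hm (fun g hg => hiso g (hP.le hg)) hP.absIrred hf hfix)

end

theorem oddForm_disc {F : Type u} [Field F] (h2 : (2 : F) ≠ 0) (m : ℕ) :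
    (gramMatrix (QuadraticMap.polar (⇑(Cfsg.Lib.Classical.Refl.oddForm m F)))).det = 2 ∨
      (gramMatrix (QuadraticMap.polar (⇑(Cfsg.Lib.Classical.Refl.oddForm m F)))).det = -2 := by
  classical
  let G : Matrix (Unit ⊕ (Fin m ⊕ Fin m)) (Unit ⊕ (Fin m ⊕ Fin m)) F :=
    Matrix.fromBlocks (Matrix.diagonal fun _ => 2) 0 0 (Matrix.fromBlocks 0 1 1 0)
  have e : gramMatrix (QuadraticMap.polar (⇑(Cfsg.Lib.Classical.Refl.oddForm m F))) = G := by
    ext i j
    rcases i with _ | i | i <;> rcases j with _ | j | j <;>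
      simp [G, gramMatrix, QuadraticMap.polar, Cfsg.Lib.Classical.Refl.oddForm_coe, Cfsg.quadFormOdd,
        Pi.single_apply, Matrix.one_apply, add_mul, mul_add, Finset.sum_add_distrib, eq_comm] <;> ring
  have hsq : G * G = Matrix.fromBlocks (Matrix.diagonal fun _ => 4) 0 0 1 := by
    simp only [G, Matrix.fromBlocks_multiply, Matrix.mul_zero, Matrix.zero_mul, add_zero, zero_add, Matrix.mul_one,
      Matrix.diagonal_mul_diagonal, Matrix.fromBlocks_one]
    norm_num
  have h := congrArg Matrix.det hsq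
  simp only [Matrix.det_mul, Matrix.det_fromBlocks_zero₂₁, Matrix.det_diagonal, Matrix.det_one, mul_one,
    Fintype.prod_unique] at h
  rw [e]
  rw [show (4 : F) = 2 * 2 by norm_num] at h
  exact mul_self_eq_mul_self_iff.mp h

end Cfsg.Lib.Classical.PrimeDim.Orth
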