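import Cfsg.Agent.Classical.PrimeDim.Core

/-! Subfields, descent of normalisers, and a monomial basis for Heisenberg groups. -/

set_option autoImplicit false
set_option linter.unusedSimpArgs false
set_option linter.unusedSectionVars false
set_option linter.style.haveILetI false

namespace Cfsg.Lib.Classical.PrimeDim

open Matrix Cfsg.Geo Polynomial
open scoped MatrixGroups

universe u

variable {ι : Type} [Fintype ι] [DecidableEq ι] {F : Type u} [Field F] {n : ℕ}

/-- The fixed field of the `m`-th power of Frobenius. -/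
def powField (F : Type u) [Field F] (p : ℕ) [ExpChar F p] (m : ℕ) : Subfield F :=
  (iterateFrobenius F p m).eqLocusField (RingHom.id F)

theorem mem_powField {p : ℕ} [ExpChar F p] {m : ℕ} {x : F} : x ∈ powField F p m ↔ x ^ p ^ m = x := by
  show iterateFrobenius F p m x = RingHom.id F x ↔ _
  rw [iterateFrobenius_def, RingHom.id_apply]

theorem card_powField [Finite F] {p : ℕ} [Fact p.Prime] [CharP F p] {m f : ℕ} (hm : 0 < m) (hf : Nat.card F = p ^ f)
    (hdvd : m ∣ f) : Nat.card (powField F p m) = p ^ m := by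
  classical
  have hp := (Fact.out : p.Prime)
  have hker : Nat.card (powMonoidHom (p ^ m - 1) : Fˣ →* Fˣ).ker = p ^ m - 1 := by
    rw [IsCyclic.card_powMonoidHom_ker, Nat.card_units, hf]
    exact Nat.gcd_eq_right (Nat.pow_sub_one_dvd_pow_sub_one p hdvd)
  have h1 : 1 ≤ p ^ m := Nat.one_le_pow _ _ hp.pos
  let e : Option (powMonoidHom (p ^ m - 1) : Fˣ →* Fˣ).ker → powField F p m := fun o => match o with
    | none => ⟨0, zero_mem _⟩
    | some u => ⟨((u : Fˣ) : F), mem_powField.mpr (by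
        have h : ((u : Fˣ)) ^ (p ^ m - 1) = 1 := u.2
        calc ((u : Fˣ) : F) ^ p ^ m = ((u : Fˣ) : F) ^ ((p ^ m - 1) + 1) := by rw [Nat.sub_add_cancel h1]
          _ = ((u : Fˣ) : F) := by rw [pow_succ, ← Units.val_pow_eq_pow_val, h, Units.val_one, one_mul])⟩
  have hbij : Function.Bijective e := by
    constructor
    · rintro (_ | a) (_ | b) h
      · rfl
      · exact absurd (congrArg Subtype.val h).symm (Units.ne_zero _)
      · exact absurd (congrArg Subtype.val h) (Units.ne_zero _)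
      · exact congrArg some (Subtype.ext (Units.ext (congrArg Subtype.val h)))
    · rintro ⟨x, hx⟩
      by_cases h0 : x = 0
      · exact ⟨none, Subtype.ext h0.symm⟩
      · refine ⟨some ⟨Units.mk0 x h0, Units.ext ?_⟩, rfl⟩
        have h := mem_powField.mp hx
        rw [← Nat.sub_add_cancel h1, pow_succ] at h
        simpa [powMonoidHom] using (mul_eq_right₀ h0).mp h
  rw [← Nat.card_eq_of_bijective e hbij, Finite.card_option, hker, Nat.sub_add_cancel h1]

theorem exists_char_card (F : Type u) [Field F] [Finite F] :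
    ∃ p f : ℕ, p.Prime ∧ CharP F p ∧ 0 < f ∧ Nat.card F = p ^ f := by
  letI := Fintype.ofFinite F
  obtain ⟨p, hp, f, hpp, hcard⟩ := FiniteField.card' F
  exact ⟨p, f, hpp, hp, f.pos, by rw [Nat.card_eq_fintype_card, hcard]⟩

/-- A proper subfield lies in a subfield of prime index. -/
theorem exists_prime_index_subfield [Finite F] {F₀ : Subfield F} (h : F₀ ≠ ⊤) :
    ∃ (F₁ : Subfield F) (r : ℕ), F₀ ≤ F₁ ∧ r.Prime ∧ Nat.card F = Nat.card F₁ ^ r := by
  obtain ⟨p, f, hp, hchar, hf0, hf⟩ := exists_char_card F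
  haveI := Fact.mk hp
  haveI : Finite F₀ := Finite.of_injective _ Subtype.val_injective
  have hpow : Nat.card F = Nat.card F₀ ^ Module.finrank F₀ F := Module.natCard_eq_pow_finrank
  obtain ⟨a, -, ha⟩ := (Nat.dvd_prime_pow hp).mp
    (hf ▸ hpow ▸ dvd_pow_self (Nat.card F₀) (Module.finrank_pos (R := F₀) (M := F)).ne' : Nat.card F₀ ∣ p ^ f)
  set k := Module.finrank F₀ F with hk
  have hafk : a * k = f := Nat.pow_right_injective hp.two_le (by
    show p ^ (a * k) = p ^ f
    rw [pow_mul, ← ha, ← hf]; exact hpow.symm)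
  have hk1 : k ≠ 1 := by
    intro hk1
    apply h
    have hc : Nat.card F = Nat.card F₀ := by rw [hpow, hk1, pow_one]
    refine SetLike.coe_injective ?_
    rw [Subfield.coe_top]
    refine Set.eq_of_subset_of_ncard_le (Set.subset_univ _) ?_ (Set.toFinite _)
    rw [Set.ncard_univ, hc, ← Nat.card_coe_set_eq]
    rfl
  obtain ⟨r, hr, hrk⟩ := Nat.exists_prime_and_dvd hk1
  obtain ⟨j, hj⟩ := hrk
  have hm : 0 < a * j := by
    rcases Nat.eq_zero_or_pos (a * j) with h0 | h0
    · rw [hj, ← mul_assoc, mul_comm a r, mul_assoc, h0, mul_zero] at hafk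
      omega
    · exact h0
  refine ⟨powField F p (a * j), r, fun x hx => mem_powField.mpr ?_, hr, ?_⟩
  · letI := Fintype.ofFinite F₀
    have := congrArg Subtype.val (FiniteField.pow_card_pow j (⟨x, hx⟩ : F₀))
    rw [Fintype.card_eq_nat_card, ha, ← pow_mul] at this
    exact this
  · rw [card_powField hm hf ⟨r, by rw [← hafk, hj]; ring⟩, hf, ← pow_mul, ← hafk, hj]
    ring_nf

theorem mem_range_sup_scalars {F₀ : Subfield F} {g : GL ι F} {a : F} (ha : a ≠ 0)
    (hent : ∀ i j, a * (g : Matrix ι ι F) i j ∈ F₀) :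
    g ∈ (Matrix.GeneralLinearGroup.map (F₀.subtype : F₀ →+* F)).range ⊔ scalars ι F := by
  let A₀ : Matrix ι ι F₀ := Matrix.of fun i j => ⟨_, hent i j⟩
  have hA : A₀.map (F₀.subtype : F₀ →+* F) = a • (g : Matrix ι ι F) := Matrix.ext fun i j => rfl
  have hdet : A₀.det ≠ 0 := fun hd => by
    have e := (F₀.subtype : F₀ →+* F).map_det A₀
    rw [RingHom.mapMatrix_apply, hA, hd, map_zero, Matrix.det_smul] at e
    exact mul_ne_zero (pow_ne_zero _ ha) (gl_det_ne_zero g) e.symm
  rw [Subgroup.mem_sup_of_normal_right]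
  refine ⟨Matrix.GeneralLinearGroup.map (F₀.subtype : F₀ →+* F)
      (Matrix.GeneralLinearGroup.mkOfDetNeZero A₀ hdet), ⟨_, rfl⟩,
    Units.map (Matrix.scalar ι : F →+* Matrix ι ι F).toMonoidHom (Units.mk0 a⁻¹ (inv_ne_zero ha)), ⟨_, rfl⟩,
    Units.ext ?_⟩
  rw [Units.val_mul]
  change A₀.map (F₀.subtype : F₀ →+* F) * Matrix.scalar ι a⁻¹ = (g : Matrix ι ι F)
  rw [hA, Matrix.scalar_apply, ← Matrix.smul_one_eq_diagonal, Matrix.mul_smul, Matrix.mul_one, smul_smul,
    inv_mul_cancel₀ ha, one_smul]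

theorem exists_scaled_entries {F₀ : Subfield F} [Nonempty ι] {g : GL ι F}
    (hg : g ∈ (Matrix.GeneralLinearGroup.map (F₀.subtype : F₀ →+* F)).range ⊔ scalars ι F) :
    ∃ a : F, a ≠ 0 ∧ ∀ i j, a * (g : Matrix ι ι F) i j ∈ F₀ := by
  obtain ⟨_, ⟨A, rfl⟩, z, hz, rfl⟩ := Subgroup.mem_sup_of_normal_right.mp hg
  obtain ⟨c, hc⟩ := (mem_scalars_iff z).mp hz
  refine ⟨(c : F)⁻¹, inv_ne_zero c.ne_zero, fun i j => ?_⟩
  rw [Units.val_mul, hc, Matrix.mul_smul, Matrix.mul_one, Matrix.smul_apply, smul_eq_mul, ← mul_assoc,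
    inv_mul_cancel₀ c.ne_zero, one_mul]
  exact (A.val i j).2

/-- An element normalising an absolutely irreducible set defined over a subfield is, up to a scalar, defined
over that subfield. -/
theorem scaled_entries_of_intertwines [Nonempty ι] {F₀ : Subfield F} {S : Set (Matrix ι ι F)}
    (hai : ∀ M : Matrix ι ι F, (∀ s ∈ S, M * s = s * M) → ∃ c : F, M = c • 1)
    (hS : ∀ s ∈ S, ∀ i j, s i j ∈ F₀) {g : GL ι F}
    (hg : ∀ s ∈ S, ∃ s' ∈ S, (g : Matrix ι ι F) * s = s' * (g : Matrix ι ι F)) :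
    ∃ a : F, a ≠ 0 ∧ ∀ i j, a * (g : Matrix ι ι F) i j ∈ F₀ := by
  set G : Matrix ι ι F := (g : Matrix ι ι F) with hG
  obtain ⟨i₀, j₀, hij⟩ : ∃ i j, G i j ≠ 0 := by
    by_contra hc
    push Not at hc
    exact g.ne_zero (Matrix.ext hc)
  obtain ⟨π, hπ⟩ := (Algebra.linearMap F₀ F).exists_leftInverse_of_injective
    (LinearMap.ker_eq_bot.mpr Subtype.val_injective)
  have hπ1 : ∀ x : F₀, π (x : F) = x := fun x => LinearMap.congr_fun hπ x
  have hlin : ∀ (x : F₀) (y : F), π ((x : F) * y) = x * π y := fun x y => by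
    have := π.map_smul x y
    rwa [Subfield.smul_def, smul_eq_mul, smul_eq_mul] at this
  set c := (G i₀ j₀)⁻¹ with hc_def
  let G' : Matrix ι ι F := Matrix.of fun i j => ((π (c * G i j) : F₀) : F)
  have hG'0 : G' i₀ j₀ = 1 := by
    show ((π (c * G i₀ j₀) : F₀) : F) = 1
    rw [hc_def, inv_mul_cancel₀ hij, show (1 : F) = ((1 : F₀) : F) from rfl, hπ1]
  have hint : ∀ s ∈ S, ∀ s' ∈ S, G * s = s' * G → G' * s = s' * G' := by
    intro s hs s' hs' he
    ext i j
    have hij' := congrArg (fun M : Matrix ι ι F => c * M i j) he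
    simp only [Matrix.mul_apply, Finset.mul_sum] at hij'
    have h2 := congrArg π hij'
    rw [map_sum, map_sum] at h2
    rw [Matrix.mul_apply, Matrix.mul_apply]
    simp only [G', Matrix.of_apply]
    have h3 := congrArg (fun x : F₀ => (x : F)) h2
    simp only [AddSubmonoidClass.coe_finsetSum] at h3
    convert h3 using 2 with k hk k hk
    · rw [show c * (G i k * s k j) = ((⟨s k j, hS s hs k j⟩ : F₀) : F) * (c * G i k) by show _ = s k j * _; ring,
        hlin, Subfield.coe_mul, mul_comm]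
    · rw [show c * (s' i k * G k j) = ((⟨s' i k, hS s' hs' i k⟩ : F₀) : F) * (c * G k j) by show _ = s' i k * _; ring,
        hlin, Subfield.coe_mul]
  obtain ⟨d, hd⟩ := hai (((g⁻¹ : GL ι F) : Matrix ι ι F) * G') (fun s hs => by
    obtain ⟨s', hs', he⟩ := hg s hs
    have h' := hint s hs s' hs' he
    calc ((g⁻¹ : GL ι F) : Matrix ι ι F) * G' * s
        = ((g⁻¹ : GL ι F) : Matrix ι ι F) * (s' * G) * (((g⁻¹ : GL ι F) : Matrix ι ι F) * G') := by
          rw [mul_assoc _ G' s, h', mul_assoc (((g⁻¹ : GL ι F) : Matrix ι ι F)) (s' * G), mul_assoc s' G,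
            ← mul_assoc G, hG, val_mul_inv, one_mul]
      _ = s * (((g⁻¹ : GL ι F) : Matrix ι ι F) * G') := by
          rw [← he, ← mul_assoc _ G s, hG, val_inv_mul, one_mul])
  have hG' : G' = d • G := by
    have := congrArg (fun M => G * M) hd
    simp only [← mul_assoc] at this
    rwa [hG, val_mul_inv, one_mul, Matrix.mul_smul, mul_one] at this
  refine ⟨d, fun h0 => ?_, fun i j => ?_⟩
  · rw [hG', h0, zero_smul] at hG'0
    exact zero_ne_one hG'0
  · have := congrFun (congrFun hG' i) j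
    rw [Matrix.smul_apply, smul_eq_mul] at this
    rw [← this]
    exact Subtype.mem _

/-- The normaliser of an absolutely irreducible group realisable over a proper subfield is in a subfield group. -/
theorem le_subfield_of_realisable [Finite F] [Nonempty ι] {H P : Subgroup (GL ι F)} (hn : Normalises H P)
    (hai : ActsAbsolutelyIrreducibly (matrixSet P)) {F₀ : Subfield F} (hne : F₀ ≠ ⊤)
    (hreal : RealisableOver F₀ (matrixSet P)) :
    ∃ (F₁ : Subfield F) (r : ℕ) (B : GL ι F), r.Prime ∧ Nat.card F = Nat.card F₁ ^ r ∧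
      H ≤ subfieldSubgroup F₁ B ∧
      ∀ s ∈ P, ∀ i j, ((B⁻¹ * s * B : GL ι F) : Matrix ι ι F) i j ∈ F₁ := by
  obtain ⟨B, hB⟩ := hreal
  obtain ⟨F₁, r, hle, hr, hcard⟩ := exists_prime_index_subfield hne
  have hent : ∀ s ∈ P, ∀ i j, ((B * s * B⁻¹ : GL ι F) : Matrix ι ι F) i j ∈ F₁ := fun s hs i j =>
    hle (by rw [Units.val_mul, Units.val_mul]; exact hB _ (mem_matrixSet hs) i j)
  refine ⟨F₁, r, B⁻¹, hr, hcard, fun h hh => ?_, fun s hs => by rw [inv_inv]; exact hent s hs⟩
  obtain ⟨a, ha, hae⟩ := scaled_entries_of_intertwines (F₀ := F₁)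
    (S := {M | ∃ s ∈ P, ((B * s * B⁻¹ : GL ι F) : Matrix ι ι F) = M})
    (fun M hM => by
      obtain ⟨c, hc⟩ := hai.2 (((B⁻¹ : GL ι F) : Matrix ι ι F) * M * (B : Matrix ι ι F)) (forall_matrixSet.mpr fun s hs => by
        have h1 := hM _ ⟨s, hs, rfl⟩
        rw [Units.val_mul, Units.val_mul] at h1
        have := congrArg (fun X => ((B⁻¹ : GL ι F) : Matrix ι ι F) * X * (B : Matrix ι ι F)) h1
        simp only [mul_assoc, val_inv_mul, mul_one] at this ⊢
        simp only [← mul_assoc, val_inv_mul, one_mul] at this ⊢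
        exact this)
      refine ⟨c, ?_⟩
      have := congrArg (fun X => (B : Matrix ι ι F) * X * ((B⁻¹ : GL ι F) : Matrix ι ι F)) hc
      simp only [mul_assoc, val_mul_inv, mul_one, Matrix.mul_smul, Matrix.smul_mul, one_mul] at this
      rwa [← mul_assoc, val_mul_inv, one_mul] at this)
    (by rintro _ ⟨s, hs, rfl⟩; exact hent s hs) (g := B * h * B⁻¹)
    (by
      rintro _ ⟨s, hs, rfl⟩
      refine ⟨_, ⟨h * s * h⁻¹, hn h hh s hs, rfl⟩, ?_⟩
      simp only [← Units.val_mul]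
      congr 1
      simp [mul_assoc])
  exact ⟨B * h * B⁻¹, mem_range_sup_scalars ha hae, by simp [mul_assoc]⟩

/-- A Heisenberg group is monomial in a suitable basis, with roots of unity as coefficients. -/
theorem IsHeisenberg.exists_basis (hcard : Fintype.card ι = n) (hn : n.Prime) {R : Subgroup (GL ι F)}
    (hR : IsHeisenberg n R) :
    ∃ (B : GL ι F) (ζ : F), IsPrimitiveRoot ζ n ∧ ∀ g ∈ R, ∃ (σ : Equiv.Perm ι) (k : ι → ℕ),
      ∀ i j, ((B * g * B⁻¹ : GL ι F) : Matrix ι ι F) i j = if i = σ j then ζ ^ k j else 0 := by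
  classical
  haveI : Nonempty ι := Fintype.card_pos_iff.mp (hcard ▸ hn.pos)
  haveI : NeZero n := ⟨hn.ne_zero⟩
  obtain ⟨x, y, ζ, -, -, hζ, hxn, hyn, hxy, hform⟩ := hR.gens
  set X : Matrix ι ι F := (x : Matrix ι ι F) with hX
  set Y : Matrix ι ι F := (y : Matrix ι ι F) with hY
  have hXn : X ^ n = 1 := by rw [hX, ← Units.val_pow_eq_pow_val, hxn, Units.val_one]
  have hYn : Y ^ n = 1 := by rw [hY, ← Units.val_pow_eq_pow_val, hyn, Units.val_one]
  obtain ⟨v, hv0, c, hv⟩ : ∃ v : ι → F, v ≠ 0 ∧ ∃ c : ℕ, X *ᵥ v = ζ ^ c • v := by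
    let d : F[X] →* F := (Matrix.detMonoidHom (R := F) (n := ι)).comp (Polynomial.aeval (R := F) X).toRingHom.toMonoidHom
    have hd : d (Polynomial.X ^ n - 1) = 0 := by
      show (Polynomial.aeval X (Polynomial.X ^ n - 1)).det = 0
      rw [map_sub, map_pow, Polynomial.aeval_X, map_one, hXn, sub_self, Matrix.det_zero]
    rw [X_pow_sub_one_eq_prod hn.pos hζ, map_prod, Finset.prod_eq_zero_iff] at hd
    obtain ⟨μ, hμ, hd⟩ := hd
    rw [mem_nthRootsFinset hn.pos] at hμ
    obtain ⟨c, -, rfl⟩ := hζ.eq_pow_of_pow_eq_one hμ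
    change (Polynomial.aeval X (Polynomial.X - Polynomial.C (ζ ^ c))).det = 0 at hd
    obtain ⟨v, hv, hv'⟩ := Matrix.exists_mulVec_eq_zero_iff.mpr hd
    refine ⟨v, hv, c, ?_⟩
    rw [map_sub, Polynomial.aeval_X, Polynomial.aeval_C, Algebra.algebraMap_eq_smul_one, Matrix.sub_mulVec,
      sub_eq_zero, Matrix.smul_mulVec, Matrix.one_mulVec] at hv'
    exact hv'
  let e : ι ≃ Fin n := (Fintype.equivFinOfCardEq hcard)
  let w : ℕ → (ι → F) := fun i => (Y ^ i) *ᵥ v
  have hw : ∀ i, X *ᵥ w i = ζ ^ (i + c) • w i := fun i => by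
    simp only [w]
    rw [Matrix.mulVec_mulVec, twist_pow_right hxy, Matrix.smul_mulVec, ← Matrix.mulVec_mulVec, hv,
      Matrix.mulVec_smul, smul_smul, ← pow_add]
  have hwne : ∀ i, w i ≠ 0 := fun i => by
    simp only [w, hY, ← Units.val_pow_eq_pow_val]
    exact gl_mulVec_ne_zero _ hv0
  have hwmod : ∀ i, w (i % n) = w i := fun i => by
    simp only [w]
    conv_rhs => rw [← Nat.mod_add_div i n, pow_add, pow_mul, hYn, one_pow, mul_one]
  let P : Matrix ι ι F := Matrix.of fun a b => w (e b) a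
  have hPcol : ∀ b, P *ᵥ Pi.single b 1 = w (e b) := fun b => by
    rw [Matrix.mulVec_single_one]; rfl
  have hPdet : P.det ≠ 0 := by
    intro h0
    obtain ⟨u, hu, hu'⟩ := Matrix.exists_mulVec_eq_zero_iff.mpr h0
    apply hu
    funext b
    have := eigen_indep (fun _ : Unit => Matrix.toLin' X) (fun (b : ι) (_ : Unit) => ζ ^ ((e b : ℕ) + c))
      (fun a b h => e.injective (Fin.ext (hζ.pow_inj (e a).2 (e b).2 (mul_right_cancel₀ (pow_ne_zero c (hζ.ne_zero hn.ne_zero))
        (by rw [← pow_add, ← pow_add]; exact congrFun h ())))))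
      Finset.univ (fun b => u b • w (e b)) (fun b _ _ => by rw [map_smul, Matrix.toLin'_apply, hw, smul_comm])
      (by
        rw [← hu']
        funext a
        simp only [Matrix.mulVec, dotProduct, P, Matrix.of_apply, Finset.sum_apply, Pi.smul_apply, smul_eq_mul]
        exact Finset.sum_congr rfl fun b _ => mul_comm _ _) b (Finset.mem_univ b)
    exact (smul_eq_zero.mp this).resolve_right (hwne _)
  let PG : GL ι F := Matrix.GeneralLinearGroup.mkOfDetNeZero P hPdet
  refine ⟨PG⁻¹, ζ, hζ, fun g hg => ?_⟩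
  obtain ⟨⟨a, b⟩, k, hgk⟩ := hform g hg
  let σ : Equiv.Perm ι := (e.trans (Equiv.addRight b)).trans e.symm
  refine ⟨σ, fun j => (k : ℕ) + ((e j : ℕ) + (b : ℕ) + c) * (a : ℕ), fun i j => ?_⟩
  have hgw : (g : Matrix ι ι F) *ᵥ w (e j) =
      ζ ^ ((k : ℕ) + ((e j : ℕ) + (b : ℕ) + c) * (a : ℕ)) • w (e (σ j)) := by
    have hσ : (e (σ j) : ℕ) = ((e j : ℕ) + (b : ℕ)) % n := by
      simp [σ, Fin.val_add]
    rw [hσ, hwmod, hgk, Matrix.smul_mulVec, ← Matrix.mulVec_mulVec, pow_add ζ (k : ℕ), ← smul_smul]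
    congr 1
    have h1 : (Y ^ (b : ℕ)) *ᵥ w (e j) = w ((e j : ℕ) + b) := by
      simp only [w]
      rw [Matrix.mulVec_mulVec, ← pow_add, add_comm]
    rw [h1]
    induction (a : ℕ) with
    | zero => simp
    | succ m ih => rw [pow_succ', ← Matrix.mulVec_mulVec, ih, Matrix.mulVec_smul, hw, smul_smul, Nat.mul_succ, pow_add ζ _ ((e j : ℕ) + b + c)]
  rw [inv_inv, mul_assoc, Units.val_mul]
  have hcol : ((g * PG : GL ι F) : Matrix ι ι F) *ᵥ Pi.single j 1 =
      (PG : Matrix ι ι F) *ᵥ (ζ ^ ((k : ℕ) + ((e j : ℕ) + (b : ℕ) + c) * (a : ℕ)) • Pi.single (σ j) 1) := by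
    rw [Units.val_mul, ← Matrix.mulVec_mulVec, show (PG : Matrix ι ι F) = P from rfl, hPcol, Matrix.mulVec_smul, hPcol, hgw]
  have h3 := congrArg (fun u => ((PG⁻¹ : GL ι F) : Matrix ι ι F) *ᵥ u) hcol
  simp only [inv_mulVec_mulVec, Matrix.mulVec_mulVec] at h3
  have h4 := congrFun h3 i
  rw [Matrix.mulVec_single_one] at h4
  rw [show (((PG⁻¹ : GL ι F) : Matrix ι ι F) * ((g * PG : GL ι F) : Matrix ι ι F)) i j = _ from h4,
    val_inv_mul, Matrix.one_mulVec, Pi.smul_apply, Pi.single_apply, smul_eq_mul]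
  split_ifs <;> simp

end Cfsg.Lib.Classical.PrimeDim
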