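import Cfsg.Agent.Classical.PrimeDim.Schur

/-! Clifford theory in prime degree. -/

set_option autoImplicit false
set_option linter.unusedSimpArgs false
set_option linter.unusedSectionVars false
set_option linter.style.haveILetI false

namespace Cfsg.Lib.Classical.PrimeDim

open Matrix Cfsg.Geo
open scoped MatrixGroups

universe u v w z

variable {ι : Type} [Fintype ι] [DecidableEq ι] {F : Type u} [Field F]

/-- Common eigenvectors with distinct eigenvalue systems are independent. -/
theorem eigen_indep {V : Type v} [AddCommGroup V] [Module F V] {κ : Type w} {T : Type z}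
    (A : κ → V →ₗ[F] V) (χ : T → κ → F) (hχ : Function.Injective χ) (s : Finset T) :
    ∀ v : T → V, (∀ t ∈ s, ∀ k, A k (v t) = χ t k • v t) → ∑ t ∈ s, v t = 0 → ∀ t ∈ s, v t = 0 := by
  classical
  induction s using Finset.induction_on with
  | empty => intro v _ _ t ht; simp at ht
  | insert a s ha ih =>
    intro v hv hsum
    rw [Finset.sum_insert ha] at hsum
    have hs0 : ∀ t ∈ s, v t = 0 := by
      intro t ht
      obtain ⟨k, hk⟩ := Function.ne_iff.mp (fun e : χ t = χ a => ha (hχ e ▸ ht))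
      have h1 := ih (fun t => (χ t k - χ a k) • v t)
        (fun t ht k' => by rw [map_smul, hv t (Finset.mem_insert_of_mem ht) k', smul_comm])
        (by
          have h2 := congrArg (A k) hsum
          rw [map_add, map_sum, map_zero, hv a (Finset.mem_insert_self a s) k,
            Finset.sum_congr rfl (fun t ht => hv t (Finset.mem_insert_of_mem ht) k)] at h2
          have h3 : χ a k • v a + χ a k • ∑ t ∈ s, v t = 0 := by rw [← smul_add, hsum, smul_zero]
          simp only [sub_smul, Finset.sum_sub_distrib]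
          rw [← Finset.smul_sum, sub_eq_zero]
          exact add_left_cancel (h2.trans h3.symm)) t ht
      exact (smul_eq_zero.mp h1).resolve_left (sub_ne_zero.mpr hk)
    intro t ht
    rcases Finset.mem_insert.mp ht with rfl | ht
    · rwa [Finset.sum_eq_zero hs0, add_zero] at hsum
    · exact hs0 t ht

/-- The common eigenspace of `N` for the eigenvalue system `χ`. -/
def weightSpace (N : Subgroup (GL ι F)) (χ : N → F) : Submodule F (ι → F) where
  carrier := {v | ∀ g : N, ((g : GL ι F) : Matrix ι ι F) *ᵥ v = χ g • v}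
  add_mem' {a b} ha hb g := by rw [Matrix.mulVec_add, ha g, hb g, smul_add]
  zero_mem' g := by rw [Matrix.mulVec_zero, smul_zero]
  smul_mem' c v hv g := by rw [Matrix.mulVec_smul, hv g, smul_comm]

theorem mem_weightSpace {N : Subgroup (GL ι F)} {χ : N → F} {v : ι → F} :
    v ∈ weightSpace N χ ↔ ∀ g : N, ((g : GL ι F) : Matrix ι ι F) *ᵥ v = χ g • v := Iff.rfl

theorem weightSpace_indep (N : Subgroup (GL ι F)) : iSupIndep (weightSpace N) := by
  rw [iSupIndep_iff_finsetSum_eq_zero_imp_eq_zero]
  intro s v hmem hsum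
  refine eigen_indep (fun g : N => Matrix.toLin' ((g : GL ι F) : Matrix ι ι F)) id Function.injective_id s v
    (fun χ hχ g => ?_) hsum
  rw [Matrix.toLin'_apply]
  exact mem_weightSpace.mp (hmem χ hχ) g

/-- The eigenvalue system transported by an element normalising `N`. -/
def chiConj {H N : Subgroup (GL ι F)} (hn : Normalises H N) (h : H) (χ : N → F) : N → F :=
  fun g => χ ⟨(h : GL ι F)⁻¹ * g * h, hn.inv h.2 g.2⟩

theorem chiConj_mul {H N : Subgroup (GL ι F)} (hn : Normalises H N) (a b : H) (χ : N → F) :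
    chiConj hn a (chiConj hn b χ) = chiConj hn (a * b) χ := by
  funext g
  simp only [chiConj]
  congr 1
  apply Subtype.ext
  simp [mul_assoc, _root_.mul_inv_rev]

theorem chiConj_one {H N : Subgroup (GL ι F)} (hn : Normalises H N) (χ : N → F) : chiConj hn 1 χ = χ := by
  funext g
  simp only [chiConj]
  congr 1
  apply Subtype.ext
  simp

theorem mulVec_mem_weightSpace {H N : Subgroup (GL ι F)} (hn : Normalises H N) (h : H) {χ : N → F} {v : ι → F}
    (hv : v ∈ weightSpace N χ) :
    ((h : GL ι F) : Matrix ι ι F) *ᵥ v ∈ weightSpace N (chiConj hn h χ) := by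
  intro g
  have e := mem_weightSpace.mp hv ⟨(h : GL ι F)⁻¹ * g * h, hn.inv h.2 g.2⟩
  calc ((g : GL ι F) : Matrix ι ι F) *ᵥ (((h : GL ι F) : Matrix ι ι F) *ᵥ v)
      = (((h : GL ι F) * ((h : GL ι F)⁻¹ * g * h) : GL ι F) : Matrix ι ι F) *ᵥ v := by
        rw [Matrix.mulVec_mulVec, ← Units.val_mul]
        congr 2
        rw [← mul_assoc, ← mul_assoc, mul_inv_cancel, one_mul]
    _ = chiConj hn h χ g • (((h : GL ι F) : Matrix ι ι F) *ᵥ v) := by
        rw [Units.val_mul, ← Matrix.mulVec_mulVec, e, Matrix.mulVec_smul]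
        rfl

theorem map_weightSpace {H N : Subgroup (GL ι F)} (hn : Normalises H N) (h : H) (χ : N → F) :
    (weightSpace N χ).map (Matrix.toLin' ((h : GL ι F) : Matrix ι ι F)) = weightSpace N (chiConj hn h χ) := by
  refine le_antisymm ?_ fun v hv => ⟨((h : GL ι F)⁻¹ : GL ι F).val *ᵥ v, ?_, ?_⟩
  · rintro _ ⟨v, hv, rfl⟩
    rw [Matrix.toLin'_apply]
    exact mulVec_mem_weightSpace hn h hv
  · have := mulVec_mem_weightSpace hn h⁻¹ hv
    rwa [chiConj_mul, inv_mul_cancel, chiConj_one, InvMemClass.coe_inv] at this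
  · rw [Matrix.toLin'_apply, mulVec_inv_mulVec]

/-- A frame of lines on which `N` acts diagonally with distinct eigenvalue systems, permuted transitively
by `H`. -/
structure IsWeightFrame {n : ℕ} (N H : Subgroup (GL ι F)) (D : Fin n → Submodule F (ι → F)) : Prop where
  decomp : IsMDecomposition 1 D
  le_stab : H ≤ decompositionStabilizer D
  trans : ∀ i j, ∃ h ∈ H, (D i).map (Matrix.toLin' (h : Matrix ι ι F)) = D j
  weights : ∃ χ : Fin n → N → F, Function.Injective χ ∧ ∀ i, D i = weightSpace N (χ i)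

theorem finrank_map_mulVec (g : GL ι F) (W : Submodule F (ι → F)) :
    Module.finrank F (W.map (Matrix.toLin' (g : Matrix ι ι F))) = Module.finrank F W := by
  refine (LinearEquiv.finrank_eq (Submodule.equivMapOfInjective _ ?_ W)).symm
  intro a b hab
  rw [Matrix.toLin'_apply, Matrix.toLin'_apply] at hab
  rw [← inv_mulVec_mulVec g a, hab, inv_mulVec_mulVec]

/-- A frame of lines makes `N` abelian. -/
theorem IsWeightFrame.commute {n : ℕ} {N H : Subgroup (GL ι F)} {D : Fin n → Submodule F (ι → F)}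
    (h : IsWeightFrame N H D) {a b : GL ι F} (ha : a ∈ N) (hb : b ∈ N) : a * b = b * a := by
  obtain ⟨χ, -, hD⟩ := h.weights
  refine Units.ext (Matrix.toLin'.injective (LinearMap.ext fun v => ?_))
  have hv : v ∈ iSup D := by rw [h.decomp.iSup_eq_top]; exact Submodule.mem_top
  induction hv using Submodule.iSup_induction' with
  | mem i x hx =>
    rw [hD i] at hx
    have ea := mem_weightSpace.mp hx ⟨a, ha⟩
    have eb := mem_weightSpace.mp hx ⟨b, hb⟩
    rw [Matrix.toLin'_apply, Matrix.toLin'_apply, Units.val_mul, Units.val_mul, ← Matrix.mulVec_mulVec,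
      ← Matrix.mulVec_mulVec, eb, ea, Matrix.mulVec_smul, Matrix.mulVec_smul, ea, eb, smul_comm]
  | zero => rw [map_zero, map_zero]
  | add x y _ _ hx hy => rw [map_add, map_add, hx, hy]

variable [Finite F] {n : ℕ}

/-- Clifford's theorem in prime degree `n`. -/
theorem clifford (hcard : Fintype.card ι = n) (hn : n.Prime) {H N : Subgroup (GL ι F)}
    (hH : ActsIrreducibly (matrixSet H)) (hnorm : Normalises H N) :
    ActsIrreducibly (matrixSet N) ∨ N ≤ scalars ι F ∨
      ∃ D : Fin n → Submodule F (ι → F), IsWeightFrame N H D := by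
  classical
  haveI : Nonempty ι := Fintype.card_pos_iff.mp (hcard ▸ hn.pos)
  haveI : Finite (Submodule F (ι → F)) := Finite.of_injective _ SetLike.coe_injective
  haveI : Nontrivial (ι → F) := inferInstance
  obtain ⟨U, ⟨hUinv, hU0⟩, hUmin⟩ := (Set.toFinite {W : Submodule F (ι → F) | Invariant N W ∧ W ≠ ⊥}).exists_minimal
    ⟨⊤, fun _ _ _ _ => Submodule.mem_top, top_ne_bot⟩
  set d := Module.finrank F U with hd_def
  have hmin : ∀ W, Invariant N W → W ≤ U → W = ⊥ ∨ W = U := by
    intro W hW hle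
    by_cases h0 : W = ⊥
    · exact Or.inl h0
    · exact Or.inr (le_antisymm hle (hUmin ⟨hW, h0⟩ hle))
  -- the dimension of a minimal invariant subspace divides the degree
  have hdvd : d ∣ n := by
    rw [← hcard]
    refine dvd_card_of_steps d (Invariant N) (fun g _ v hv => ?_) ?_
    · rw [(Submodule.mem_bot F).mp hv, Matrix.mulVec_zero]; exact zero_mem _
    intro W hW hWt
    obtain ⟨h, hh, hnot⟩ : ∃ h ∈ H, ¬ U.map (Matrix.toLin' (h : Matrix ι ι F)) ≤ W := by
      by_contra hc
      push Not at hc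
      let S : Submodule F (ι → F) := ⨆ h : H, U.map (Matrix.toLin' ((h : GL ι F) : Matrix ι ι F))
      have hSW : S ≤ W := iSup_le fun h => hc _ h.2
      rcases (irreducible_iff H).mp hH S (fun a ha v hv => by
          induction hv using Submodule.iSup_induction' with
          | mem i x hx =>
            obtain ⟨y, hy, rfl⟩ := hx
            refine Submodule.mem_iSup_of_mem (⟨a, ha⟩ * i) ⟨y, hy, ?_⟩
            simp [Matrix.toLin'_apply, Matrix.mulVec_mulVec]
          | zero => rw [Matrix.mulVec_zero]; exact zero_mem _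
          | add x y _ _ hx hy => rw [Matrix.mulVec_add]; exact add_mem hx hy) with h | h
      · apply hU0
        have h1 := le_iSup (fun h : H => U.map (Matrix.toLin' ((h : GL ι F) : Matrix ι ι F))) 1
        simp only [OneMemClass.coe_one, Units.val_one, Matrix.toLin'_one, Submodule.map_id] at h1
        exact le_bot_iff.mp (h ▸ h1)
      · exact hWt (top_le_iff.mp (h ▸ hSW))
    set U' := U.map (Matrix.toLin' (h : Matrix ι ι F)) with hU'
    have hU'inv : Invariant N U' := by
      rintro g hg _ ⟨y, hy, rfl⟩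
      refine ⟨((h⁻¹ * g * h : GL ι F) : Matrix ι ι F) *ᵥ y, hUinv _ (hnorm.inv hh hg) y hy, ?_⟩
      simp only [Matrix.toLin'_apply, Matrix.mulVec_mulVec, ← Units.val_mul, ← mul_assoc, mul_inv_cancel, one_mul]
    have hinf : W ⊓ U' = ⊥ := by
      have hX1 : Invariant N ((W ⊓ U').map (Matrix.toLin' ((h⁻¹ : GL ι F) : Matrix ι ι F))) := by
        rintro g hg _ ⟨x, hx, rfl⟩
        refine ⟨((h * g * h⁻¹ : GL ι F) : Matrix ι ι F) *ᵥ x,
          ⟨hW _ (hnorm h hh g hg) x hx.1, hU'inv _ (hnorm h hh g hg) x hx.2⟩, ?_⟩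
        simp only [Matrix.toLin'_apply, Matrix.mulVec_mulVec, ← Units.val_mul, ← mul_assoc, inv_mul_cancel, one_mul]
      have hX2 : (W ⊓ U').map (Matrix.toLin' ((h⁻¹ : GL ι F) : Matrix ι ι F)) ≤ U := by
        rintro _ ⟨x, ⟨-, y, hy, rfl⟩, rfl⟩
        rwa [Matrix.toLin'_apply, Matrix.toLin'_apply, inv_mulVec_mulVec]
      rcases hmin _ hX1 hX2 with e | e
      · rw [eq_bot_iff]
        intro x hx
        have hx' : ((h⁻¹ : GL ι F) : Matrix ι ι F) *ᵥ x ∈
            (W ⊓ U').map (Matrix.toLin' ((h⁻¹ : GL ι F) : Matrix ι ι F)) :=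
          ⟨x, hx, Matrix.toLin'_apply _ _⟩
        rw [e, Submodule.mem_bot] at hx'
        rw [Submodule.mem_bot, ← mulVec_inv_mulVec h x, hx', Matrix.mulVec_zero]
      · exfalso
        apply hnot
        rintro _ ⟨y, hy, rfl⟩
        rw [← e] at hy
        obtain ⟨x, hx, rfl⟩ := hy
        rw [Matrix.toLin'_apply, Matrix.toLin'_apply, mulVec_inv_mulVec]
        exact hx.1
    refine ⟨W ⊔ U', lt_of_le_of_ne le_sup_left (fun e => hnot (e ▸ le_sup_right)), ?_, ?_⟩
    · intro g hg v hv
      obtain ⟨a, ha, b, hb, rfl⟩ := Submodule.mem_sup.mp hv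
      rw [Matrix.mulVec_add]
      exact Submodule.add_mem_sup (hW g hg a ha) (hU'inv g hg b hb)
    · rw [finrank_sup_of_inf_bot hinf, finrank_map_mulVec]
  rcases (Nat.dvd_prime hn).mp hdvd with hd | hd
  swap
  · left
    rw [irreducible_iff]
    intro W hW
    have hUtop : U = ⊤ := Submodule.eq_top_of_finrank_eq (by rw [← hd_def, hd, finrank_pi_card, hcard])
    rcases hmin W hW (hUtop ▸ le_top) with h | h
    · exact Or.inl h
    · exact Or.inr (h.trans hUtop)
  right
  obtain ⟨v₀, hv₀, hv₀0⟩ := (Submodule.ne_bot_iff U).mp hU0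
  have hchar : ∀ g : N, ∃ c : F, ((g : GL ι F) : Matrix ι ι F) *ᵥ v₀ = c • v₀ := by
    intro g
    obtain ⟨c, hc⟩ := (finrank_eq_one_iff_of_nonzero' (⟨v₀, hv₀⟩ : U)
      (fun e => hv₀0 (congrArg Subtype.val e))).mp hd ⟨_, hUinv _ g.2 v₀ hv₀⟩
    exact ⟨c, (congrArg Subtype.val hc).symm⟩
  choose χ₀ hχ₀ using hchar
  let O : Set (N → F) := Set.range fun h : H => chiConj hnorm h χ₀
  haveI : Finite O := inferInstance
  letI : Fintype O := Fintype.ofFinite O
  let W : O → Submodule F (ι → F) := fun χ => weightSpace N χ.1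
  have hindep : iSupIndep W := (weightSpace_indep N).comp Subtype.val_injective
  have htop : iSup W = ⊤ := by
    refine ((irreducible_iff H).mp hH (iSup W) fun a ha v hv => ?_).resolve_left fun e => ?_
    · induction hv using Submodule.iSup_induction' with
      | mem i x hx =>
        obtain ⟨h, hh⟩ := i.2
        refine Submodule.mem_iSup_of_mem (⟨chiConj hnorm ⟨a, ha⟩ i.1, ⟨⟨a, ha⟩ * h, ?_⟩⟩ : O)
          (mulVec_mem_weightSpace hnorm ⟨a, ha⟩ hx)
        simp only at hh ⊢
        rw [← hh, chiConj_mul]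
      | zero => rw [Matrix.mulVec_zero]; exact zero_mem _
      | add x y _ _ hx hy => rw [Matrix.mulVec_add]; exact add_mem hx hy
    · have h1 : v₀ ∈ iSup W := Submodule.mem_iSup_of_mem (⟨χ₀, ⟨1, chiConj_one hnorm χ₀⟩⟩ : O) hχ₀
      rw [e, Submodule.mem_bot] at h1
      exact hv₀0 h1
  have hdim : ∀ χ : O, Module.finrank F (W χ) = Module.finrank F (weightSpace N χ₀) := by
    rintro ⟨_, h, rfl⟩
    show Module.finrank F (weightSpace N (chiConj hnorm h χ₀)) = _
    rw [← map_weightSpace, finrank_map_mulVec]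
  have hsum : Fintype.card O * Module.finrank F (weightSpace N χ₀) = n := by
    let e : (Π χ : O, W χ) →ₗ[F] (ι → F) := ∑ χ : O, (W χ).subtype.comp (LinearMap.proj χ)
    have he : ∀ x, e x = ∑ χ : O, (x χ : ι → F) := fun x => by simp [e]
    have hinj : Function.Injective e := (injective_iff_map_eq_zero e).mpr fun x hx => funext fun χ =>
      Subtype.ext ((iSupIndep_iff_finsetSum_eq_zero_imp_eq_zero W).mp hindep Finset.univ
        (fun χ => (x χ : ι → F)) (fun χ _ => (x χ).2) (by rw [← he]; exact hx) χ (Finset.mem_univ χ))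
    have hrange : LinearMap.range e = ⊤ := top_le_iff.mp (htop ▸ iSup_le fun χ w hw =>
      ⟨Pi.single χ ⟨w, hw⟩, by
        rw [he, Finset.sum_eq_single χ] <;> simp +contextual [Pi.single_apply]⟩)
    have := LinearMap.finrank_range_of_inj hinj
    rw [hrange, finrank_top, finrank_pi_card, hcard, Module.finrank_pi_fintype] at this
    rw [this, Finset.sum_congr rfl (fun χ _ => hdim χ), Finset.sum_const, Finset.card_univ, smul_eq_mul]
  rcases (Nat.dvd_prime hn).mp ⟨_, hsum.symm⟩ with hO | hO
  · left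
    rw [hO, one_mul] at hsum
    have hW0 : weightSpace N χ₀ = ⊤ := Submodule.eq_top_of_finrank_eq (by rw [hsum, finrank_pi_card, hcard])
    intro g hg
    refine mem_scalars_of_val_eq (c := χ₀ ⟨g, hg⟩) (Matrix.toLin'.injective (LinearMap.ext fun v => ?_))
    have := mem_weightSpace.mp (hW0 ▸ Submodule.mem_top : v ∈ weightSpace N χ₀) ⟨g, hg⟩
    simp [Matrix.toLin'_apply, Matrix.smul_mulVec, this]
  · right
    have h1 : Module.finrank F (weightSpace N χ₀) = 1 := by
      rw [hO] at hsum
      exact Nat.eq_of_mul_eq_mul_left hn.pos (hsum.trans (mul_one n).symm)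
    let e : Fin n ≃ O := (Fintype.equivFinOfCardEq hO).symm
    refine ⟨fun i => W (e i), ⟨hn.two_le, one_pos, fun i => (hdim _).trans h1, hindep.comp e.injective, ?_⟩, ?_, ?_,
      ⟨fun i => (e i).1, fun i j h => e.injective (Subtype.ext h), fun i => rfl⟩⟩
    · rw [← htop]; exact Equiv.iSup_comp (g := W) e
    · intro a ha
      let σ₀ : O ≃ O :=
        { toFun := fun χ => ⟨chiConj hnorm ⟨a, ha⟩ χ.1, by
            obtain ⟨h, hh⟩ := χ.2
            exact ⟨⟨a, ha⟩ * h, by simp only at hh ⊢; rw [← hh, chiConj_mul]⟩⟩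
          invFun := fun χ => ⟨chiConj hnorm ⟨a, ha⟩⁻¹ χ.1, by
            obtain ⟨h, hh⟩ := χ.2
            exact ⟨⟨a, ha⟩⁻¹ * h, by simp only at hh ⊢; rw [← hh, chiConj_mul]⟩⟩
          left_inv := fun χ => Subtype.ext (by simp only [chiConj_mul, inv_mul_cancel, chiConj_one])
          right_inv := fun χ => Subtype.ext (by simp only [chiConj_mul, mul_inv_cancel, chiConj_one]) }
      refine ⟨(e.trans σ₀).trans e.symm, fun i => ?_⟩
      simp only [Equiv.trans_apply, Equiv.apply_symm_apply]
      exact map_weightSpace hnorm ⟨a, ha⟩ (e i).1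
    · intro i j
      obtain ⟨a, ha⟩ := (e i).2
      obtain ⟨b, hb⟩ := (e j).2
      refine ⟨((b * a⁻¹ : H) : GL ι F), (b * a⁻¹ : H).2, ?_⟩
      rw [map_weightSpace hnorm (b * a⁻¹) (e i).1]
      show weightSpace N _ = weightSpace N (e j).1
      congr 1
      simp only at ha hb
      rw [← ha, ← hb, chiConj_mul, inv_mul_cancel_right]

/-- Clifford's theorem together with Schur's lemma. -/
theorem normal_cases (hcard : Fintype.card ι = n) (hn : n.Prime) {H N : Subgroup (GL ι F)}
    (hH : ActsIrreducibly (matrixSet H)) (hnorm : Normalises H N) (hns : ¬ N ≤ scalars ι F) :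
    ActsAbsolutelyIrreducibly (matrixSet N) ∨
      (∃ D : Fin n → Submodule F (ι → F), IsWeightFrame N H D) ∨
      (IsFieldSubalgebra n (comm (matrixSet N)) ∧ ∀ a ∈ N, ∀ b ∈ N, a * b = b * a) := by
  haveI : Nonempty ι := Fintype.card_pos_iff.mp (hcard ▸ hn.pos)
  rcases clifford hcard hn hH hnorm with h | h | h
  · rcases comm_cases (hcard ▸ hn) h with h' | h'
    · exact Or.inl h'
    · refine Or.inr (Or.inr ⟨hcard ▸ h', ?_⟩)
      intro a ha b hb
      have hmem : ∀ g ∈ N, (g : Matrix ι ι F) ∈ comm (matrixSet N) := fun g hg =>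
        fieldSub_centralizer h' fun k hk => (mem_comm_matrixSet.mp hk g hg).symm
      exact Units.ext (by rw [Units.val_mul, Units.val_mul]; exact h'.comm _ (hmem a ha) _ (hmem b hb))
  · exact absurd h hns
  · exact Or.inr (Or.inl h)

end Cfsg.Lib.Classical.PrimeDim
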