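import Cfsg.Agent.Classical.PrimeDim.UnitaryMembers

/-! Subfield groups and symplectic-type normalisers do not contain `SU`. -/

set_option autoImplicit false
set_option linter.unusedSimpArgs false
set_option linter.unusedSectionVars false
set_option linter.style.haveILetI false

namespace Cfsg.Lib.Classical.PrimeDim

open Matrix Cfsg.Geo
open scoped MatrixGroups

universe u

variable {n : ℕ} {F : Type u} [Field F] [Fintype F] {q : ℕ}

theorem mul_entries_mem {ι : Type} [Fintype ι] {F₀ : Subfield F} {A B : Matrix ι ι F} (hA : ∀ i j, A i j ∈ F₀)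
    (hB : ∀ i j, B i j ∈ F₀) : ∀ i j, (A * B) i j ∈ F₀ := fun i j => by
  rw [Matrix.mul_apply]
  exact sum_mem fun k _ => mul_mem (hA i k) (hB k j)

theorem pow_entries_mem {ι : Type} [Fintype ι] [DecidableEq ι] {F₀ : Subfield F} {A : Matrix ι ι F}
    (hA : ∀ i j, A i j ∈ F₀) (k : ℕ) : ∀ i j, (A ^ k) i j ∈ F₀ := by
  induction k with
  | zero =>
    intro i j
    rw [pow_zero, Matrix.one_apply]
    split_ifs
    · exact one_mem _
    · exact zero_mem _
  | succ k ih => rw [pow_succ]; exact mul_entries_mem ih hA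

theorem mem_of_pow_char_mem {p : ℕ} [Fact p.Prime] [CharP F p] {F₀ : Subfield F} {a : F} (h : a ^ p ∈ F₀) :
    a ∈ F₀ := by
  haveI : Finite F₀ := Finite.of_injective _ Subtype.val_injective
  have hinj : Function.Injective fun x : F₀ => (⟨(x : F) ^ p, pow_mem x.2 p⟩ : F₀) := fun x y e =>
    Subtype.ext (frobenius_inj F p (congrArg Subtype.val e))
  obtain ⟨b, hb⟩ := (Finite.injective_iff_surjective.mp hinj) ⟨a ^ p, h⟩
  rw [← frobenius_inj F p (congrArg Subtype.val hb : (b : F) ^ p = a ^ p)]
  exact b.2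

theorem tvE_trace_three (hF : Fintype.card F = q ^ 2) (u v w : Fin n → F) :
    Matrix.trace (tvE q u * tvE q v * tvE q w) =
      Cfsg.hermForm n F q v u * Cfsg.hermForm n F q w v * Cfsg.hermForm n F q u w := by
  have h : ∀ x y : Fin n → F, (fun j => x j ^ q) ⬝ᵥ y = Cfsg.hermForm n F q y x := fun x y => by
    simp only [dotProduct, Cfsg.hermForm, mul_comm]
  simp only [tvE, Matrix.vecMulVec_mul_vecMulVec, Matrix.vecMulVec_smul, Matrix.smul_mul, Matrix.trace_smul,
    Matrix.trace_vecMulVec, smul_smul, smul_eq_mul, h]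
  rw [dotProduct_comm u, h]

theorem norm_neg_one_not_skew (hF : Fintype.card F = q ^ 2) :
    ∃ lam : F, lam * frob hF lam = -1 ∧ lam + frob hF lam ≠ 0 := by
  classical
  obtain ⟨s, hs, hsp⟩ := card_norm_neg_one hF
  by_contra hc
  push Not at hc
  have hsub : s ⊆ {1, -1} := by
    intro x hx
    have h1 := hc x (hsp x hx).1
    have h2 : x * x = 1 := by linear_combination x * h1 - (hsp x hx).1
    rcases mul_self_eq_one_iff.mp h2 with h | h <;> simp [h]
  have hcard := (Finset.card_le_card hsub).trans Finset.card_le_two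
  have := two_le_q hF
  omega

theorem suGL_not_le_subfieldSubgroup (hF : Fintype.card F = q ^ 2) (hn : 3 ≤ n) {F₀ : Subfield F} (hne : F₀ ≠ ⊤)
    (P : GL (Fin n) F) : ¬ suGL n F q ≤ subfieldSubgroup F₀ P := by
  intro hle
  haveI : Nonempty (Fin n) := ⟨⟨0, by omega⟩⟩
  obtain ⟨p, f, hp, hchar, -, -⟩ := exists_char_card F
  haveI := Fact.mk hp
  set Pi' : Matrix (Fin n) (Fin n) F := ((P⁻¹ : GL (Fin n) F) : Matrix (Fin n) (Fin n) F)
  set Pm : Matrix (Fin n) (Fin n) F := (P : Matrix (Fin n) (Fin n) F)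
  set E' : (Fin n → F) → Matrix (Fin n) (Fin n) F := fun v => Pi' * tvE q v * Pm with hE'
  have hrat : ∀ v, Cfsg.hermForm n F q v v = 0 → ∀ c, c + frob hF c = 0 → ∀ i j, (c • E' v) i j ∈ F₀ := by
    intro v hv c hc
    obtain ⟨g, hg, he⟩ := hle (utv_mem hF hv hc)
    rw [MulEquiv.coe_toMonoidHom, MulAut.conj_apply] at he
    obtain ⟨a, ha0, hent⟩ := exists_scaled_entries hg
    have hgeq : (g : Matrix (Fin n) (Fin n) F) = 1 + c • E' v := by
      have : g = P⁻¹ * utv q hv c * P := by rw [← he]; simp [mul_assoc]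
      rw [this, Units.val_mul, Units.val_mul]
      show Pi' * (1 + c • tvE q v) * Pm = _
      rw [mul_add, add_mul, mul_one, Matrix.mul_smul, Matrix.smul_mul, show Pi' * Pm = 1 from val_inv_mul P]
    have hEE : E' v * E' v = 0 := by
      have hE : tvE q v * tvE q v = 0 := by
        refine Matrix.toLin'.injective (LinearMap.ext fun x => ?_)
        rw [map_zero, LinearMap.zero_apply, Matrix.toLin'_apply, ← Matrix.mulVec_mulVec, tvE_mulVec q v x,
          Matrix.mulVec_smul, tvE_mulVec, hv, zero_smul, smul_zero]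
      calc E' v * E' v = Pi' * (tvE q v * ((Pm * Pi') * tvE q v)) * Pm := by simp only [E', mul_assoc]
        _ = 0 := by rw [show Pm * Pi' = 1 from val_mul_inv P, one_mul, hE, mul_zero, zero_mul]
    have hpow : ∀ k : ℕ, (1 + c • E' v) ^ k = 1 + ((k : F) * c) • E' v := by
      intro k
      induction k with
      | zero => simp
      | succ k ih =>
        rw [pow_succ, ih, Nat.cast_succ, add_mul, mul_add, mul_one, mul_add, one_mul, mul_one, Matrix.smul_mul,
          Matrix.mul_smul, hEE, smul_zero, smul_zero, add_zero, add_mul, one_mul, add_smul]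
        abel
    let A : Matrix (Fin n) (Fin n) F := a • (g : Matrix (Fin n) (Fin n) F)
    have hA : ∀ i j, A i j ∈ F₀ := fun i j => by simpa [A] using hent i j
    have hap : a ^ p ∈ F₀ := by
      have h := pow_entries_mem hA p (Classical.arbitrary _) (Classical.arbitrary _)
      rw [_root_.smul_pow, hgeq, hpow, CharP.cast_eq_zero, zero_mul, zero_smul, add_zero, Matrix.smul_apply,
        Matrix.one_apply_eq, smul_eq_mul, mul_one] at h
      exact h
    have ha : a ∈ F₀ := mem_of_pow_char_mem hap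
    intro i j
    have h : (g : Matrix (Fin n) (Fin n) F) i j ∈ F₀ := by
      have := mul_mem (inv_mem ha) (hent i j)
      rwa [← mul_assoc, inv_mul_cancel₀ ha0, one_mul] at this
    rw [show c • E' v = (g : Matrix (Fin n) (Fin n) F) - 1 by rw [hgeq]; abel, Matrix.sub_apply]
    refine sub_mem h ?_
    rw [Matrix.one_apply]
    split_ifs
    · exact one_mem _
    · exact zero_mem _
  obtain ⟨c, hc0, hc⟩ := exists_skew hF
  obtain ⟨a, -, ha, -, -⟩ := exists_two_norm_neg_one hF
  obtain ⟨lam, hlam, hskew⟩ := norm_neg_one_not_skew hF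
  set i₀ : Fin n := ⟨0, by omega⟩
  set i₁ : Fin n := ⟨1, by omega⟩
  set i₂ : Fin n := ⟨2, by omega⟩
  have h01 : i₀ ≠ i₁ := by simp [i₀, i₁]
  have h02 : i₀ ≠ i₂ := by simp [i₀, i₂]
  have h12 : i₁ ≠ i₂ := by simp [i₁, i₂]
  set u := pairVec i₀ i₁ lam
  set v := pairVec i₀ i₂ a
  set w := pairVec i₁ i₂ a
  have hu := herm_pairVec_self hF h01 hlam
  have hv := herm_pairVec_self hF h02 ha
  have hw := herm_pairVec_self hF h12 ha
  have hfixed : ∀ x : F, frob hF x = x → x ∈ F₀ := by
    intro x hx
    have hne' : c • E' u ≠ 0 := by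
      intro e
      obtain ⟨y, hy⟩ := ((herm_isSesq hF).nondegenerate u (pairVec_ne_zero h01 lam)).1
      have h1 : tvE q u = 0 := by
        have := congrArg (fun M => Pm * M * Pi') ((smul_eq_zero.mp e).resolve_left hc0)
        simp only [E', mul_zero, zero_mul, ← mul_assoc, show Pm * Pi' = 1 from val_mul_inv P, one_mul] at this
        rwa [mul_assoc, show Pm * Pi' = 1 from val_mul_inv P, mul_one] at this
      have h2 := tvE_mulVec q u y
      rw [h1, Matrix.zero_mulVec] at h2
      exact hy ((smul_eq_zero.mp h2.symm).resolve_right (pairVec_ne_zero h01 lam))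
    obtain ⟨i, j, hij⟩ : ∃ i j, (c • E' u) i j ≠ 0 := by
      by_contra h
      push Not at h
      exact hne' (Matrix.ext h)
    have h1 := hrat u hu c hc i j
    have h2 := hrat u hu (x * c) (by rw [map_mul, hx, ← mul_add, hc, mul_zero]) i j
    have := mul_mem h2 (inv_mem h1)
    rwa [← smul_smul, Matrix.smul_apply x (c • E' u), smul_eq_mul, mul_assoc, mul_inv_cancel₀ hij, mul_one] at this
  have htau : c * c * c * (Cfsg.hermForm n F q v u * Cfsg.hermForm n F q w v * Cfsg.hermForm n F q u w) ∈ F₀ := by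
    have h := mul_entries_mem (mul_entries_mem (hrat u hu c hc) (hrat v hv c hc)) (hrat w hw c hc)
    have ht : Matrix.trace ((c • E' u) * (c • E' v) * (c • E' w)) ∈ F₀ := sum_mem fun i _ => h i i
    have e : E' u * E' v * E' w = Pi' * (tvE q u * tvE q v * tvE q w) * Pm := by
      calc E' u * E' v * E' w = Pi' * (tvE q u * ((Pm * Pi') * (tvE q v * ((Pm * Pi') * tvE q w)))) * Pm := by
            simp only [E', mul_assoc]
        _ = _ := by simp only [show Pm * Pi' = 1 from val_mul_inv P, one_mul, mul_assoc]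
    simp only [Matrix.smul_mul, Matrix.mul_smul, smul_smul, Matrix.trace_smul, e, smul_eq_mul] at ht
    rw [Matrix.trace_mul_cycle, show Pm * Pi' = 1 from val_mul_inv P, one_mul, tvE_trace_three hF] at ht
    simpa only [mul_assoc] using ht
  set z := c * c * c * (Cfsg.hermForm n F q v u * Cfsg.hermForm n F q w v * Cfsg.hermForm n F q u w) with hz
  have hzval : z = -(c * c * c * lam) := by
    rw [hz, herm_pairVec_right hF, herm_pairVec_right hF, herm_pairVec_right hF]
    have e : frob hF a * a = -1 := by rw [mul_comm]; exact ha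
    simp only [u, v, w, pairVec, Pi.add_apply, Pi.smul_apply, smul_eq_mul, Pi.single_eq_same,
      Pi.single_eq_of_ne h01, Pi.single_eq_of_ne h01.symm, Pi.single_eq_of_ne h02, Pi.single_eq_of_ne h02.symm,
      Pi.single_eq_of_ne h12, Pi.single_eq_of_ne h12.symm, mul_zero, add_zero, zero_add, mul_one]
    linear_combination (c * c * c * lam) * e
  have hzne : frob hF z ≠ z := by
    intro e
    apply hskew
    have hσc : frob hF c = -c := by linear_combination hc
    rw [hzval] at e
    simp only [map_neg, map_mul, hσc] at e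
    have : c * c * c * (lam + frob hF lam) = 0 := by linear_combination e
    exact (mul_eq_zero.mp this).resolve_left (mul_ne_zero (mul_ne_zero hc0 hc0) hc0)
  refine hne (eq_top_iff.mpr fun x _ => ?_)
  set β := (x - frob hF x) / (z - frob hF z) with hβ
  have hzd : z - frob hF z ≠ 0 := sub_ne_zero.mpr hzne.symm
  have hβfix : frob hF β = β := by
    rw [hβ, map_div₀, map_sub, map_sub, frob_frob, frob_frob, ← neg_sub x, ← neg_sub z, neg_div_neg_eq]
  have hαfix : frob hF (x - β * z) = x - β * z := by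
    rw [map_sub, map_mul, hβfix]
    have : β * (z - frob hF z) = x - frob hF x := div_mul_cancel₀ _ hzd
    linear_combination this
  have := add_mem (hfixed _ hαfix) (mul_mem (hfixed _ hβfix) htau)
  rwa [sub_add_cancel] at this

theorem suGL_not_le_heisenbergNormalizer (hF : Fintype.card F = q ^ 2) (hn : n.Prime) (hq : 4 ≤ q)
    {R : Subgroup (GL (Fin n) F)} (hR : IsHeisenberg n R) : ¬ suGL n F q ≤ subgroupNormalizer R := by
  intro hle
  haveI : Nonempty (Fin n) := ⟨⟨0, hn.pos⟩⟩
  haveI : NeZero n := ⟨hn.ne_zero⟩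
  obtain ⟨x, y, ζ, hx, -, hζ, -, -, hxy, -⟩ := hR.gens
  haveI : NeZero ((n : ℕ) : F) := hζ.neZero'
  have hn0 : (n : F) ≠ 0 := NeZero.ne _
  set X : Matrix (Fin n) (Fin n) F := (x : Matrix (Fin n) (Fin n) F) with hX
  set X' : Matrix (Fin n) (Fin n) F := ((x⁻¹ : GL (Fin n) F) : Matrix (Fin n) (Fin n) F)
  obtain ⟨t₀, ht₀, ht00, ht01⟩ : ∃ t : F, frob hF t = t ∧ t ≠ 0 ∧ t * t ≠ 1 := by
    by_contra hcon
    push Not at hcon
    let N : Fˣ →* Fˣ := powMonoidHom ((q + 1) * 2)
    have hall : N.ker = ⊤ := eq_top_iff.mpr fun u _ => Units.ext (by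
      show (u : F) ^ ((q + 1) * 2) = 1
      have h := hcon ((u : F) * frob hF u) (by rw [map_mul, frob_frob, mul_comm])
        (mul_ne_zero u.ne_zero fun e => u.ne_zero ((frob hF).injective (e.trans (frob hF).map_zero.symm)))
      rwa [frob_apply, ← pow_succ', ← pow_two, ← pow_mul] at h)
    have h1 : Nat.card N.ker = Nat.card Fˣ := by rw [hall, Nat.card_congr Subgroup.topEquiv.toEquiv]
    have hle' : Nat.card N.ker ≤ (q + 1) * 2 := by
      rw [IsCyclic.card_powMonoidHom_ker]
      exact Nat.le_of_dvd (by omega) (Nat.gcd_dvd_right _ _)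
    rw [h1, Nat.card_units, Nat.card_eq_fintype_card, hF] at hle'
    have : 4 * q ≤ q ^ 2 := by rw [pow_two]; exact Nat.mul_le_mul_right q hq
    omega
  have hcomm : ∀ v, Cfsg.hermForm n F q v v = 0 → tvE q v * X = X * tvE q v := by
    intro v hv
    by_contra hne
    set K := Matrix.trace (tvE q v * X * tvE q v * X')
    have key : ∀ c, c ≠ 0 → c + frob hF c = 0 → c * c * K = (n : F) := by
      intro c hc0 hc
      set t := utv q hv c
      have hu : t * x * t⁻¹ * x⁻¹ ∈ R := R.mul_mem
        ((Subgroup.mem_normalizer_iff.mp (hle (utv_mem hF hv hc)) x).mp hx) (R.inv_mem hx)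
      have htrE : Matrix.trace (c • tvE q v) = 0 := by
        rw [Matrix.trace_smul, tvE, Matrix.trace_vecMulVec, smul_eq_mul]
        exact mul_eq_zero_of_right _ hv
      have htrace : Matrix.trace ((t * x * t⁻¹ * x⁻¹ : GL (Fin n) F) : Matrix (Fin n) (Fin n) F) = n - c * c * K := by
        rw [Units.val_mul, Units.val_mul, Units.val_mul, utv_inv]
        show Matrix.trace ((1 + c • tvE q v) * X * (1 + (-c) • tvE q v) * X') = _
        rw [neg_smul, ← sub_eq_add_neg, trace_twist_expand (val_mul_inv x) (val_inv_mul x) htrE, Fintype.card_fin]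
        simp only [Matrix.smul_mul, Matrix.mul_smul, smul_smul, Matrix.trace_smul, smul_eq_mul]
        rfl
      rcases hR.trace_or_scalar hn hu with h0 | ⟨d, hd⟩
      · rw [htrace, sub_eq_zero] at h0
        exact h0.symm
      · exfalso
        have e : X * ((t⁻¹ : GL (Fin n) F) : Matrix (Fin n) (Fin n) F) * X' =
            d • ((t⁻¹ : GL (Fin n) F) : Matrix (Fin n) (Fin n) F) := by
          have := congrArg (fun M => ((t⁻¹ : GL (Fin n) F) : Matrix (Fin n) (Fin n) F) * M) hd
          simp only [Matrix.mul_smul, mul_one, ← Units.val_mul] at this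
          rw [← this]
          show ((x : GL (Fin n) F) : Matrix (Fin n) (Fin n) F) * _ * ((x⁻¹ : GL (Fin n) F) : Matrix (Fin n) (Fin n) F) = _
          rw [← Units.val_mul, ← Units.val_mul]
          congr 1
          simp [mul_assoc]
        have ht1 : Matrix.trace ((t⁻¹ : GL (Fin n) F) : Matrix (Fin n) (Fin n) F) = n := by
          rw [utv_inv, neg_smul, Matrix.trace_add, Matrix.trace_one, Fintype.card_fin, Matrix.trace_neg, htrE,
            neg_zero, add_zero]
        have hd1 : d = 1 := by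
          have h := congrArg Matrix.trace e
          rw [Matrix.trace_mul_cycle, show X' * X = 1 from val_inv_mul x, one_mul, Matrix.trace_smul, ht1,
            smul_eq_mul] at h
          exact (mul_eq_right₀ hn0).mp h.symm
        rw [hd1, one_smul] at hd
        have h1 : t * x * t⁻¹ * x⁻¹ = 1 := Units.ext (by rw [hd, Units.val_one])
        rw [mul_inv_eq_one, mul_inv_eq_iff_eq_mul] at h1
        have hcm : (1 + c • tvE q v) * X = X * (1 + c • tvE q v) := congrArg Units.val h1
        rw [add_mul, mul_add, one_mul, mul_one, Matrix.smul_mul, Matrix.mul_smul] at hcm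
        exact hne (smul_right_injective _ hc0 (add_left_cancel hcm))
    obtain ⟨c, hc0, hc⟩ := exists_skew hF
    have h1 := key c hc0 hc
    have h2 := key (t₀ * c) (mul_ne_zero ht00 hc0) (by rw [map_mul, ht₀, ← mul_add, hc, mul_zero])
    refine ht01 ((mul_eq_right₀ hn0).mp ?_)
    rw [← h1]
    calc t₀ * t₀ * (c * c * K) = t₀ * c * (t₀ * c) * K := by ring
      _ = c * c * K := h2.trans h1.symm
  have heig : ∀ v, Cfsg.hermForm n F q v v = 0 → v ≠ 0 → ∃ α : F, X *ᵥ v = α • v ∧
      ∀ y, Cfsg.hermForm n F q (X *ᵥ y) v = α * Cfsg.hermForm n F q y v := by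
    intro v hv hv0
    have hy : ∀ y, Cfsg.hermForm n F q (X *ᵥ y) v • v = Cfsg.hermForm n F q y v • (X *ᵥ v) := fun y => by
      have h := congrArg (fun M => M *ᵥ y) (hcomm v hv)
      simpa [← Matrix.mulVec_mulVec, tvE_mulVec, Matrix.mulVec_smul] using h
    obtain ⟨y₀, hy₀⟩ := ((herm_isSesq hF).nondegenerate v hv0).1
    set α := (Cfsg.hermForm n F q y₀ v)⁻¹ * Cfsg.hermForm n F q (X *ᵥ y₀) v
    have hXv : X *ᵥ v = α • v := by rw [← smul_smul, hy y₀, smul_smul, inv_mul_cancel₀ hy₀, one_smul]
    refine ⟨α, hXv, fun y => ?_⟩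
    have h := hy y
    rw [hXv, smul_smul] at h
    rw [mul_comm]
    exact smul_left_injective F hv0 h
  obtain ⟨a, -, ha, -, -⟩ := exists_two_norm_neg_one hF
  set i₀ : Fin n := ⟨0, hn.pos⟩
  set i₁ : Fin n := ⟨1, hn.one_lt⟩
  have h01 : i₀ ≠ i₁ := by simp [i₀, i₁]
  obtain ⟨α₀, hα₀, -⟩ := heig _ (herm_pairVec_self hF h01 ha) (pairVec_ne_zero h01 a)
  have hW : Module.End.eigenspace (Matrix.toLin' X) α₀ = ⊤ := by
    refine iso_spread hF hn.two_le _ (fun v hv ⟨w, hw, hwv⟩ => ?_) fun e => ?_
    · by_cases hv0 : v = 0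
      · rw [hv0]; exact zero_mem _
      obtain ⟨α, hα, hα'⟩ := heig v hv hv0
      rw [Module.End.mem_eigenspace_iff, Matrix.toLin'_apply] at hw ⊢
      have h := hα' w
      rw [hw, (herm_isSesq hF).smul_left] at h
      rw [hα, ← mul_right_cancel₀ hwv h]
    · have h : pairVec i₀ i₁ a ∈ Module.End.eigenspace (Matrix.toLin' X) α₀ := by
        rw [Module.End.mem_eigenspace_iff, Matrix.toLin'_apply]; exact hα₀
      rw [e, Submodule.mem_bot] at h
      exact pairVec_ne_zero h01 a h
  have hXs : X = α₀ • 1 := Matrix.toLin'.injective (LinearMap.ext fun v => by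
    have : v ∈ Module.End.eigenspace (Matrix.toLin' X) α₀ := hW ▸ Submodule.mem_top
    rw [Module.End.mem_eigenspace_iff] at this
    rw [this, Matrix.toLin'_apply, Matrix.smul_mulVec, Matrix.one_mulVec])
  apply hζ.ne_one hn.one_lt
  have h3 := hxy
  rw [hXs, Matrix.smul_mul, Matrix.mul_smul, one_mul, mul_one, smul_smul] at h3
  have hc0 : α₀ ≠ 0 := fun e => x.ne_zero (by rw [← hX, hXs, e, zero_smul])
  exact (mul_eq_right₀ hc0).mp (smul_left_injective F (y.ne_zero) h3).symm

end Cfsg.Lib.Classical.PrimeDim
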