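import Cfsg.Agent.Classical.PrimeDim.Linear
import Cfsg.Prelude.Def_LieClassical

/-! The special unitary group and the members of its geometric classes in small odd degree. -/

set_option autoImplicit false
set_option linter.unusedSimpArgs false
set_option linter.unusedSectionVars false
set_option linter.style.haveILetI false

namespace Cfsg.Lib.Classical.PrimeDim

open Matrix Cfsg.Geo
open scoped MatrixGroups

universe u

variable {n : ℕ} {F : Type u} [Field F] [Fintype F] {q : ℕ}

/-- The special unitary group inside `GL`. -/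
abbrev suGL (n : ℕ) (F : Type u) [Field F] (q : ℕ) : Subgroup (GL (Fin n) F) :=
  Cfsg.GU n F q ⊓ specialLinear (Fin n) F

theorem two_le_q (hF : Fintype.card F = q ^ 2) : 2 ≤ q := by
  have h : 1 < Fintype.card F := Fintype.one_lt_card
  rw [hF] at h
  rcases q with _ | _ | q <;> simp_all

/-- The Frobenius of `GF(q²)` over `GF(q)`. -/
noncomputable def frob (hF : Fintype.card F = q ^ 2) : F ≃+* F := (exists_conj hF).choose

theorem frob_apply (hF : Fintype.card F = q ^ 2) (a : F) : frob hF a = a ^ q := (exists_conj hF).choose_spec.1 a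

theorem frob_ne_refl (hF : Fintype.card F = q ^ 2) : frob hF ≠ RingEquiv.refl F := (exists_conj hF).choose_spec.2.1

theorem frob_frob (hF : Fintype.card F = q ^ 2) (a : F) : frob hF (frob hF a) = a :=
  (exists_conj hF).choose_spec.2.2 a

theorem hermForm_eq (hF : Fintype.card F = q ^ 2) :
    Cfsg.hermForm n F q = stdHerm (1 : GL (Fin n) F) (frob hF) := by
  funext u v
  simp only [Cfsg.hermForm, stdHerm, Units.val_one, Matrix.one_mulVec, frob_apply]

theorem herm_isUnitary (hF : Fintype.card F = q ^ 2) : IsUnitaryForm (frob hF) (Cfsg.hermForm n F q) := by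
  rw [hermForm_eq hF]
  exact stdHerm_isUnitary 1 (frob_ne_refl hF) (frob_frob hF)

theorem herm_isSesq (hF : Fintype.card F = q ^ 2) : IsSesq (frob hF) (Cfsg.hermForm n F q) :=
  IsSesq.of_unitary (herm_isUnitary hF)

theorem mem_GU_iff {g : GL (Fin n) F} : g ∈ Cfsg.GU n F q ↔
    ∀ u v, Cfsg.hermForm n F q ((g : Matrix (Fin n) (Fin n) F) *ᵥ u) ((g : Matrix (Fin n) (Fin n) F) *ᵥ v) =
      Cfsg.hermForm n F q u v := Iff.rfl

/-- Elements of norm `a`, for `a` fixed by the Frobenius. -/
theorem exists_norm_eq (hF : Fintype.card F = q ^ 2) {a : F} (ha : frob hF a = a) :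
    ∃ x : F, x * frob hF x = a := by
  rcases eq_or_ne a 0 with rfl | ha0
  · exact ⟨0, zero_mul _⟩
  have hq := two_le_q hF
  let N : Fˣ →* Fˣ := powMonoidHom (q + 1)
  have hcardU : Nat.card Fˣ = (q + 1) * (q - 1) := by
    rw [Nat.card_units, Nat.card_eq_fintype_card, hF, ← Nat.sq_sub_sq, one_pow]
  have h1 : Nat.card N.ker = q + 1 := by
    rw [IsCyclic.card_powMonoidHom_ker, hcardU]
    exact Nat.gcd_eq_right (dvd_mul_right _ _)
  have h2 : Nat.card (powMonoidHom (q - 1) : Fˣ →* Fˣ).ker = q - 1 := by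
    rw [IsCyclic.card_powMonoidHom_ker, hcardU]
    exact Nat.gcd_eq_right (dvd_mul_left _ _)
  have h3 : Nat.card N.range = q - 1 := by
    have := N.ker.card_mul_index
    rw [Subgroup.index_ker, h1, hcardU] at this
    exact Nat.eq_of_mul_eq_mul_left (by omega) this
  have hle : N.range ≤ (powMonoidHom (q - 1) : Fˣ →* Fˣ).ker := by
    rintro _ ⟨x, rfl⟩
    show (x ^ (q + 1)) ^ (q - 1) = 1
    rw [← pow_mul, ← hcardU, pow_card_eq_one']
  have heq := Subgroup.eq_of_le_of_card_ge hle (by rw [h2, h3])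
  have hmem : Units.mk0 a ha0 ∈ (powMonoidHom (q - 1) : Fˣ →* Fˣ).ker := by
    rw [frob_apply] at ha
    refine Units.ext ?_
    show a ^ (q - 1) = 1
    refine (mul_eq_right₀ ha0).mp ?_
    rw [← pow_succ, Nat.sub_add_cancel (by omega), ha]
  rw [← heq] at hmem
  obtain ⟨x, hx⟩ := hmem
  refine ⟨x, ?_⟩
  rw [frob_apply, ← pow_succ']
  exact congrArg Units.val hx

/-- The elements of norm `-1`. -/
theorem card_norm_neg_one (hF : Fintype.card F = q ^ 2) :
    ∃ s : Finset F, s.card = q + 1 ∧ ∀ x ∈ s, x * frob hF x = -1 ∧ x ≠ 0 := by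
  classical
  have hq := two_le_q hF
  obtain ⟨x₀, hx₀⟩ := exists_norm_eq hF (a := -1) (by rw [map_neg, map_one])
  have hx0 : x₀ ≠ 0 := fun e => by rw [e, zero_mul] at hx₀; exact (neg_ne_zero.mpr one_ne_zero) hx₀.symm
  let N : Fˣ →* Fˣ := powMonoidHom (q + 1)
  have h1 : Nat.card N.ker = q + 1 := by
    rw [IsCyclic.card_powMonoidHom_ker, Nat.card_units, Nat.card_eq_fintype_card, hF, ← one_pow 2, Nat.sq_sub_sq,
      one_pow]
    exact Nat.gcd_eq_right (dvd_mul_right _ _)
  refine ⟨Finset.univ.image fun u : N.ker => ((u : Fˣ) : F) * x₀, ?_, ?_⟩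
  · rw [Finset.card_image_of_injective _ (fun a b h => Subtype.ext (Units.ext (mul_right_cancel₀ hx0 h))),
      Finset.card_univ, ← Nat.card_eq_fintype_card, h1]
  · intro x hx
    obtain ⟨u, -, rfl⟩ := Finset.mem_image.mp hx
    refine ⟨?_, mul_ne_zero (Units.ne_zero _) hx0⟩
    have hu : ((u : Fˣ) : F) * frob hF ((u : Fˣ) : F) = 1 := by
      rw [frob_apply, ← pow_succ']
      exact congrArg Units.val u.2
    calc ((u : Fˣ) : F) * x₀ * frob hF (((u : Fˣ) : F) * x₀)
        = (((u : Fˣ) : F) * frob hF ((u : Fˣ) : F)) * (x₀ * frob hF x₀) := by rw [map_mul]; ring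
      _ = -1 := by rw [hu, hx₀, one_mul]

theorem exists_two_norm_neg_one (hF : Fintype.card F = q ^ 2) :
    ∃ a b : F, a * frob hF a = -1 ∧ b * frob hF b = -1 ∧ a ≠ b := by
  obtain ⟨s, hs, hsp⟩ := card_norm_neg_one hF
  obtain ⟨a, ha, b, hb, hab⟩ := Finset.one_lt_card.mp (by rw [hs]; have := two_le_q hF; omega : 1 < s.card)
  exact ⟨a, b, (hsp a ha).1, (hsp b hb).1, hab⟩

/-- A non-zero skew element. -/
theorem exists_skew (hF : Fintype.card F = q ^ 2) : ∃ c : F, c ≠ 0 ∧ c + frob hF c = 0 := by
  obtain ⟨θ, hθ⟩ : ∃ θ, frob hF θ ≠ θ := by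
    by_contra hc
    push Not at hc
    exact frob_ne_refl hF (RingEquiv.ext hc)
  exact ⟨θ - frob hF θ, sub_ne_zero.mpr hθ.symm, by rw [map_sub, frob_frob]; ring⟩

theorem sum_pair_single {i j : Fin n} (hij : i ≠ j) (f : Fin n → F) (hf : ∀ k, k ≠ i → k ≠ j → f k = 0) :
    ∑ k, f k = f i + f j := by
  rw [← Finset.sum_pair hij]
  refine (Finset.sum_subset (Finset.subset_univ _) fun k _ hk => hf k ?_ ?_).symm <;> intro e <;> simp [e] at hk

/-- The vector `e_i + a e_j`. -/
def pairVec (i j : Fin n) (a : F) : Fin n → F := Pi.single i 1 + a • Pi.single j 1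

theorem herm_pairVec_right (hF : Fintype.card F = q ^ 2) (u : Fin n → F) (i j : Fin n) (a : F) :
    Cfsg.hermForm n F q u (pairVec i j a) = u i + frob hF a * u j := by
  have h1 : ∀ k, Cfsg.hermForm n F q u (Pi.single k 1) = u k := fun k => by
    simp only [hermForm_eq hF, stdHerm, Units.val_one, Matrix.one_mulVec]
    rw [Finset.sum_eq_single k (fun l _ hl => by rw [Pi.single_eq_of_ne hl, map_zero, mul_zero]) (by simp),
      Pi.single_eq_same, map_one, mul_one]
  rw [pairVec, (herm_isSesq hF).add_right, (herm_isSesq hF).smul_right, h1, h1]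

theorem herm_pairVec_self (hF : Fintype.card F = q ^ 2) {i j : Fin n} (hij : i ≠ j) {a : F}
    (ha : a * frob hF a = -1) : Cfsg.hermForm n F q (pairVec i j a) (pairVec i j a) = 0 := by
  rw [herm_pairVec_right hF]
  simp [pairVec, Pi.single_eq_of_ne hij, Pi.single_eq_of_ne hij.symm, mul_comm (frob hF a), ha]

theorem pairVec_ne_zero {i j : Fin n} (hij : i ≠ j) (a : F) : pairVec i j a ≠ 0 := fun e => by
  have := congrFun e i
  simp [pairVec, Pi.single_eq_of_ne hij] at this

/-- Isotropic vectors are connected through non-orthogonality and span the space. -/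
theorem iso_spread (hF : Fintype.card F = q ^ 2) (hn : 2 ≤ n) (W : Submodule F (Fin n → F))
    (hW : ∀ v, Cfsg.hermForm n F q v v = 0 → (∃ w ∈ W, Cfsg.hermForm n F q w v ≠ 0) → v ∈ W)
    (hW0 : W ≠ ⊥) : W = ⊤ := by
  obtain ⟨w, hw, hw0⟩ := (Submodule.ne_bot_iff W).mp hW0
  obtain ⟨a, b, ha, hb, hab⟩ := exists_two_norm_neg_one hF
  have hpair : ∀ i j : Fin n, i ≠ j → (∃ w ∈ W, w i ≠ 0) → Pi.single i 1 ∈ W ∧ Pi.single j (1 : F) ∈ W := by
    intro i j hij ⟨w, hw, hwi⟩
    have hne : ∀ c d : F, c * frob hF c = -1 → d * frob hF d = -1 → c ≠ d →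
        Cfsg.hermForm n F q (pairVec i j c) (pairVec i j d) ≠ 0 := by
      intro c d hc hd hcd
      rw [herm_pairVec_right hF]
      simp only [pairVec, Pi.add_apply, Pi.single_eq_same, Pi.smul_apply, Pi.single_eq_of_ne hij, smul_eq_mul,
        mul_zero, add_zero, mul_one, Pi.single_eq_of_ne hij.symm, zero_add]
      intro e
      apply hcd
      have hd0 : frob hF d ≠ 0 := fun e0 => by rw [e0, mul_zero] at hd; exact one_ne_zero (neg_eq_zero.mp hd.symm)
      exact mul_right_cancel₀ hd0 (by rw [hd]; linear_combination e)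
    have hone : ∃ c, (c = a ∨ c = b) ∧ pairVec i j c ∈ W := by
      by_cases h : Cfsg.hermForm n F q w (pairVec i j a) = 0
      · refine ⟨b, Or.inr rfl, hW _ (herm_pairVec_self hF hij hb) ⟨w, hw, fun h' => ?_⟩⟩
        rw [herm_pairVec_right hF] at h h'
        have hj : (frob hF a - frob hF b) * w j = 0 := by linear_combination h - h'
        have hj0 : w j = 0 :=
          (mul_eq_zero.mp hj).resolve_left (sub_ne_zero.mpr fun e => hab ((frob hF).injective e))
        exact hwi (by rw [hj0, mul_zero, add_zero] at h; exact h)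
      · exact ⟨a, Or.inl rfl, hW _ (herm_pairVec_self hF hij ha) ⟨w, hw, h⟩⟩
    have hboth : pairVec i j a ∈ W ∧ pairVec i j b ∈ W := by
      obtain ⟨c, rfl | rfl, hc⟩ := hone
      · exact ⟨hc, hW _ (herm_pairVec_self hF hij hb) ⟨_, hc, hne _ _ ha hb hab⟩⟩
      · exact ⟨hW _ (herm_pairVec_self hF hij ha) ⟨_, hc, hne _ _ hb ha hab.symm⟩, hc⟩
    have hj : Pi.single j (1 : F) ∈ W := by
      have h := W.smul_mem (a - b)⁻¹ (sub_mem hboth.1 hboth.2)
      rwa [show pairVec i j a - pairVec i j b = (a - b) • Pi.single j (1 : F) by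
        simp only [pairVec, sub_smul]; abel, smul_smul, inv_mul_cancel₀ (sub_ne_zero.mpr hab), one_smul] at h
    refine ⟨?_, hj⟩
    have h := sub_mem hboth.1 (W.smul_mem a hj)
    simpa [pairVec] using h
  obtain ⟨i, hi⟩ := Function.ne_iff.mp hw0
  refine Submodule.eq_top_iff'.mpr fun v => ?_
  rw [pi_eq_sum_univ' v]
  refine sum_mem fun j _ => W.smul_mem _ ?_
  by_cases hij : i = j
  · haveI : Nontrivial (Fin n) := Fin.nontrivial_iff_two_le.mpr hn
    obtain ⟨k, hk⟩ := exists_ne i
    exact hij ▸ (hpair i k hk.symm ⟨w, hw, hi⟩).1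
  · exact (hpair i j hij ⟨w, hw, hi⟩).2

/-- The nilpotent part of a unitary transvection. -/
def tvE (q : ℕ) (v : Fin n → F) : Matrix (Fin n) (Fin n) F := Matrix.vecMulVec v fun j => v j ^ q

theorem tvE_mulVec (q : ℕ) (v x : Fin n → F) : tvE q v *ᵥ x = Cfsg.hermForm n F q x v • v := by
  funext i
  simp only [tvE, Matrix.mulVec, dotProduct, Matrix.vecMulVec_apply, Pi.smul_apply, smul_eq_mul, Cfsg.hermForm,
    Finset.sum_mul]
  exact Finset.sum_congr rfl fun j _ => by ring

theorem tv_mul (q : ℕ) {v : Fin n → F} (hv : Cfsg.hermForm n F q v v = 0) (c d : F) :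
    (1 + c • tvE q v) * (1 + d • tvE q v) = 1 + (c + d) • tvE q v := by
  have hE : tvE q v * tvE q v = 0 := by
    refine Matrix.toLin'.injective (LinearMap.ext fun x => ?_)
    rw [map_zero, LinearMap.zero_apply, Matrix.toLin'_apply, ← Matrix.mulVec_mulVec, tvE_mulVec q v x,
      Matrix.mulVec_smul, tvE_mulVec, hv, zero_smul, smul_zero]
  simp only [mul_add, add_mul, one_mul, mul_one, Matrix.smul_mul, Matrix.mul_smul, hE, smul_zero, add_zero, add_smul]
  abel

/-- The unitary transvection with centre `v` and parameter `c`. -/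
def utv (q : ℕ) {v : Fin n → F} (hv : Cfsg.hermForm n F q v v = 0) (c : F) : GL (Fin n) F :=
  ⟨1 + c • tvE q v, 1 + (-c) • tvE q v, by rw [tv_mul q hv, add_neg_cancel, zero_smul, add_zero],
    by rw [tv_mul q hv, neg_add_cancel, zero_smul, add_zero]⟩

theorem utv_mulVec {v : Fin n → F} (hv : Cfsg.hermForm n F q v v = 0) (c : F) (x : Fin n → F) :
    (utv q hv c : Matrix (Fin n) (Fin n) F) *ᵥ x = x + (c * Cfsg.hermForm n F q x v) • v := by
  show (1 + c • tvE q v) *ᵥ x = _
  rw [Matrix.add_mulVec, Matrix.one_mulVec, Matrix.smul_mulVec, tvE_mulVec, smul_smul]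

theorem utv_inv {v : Fin n → F} (hv : Cfsg.hermForm n F q v v = 0) (c : F) :
    (((utv q hv c)⁻¹ : GL (Fin n) F) : Matrix (Fin n) (Fin n) F) = 1 + (-c) • tvE q v := rfl

theorem utv_mem (hF : Fintype.card F = q ^ 2) {v : Fin n → F} (hv : Cfsg.hermForm n F q v v = 0) {c : F}
    (hc : c + frob hF c = 0) : utv q hv c ∈ suGL n F q := by
  have hs := herm_isSesq (n := n) hF
  refine ⟨mem_GU_iff.mpr fun x y => ?_, ?_⟩
  · rw [utv_mulVec hv, utv_mulVec hv, hs.add_left, hs.add_right, hs.add_right, hs.smul_left, hs.smul_left,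
      hs.smul_right, hs.smul_right, hv, map_mul, (herm_isUnitary hF).herm v y, mul_zero, mul_zero, add_zero]
    linear_combination (Cfsg.hermForm n F q x v * frob hF (Cfsg.hermForm n F q y v)) * hc
  · show Matrix.GeneralLinearGroup.det (utv q hv c) = 1
    refine Units.ext ?_
    show (1 + c • tvE q v).det = 1
    rw [tvE, ← Matrix.smul_vecMulVec, Matrix.vecMulVec_eq (ι := Unit), det_one_add_replicateCol_mul_replicateRow,
      dotProduct_smul]
    have e : (fun j => v j ^ q) ⬝ᵥ v = Cfsg.hermForm n F q v v := by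
      simp only [dotProduct, Cfsg.hermForm, mul_comm]
    rw [e, hv, smul_zero, add_zero]

theorem suGL_not_le_subspace (hF : Fintype.card F = q ^ 2) (hn : 2 ≤ n) {W : Submodule F (Fin n → F)}
    (h0 : W ≠ ⊥) (h1 : W ≠ ⊤) : ¬ suGL n F q ≤ subspaceStabilizer W := by
  intro hle
  obtain ⟨c, hc0, hc⟩ := exists_skew hF
  refine h1 (iso_spread hF hn W (fun v hv ⟨w, hw, hwv⟩ => ?_) h0)
  have h := (hle (utv_mem hF hv hc) w).mp hw
  change (utv q hv c : Matrix (Fin n) (Fin n) F) *ᵥ w ∈ W at h
  rw [utv_mulVec hv] at h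
  have h' := W.smul_mem (c * Cfsg.hermForm n F q w v)⁻¹ (sub_mem h hw)
  rwa [add_sub_cancel_left, smul_smul, inv_mul_cancel₀ (mul_ne_zero hc0 hwv), one_smul] at h'

theorem suGL_not_le_field (hF : Fintype.card F = q ^ 2) (hn : 3 ≤ n) {K : Subalgebra F (Matrix (Fin n) (Fin n) F)}
    (hK : IsFieldSubalgebra n K) : ¬ suGL n F q ≤ subalgebraNormalizer K := by
  intro hle
  obtain ⟨c, hc0, hc⟩ := exists_skew hF
  obtain ⟨a, -, ha, -, -⟩ := exists_two_norm_neg_one hF
  set i₀ : Fin n := ⟨0, by omega⟩
  set i₁ : Fin n := ⟨1, by omega⟩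
  have hij : i₀ ≠ i₁ := by simp [i₀, i₁]
  set v := pairVec i₀ i₁ a with hvdef
  have hv := herm_pairVec_self hF hij ha
  set t := utv q hv c
  have h1 : Module.finrank F K = 1 := (finrank_eq_one_iff_of_nonzero' (⟨1, one_mem _⟩ : K)
    (fun e => haveI : Nonempty (Fin n) := ⟨i₀⟩; one_ne_zero (congrArg Subtype.val e))).mpr fun ⟨k, hk⟩ => by
      have hmem : (t : Matrix (Fin n) (Fin n) F) * k * ((t⁻¹ : GL (Fin n) F) : Matrix (Fin n) (Fin n) F) - k ∈ K :=
        sub_mem ((hle (utv_mem hF hv hc) k).mp hk) hk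
      let φ : (Fin n → F) →ₗ[F] F × F :=
        ((Matrix.toLin' (Matrix.of fun _ : Fin 1 => fun j => v j ^ q)) |> (LinearMap.proj 0).comp).prod
          (((Matrix.toLin' (Matrix.of fun _ : Fin 1 => fun j => v j ^ q)) |> (LinearMap.proj 0).comp).comp
            (Matrix.toLin' k))
      have hker : LinearMap.ker φ ≠ ⊥ := LinearMap.ker_ne_bot_of_finrank_lt (by
        rw [Module.finrank_prod, Module.finrank_self, finrank_pi_card, Fintype.card_fin]; omega)
      obtain ⟨w, hw, hw0⟩ := (Submodule.ne_bot_iff _).mp hker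
      have hφ : ∀ x : Fin n → F, (Matrix.of (fun _ : Fin 1 => fun j => v j ^ q) *ᵥ x) 0 = Cfsg.hermForm n F q x v :=
        fun x => by simp only [Matrix.mulVec, dotProduct, Matrix.of_apply, Cfsg.hermForm, mul_comm]
      have hw1 : Cfsg.hermForm n F q w v = 0 := by
        rw [← hφ]; exact congrArg Prod.fst (LinearMap.mem_ker.mp hw)
      have hw2 : Cfsg.hermForm n F q (k *ᵥ w) v = 0 := by
        rw [← hφ]; exact congrArg Prod.snd (LinearMap.mem_ker.mp hw)
      have htw : (t : Matrix (Fin n) (Fin n) F) *ᵥ w = w := by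
        rw [utv_mulVec hv, hw1, mul_zero, zero_smul, add_zero]
      have hzero : ((t : Matrix (Fin n) (Fin n) F) * k * ((t⁻¹ : GL (Fin n) F) : Matrix (Fin n) (Fin n) F) - k) *ᵥ w = 0 := by
        have e : ((t⁻¹ : GL (Fin n) F) : Matrix (Fin n) (Fin n) F) *ᵥ w = w := by
          conv_lhs => rw [← htw, inv_mulVec_mulVec]
        rw [Matrix.sub_mulVec, ← Matrix.mulVec_mulVec, e, ← Matrix.mulVec_mulVec, utv_mulVec hv, hw2, mul_zero,
          zero_smul, add_zero, sub_self]
      have heq : (t : Matrix (Fin n) (Fin n) F) * k * ((t⁻¹ : GL (Fin n) F) : Matrix (Fin n) (Fin n) F) - k = 0 := by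
        by_contra hne
        obtain ⟨u, hu⟩ := fieldSub_isUnit hK hmem hne
        rw [← hu] at hzero
        exact gl_mulVec_ne_zero u hw0 hzero
      have hcm : (t : Matrix (Fin n) (Fin n) F) * k = k * (t : Matrix (Fin n) (Fin n) F) := by
        conv_rhs => rw [← sub_eq_zero.mp heq, mul_assoc, val_inv_mul, mul_one]
      obtain ⟨x, hx⟩ := ((herm_isSesq hF).nondegenerate v (pairVec_ne_zero hij a)).1
      have h2 := congrArg (fun M => M *ᵥ x) hcm
      simp only [← Matrix.mulVec_mulVec, utv_mulVec hv, t, Matrix.mulVec_add, Matrix.mulVec_smul] at h2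
      have hkv : k *ᵥ v = ((c * Cfsg.hermForm n F q x v)⁻¹ * (c * Cfsg.hermForm n F q (k *ᵥ x) v)) • v := by
        rw [← smul_smul, add_left_cancel h2, smul_smul, inv_mul_cancel₀ (mul_ne_zero hc0 hx), one_smul]
      set μ := (c * Cfsg.hermForm n F q x v)⁻¹ * (c * Cfsg.hermForm n F q (k *ᵥ x) v)
      refine ⟨μ, Subtype.ext ?_⟩
      show μ • (1 : Matrix (Fin n) (Fin n) F) = k
      by_contra hne
      obtain ⟨u, hu⟩ := fieldSub_isUnit hK (sub_mem hk (Subalgebra.smul_mem _ (one_mem _) μ))
        (sub_ne_zero.mpr (Ne.symm hne))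
      refine gl_mulVec_ne_zero u (pairVec_ne_zero hij a) ?_
      rw [hu, Matrix.sub_mulVec, ← hvdef, hkv, Matrix.smul_mulVec, Matrix.one_mulVec, sub_self]
  rw [hK.finrank_eq] at h1
  omega

theorem suGL_not_le_decomposition (hF : Fintype.card F = q ^ 2) (hn : 3 ≤ n) (hqn : 3 ≤ q ∨ 4 ≤ n)
    {D : Fin n → Submodule F (Fin n → F)} (hD : IsMDecomposition 1 D) :
    ¬ suGL n F q ≤ decompositionStabilizer D := by
  classical
  intro hle
  obtain ⟨B, hB⟩ := exists_monomial_basis (Fintype.card_fin n) hD
  set Bm : Matrix (Fin n) (Fin n) F := (B : Matrix (Fin n) (Fin n) F) with hBm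
  have hmove : ∀ (v : Fin n → F) (hv : Cfsg.hermForm n F q v v = 0), v ≠ 0 → ∀ c, c ≠ 0 → c + frob hF c = 0 →
      ∃ i j, i ≠ j ∧ (Bm *ᵥ v) i ≠ 0 ∧ (Bm *ᵥ v) j ≠ 0 ∧ (∀ k, k ≠ i → k ≠ j → (Bm *ᵥ v) k = 0) ∧
        ∀ k, (Bm *ᵥ v) k ≠ 0 →
          c * Cfsg.hermForm n F q (((B⁻¹ : GL (Fin n) F) : Matrix (Fin n) (Fin n) F) *ᵥ Pi.single k 1) v *
            (Bm *ᵥ v) k = -1 := by
    intro v hv hv0 c hc0 hc
    obtain ⟨π, d, hd0, hM⟩ := hB _ (hle (utv_mem hF hv hc))
    set b : Fin n → (Fin n → F) := fun i => ((B⁻¹ : GL (Fin n) F) : Matrix (Fin n) (Fin n) F) *ᵥ Pi.single i 1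
    set γ : Fin n → F := fun i => c * Cfsg.hermForm n F q (b i) v
    have hkey : ∀ i k, γ i * (Bm *ᵥ v) k = (if k = π i then d i else 0) - (if k = i then 1 else 0) := by
      intro i k
      have e : ((B * utv q hv c * B⁻¹ : GL (Fin n) F) : Matrix (Fin n) (Fin n) F) *ᵥ Pi.single i 1 =
          Pi.single i 1 + γ i • (Bm *ᵥ v) := by
        rw [Units.val_mul, Units.val_mul, ← Matrix.mulVec_mulVec, ← Matrix.mulVec_mulVec, utv_mulVec hv,
          Matrix.mulVec_add, Matrix.mulVec_smul, mulVec_inv_mulVec]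
      have e' := congrFun e k
      rw [Matrix.mulVec_single_one] at e'
      rw [show (((B * utv q hv c * B⁻¹ : GL (Fin n) F) : Matrix (Fin n) (Fin n) F)).col i k = _ from hM k i,
        Pi.add_apply, Pi.smul_apply, smul_eq_mul, Pi.single_apply] at e'
      rw [e']; ring
    obtain ⟨i, hi⟩ : ∃ i, π i ≠ i := by
      by_contra hall
      push Not at hall
      obtain ⟨x, hx⟩ := ((herm_isSesq hF).nondegenerate v hv0).1
      have hγ : ∀ i, γ i = 0 := by
        intro i
        by_contra hγ
        have hoff : ∀ k, k ≠ i → (Bm *ᵥ v) k = 0 := fun k hk => by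
          have := hkey i k
          rw [hall i, if_neg hk, if_neg hk, sub_zero] at this
          exact (mul_eq_zero.mp this).resolve_left hγ
        have hb : v = (Bm *ᵥ v) i • b i := by
          have : Bm *ᵥ v = (Bm *ᵥ v) i • Pi.single i 1 := by
            funext k
            by_cases hk : k = i
            · subst hk; simp
            · simp [Pi.single_eq_of_ne hk, hoff k hk]
          conv_lhs => rw [← inv_mulVec_mulVec B v, ← hBm, this, Matrix.mulVec_smul]
        have hv' := congrArg (fun u => Cfsg.hermForm n F q u v) hb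
        simp only [hv, (herm_isSesq hF).smul_left] at hv'
        have hvi : (Bm *ᵥ v) i ≠ 0 := fun e0 => hv0 (by rw [hb, e0, zero_smul])
        exact hγ (by simp only [γ]; rw [(mul_eq_zero.mp hv'.symm).resolve_left hvi, mul_zero])
      have hall0 : ∀ i, Cfsg.hermForm n F q (b i) v = 0 := fun i => (mul_eq_zero.mp (hγ i)).resolve_left hc0
      apply hx
      have : x = ∑ k, (Bm *ᵥ x) k • b k := by
        conv_lhs => rw [← inv_mulVec_mulVec B x, ← hBm, pi_eq_sum_univ' (Bm *ᵥ x)]
        rw [Matrix.mulVec_sum]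
        simp only [Matrix.mulVec_smul, b]
      rw [this, (herm_isSesq hF).sum_left]
      exact Finset.sum_eq_zero fun k _ => by rw [(herm_isSesq hF).smul_left, hall0, mul_zero]
    have hdiag : ∀ k, π k ≠ k → γ k * (Bm *ᵥ v) k = -1 := fun k hk => by
      have := hkey k k
      rwa [if_neg (Ne.symm hk), if_pos rfl, zero_sub] at this
    have h1 := hdiag i hi
    have hγ : γ i ≠ 0 := fun e => by rw [e, zero_mul] at h1; exact one_ne_zero (neg_eq_zero.mp h1.symm)
    have hoff : ∀ k, k ≠ i → k ≠ π i → (Bm *ᵥ v) k = 0 := fun k hk hk' => by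
      have := hkey i k
      rw [if_neg hk', if_neg hk, sub_zero] at this
      exact (mul_eq_zero.mp this).resolve_left hγ
    refine ⟨i, π i, Ne.symm hi, fun e => by rw [e, mul_zero] at h1; exact one_ne_zero (neg_eq_zero.mp h1.symm),
      fun e => ?_, hoff, fun k hk => hdiag k fun hπk => ?_⟩
    · have := hkey i (π i)
      rw [e, mul_zero, if_pos rfl, if_neg hi, sub_zero] at this
      exact hd0 i this.symm
    · by_cases hki : k = i
      · exact hi (hki ▸ hπk)
      · by_cases hkj : k = π i
        · exact hi (π.injective (hkj ▸ hπk))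
        · exact hk (hoff k hki hkj)
  obtain ⟨c, hc0, hc⟩ := exists_skew hF
  obtain ⟨a, -, ha, -, -⟩ := exists_two_norm_neg_one hF
  rcases hqn with hq | hn4
  · -- two different parameters give the same transposition
    obtain ⟨t, ht, ht0, ht1⟩ : ∃ t : F, frob hF t = t ∧ t ≠ 0 ∧ t ≠ 1 := by
      obtain ⟨x, hx⟩ : ∃ x : F, x * frob hF x ≠ 0 ∧ x * frob hF x ≠ 1 := by
        by_contra hcon
        push Not at hcon
        let N : Fˣ →* Fˣ := powMonoidHom (q + 1)
        have hall : N.ker = ⊤ := eq_top_iff.mpr fun x _ => Units.ext (by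
          show (x : F) ^ (q + 1) = 1
          have h := hcon (x : F) (mul_ne_zero x.ne_zero fun e =>
            x.ne_zero ((frob hF).injective (e.trans (frob hF).map_zero.symm)))
          rwa [frob_apply, ← pow_succ'] at h)
        have h1 : Nat.card N.ker = Nat.card Fˣ := by rw [hall, Nat.card_congr Subgroup.topEquiv.toEquiv]
        have hle : Nat.card N.ker ≤ q + 1 := by
          rw [IsCyclic.card_powMonoidHom_ker]
          exact Nat.le_of_dvd (by omega) (Nat.gcd_dvd_right _ _)
        rw [h1, Nat.card_units, Nat.card_eq_fintype_card, hF] at hle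
        have : 3 * q ≤ q ^ 2 := by rw [pow_two]; exact Nat.mul_le_mul_right q hq
        omega
      exact ⟨_, by rw [map_mul, frob_frob, mul_comm], hx.1, hx.2⟩
    set i₀ : Fin n := ⟨0, by omega⟩
    set i₁ : Fin n := ⟨1, by omega⟩
    have hij : i₀ ≠ i₁ := by simp [i₀, i₁]
    have hv := herm_pairVec_self hF hij ha
    have hv0 := pairVec_ne_zero hij a
    obtain ⟨i, -, -, hi, -, -, hall⟩ := hmove _ hv hv0 c hc0 hc
    obtain ⟨-, -, -, -, -, -, hall'⟩ := hmove _ hv hv0 (t * c) (mul_ne_zero ht0 hc0)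
      (by rw [map_mul, ht, ← mul_add, hc, mul_zero])
    have e := hall i hi
    have e' := hall' i hi
    rw [mul_assoc t, mul_assoc t, e] at e'
    exact ht1 (by linear_combination (-1 : F) * e')
  · set i₀ : Fin n := ⟨0, by omega⟩
    set i₁ : Fin n := ⟨1, by omega⟩
    set i₂ : Fin n := ⟨2, by omega⟩
    set i₃ : Fin n := ⟨3, by omega⟩
    set v := pairVec i₀ i₁ a
    set w := pairVec i₂ i₃ a
    have h01 : i₀ ≠ i₁ := by simp [i₀, i₁]
    have h23 : i₂ ≠ i₃ := by simp [i₂, i₃]
    have hv := herm_pairVec_self hF h01 ha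
    have hw := herm_pairVec_self hF h23 ha
    have hvw : Cfsg.hermForm n F q v w = 0 := by
      rw [herm_pairVec_right hF]
      simp [v, pairVec, i₀, i₁, i₂, i₃, Pi.single_apply]
    have hwv : Cfsg.hermForm n F q w v = 0 := by
      rw [(herm_isUnitary hF).herm, hvw, map_zero]
    set supp : (Fin n → F) → Finset (Fin n) := fun u => Finset.univ.filter fun k => (Bm *ᵥ u) k ≠ 0
    have hsupp : ∀ μ ν : F, μ • v + ν • w ≠ 0 → (supp (μ • v + ν • w)).card = 2 := by
      intro μ ν hne
      have hiso : Cfsg.hermForm n F q (μ • v + ν • w) (μ • v + ν • w) = 0 := by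
        simp only [(herm_isSesq hF).add_left, (herm_isSesq hF).add_right, (herm_isSesq hF).smul_left,
          (herm_isSesq hF).smul_right, v, w, hv, hw]
        simp only [show Cfsg.hermForm n F q (pairVec i₀ i₁ a) (pairVec i₂ i₃ a) = 0 from hvw,
          show Cfsg.hermForm n F q (pairVec i₂ i₃ a) (pairVec i₀ i₁ a) = 0 from hwv, mul_zero, add_zero]
      obtain ⟨i, j, hne', hi, hj, hk, -⟩ := hmove _ hiso hne c hc0 hc
      rw [show supp (μ • v + ν • w) = {i, j} from ?_, Finset.card_pair hne']
      ext k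
      simp only [supp, Finset.mem_filter, Finset.mem_univ, true_and, Finset.mem_insert, Finset.mem_singleton]
      refine ⟨fun h => by_contra fun hh => h (hk k (fun e => hh (Or.inl e)) (fun e => hh (Or.inr e))), ?_⟩
      rintro (rfl | rfl) <;> assumption
    have hcomb : ∀ μ ν : F, μ • v + ν • w = 0 → μ = 0 ∧ ν = 0 := by
      intro μ ν h
      have e0 := congrFun h i₀
      have e2 := congrFun h i₂
      simp [v, w, pairVec, i₀, i₁, i₂, i₃, Pi.single_apply] at e0 e2
      exact ⟨e0, e2⟩
    have hne1 : ∀ {μ ν : F}, μ ≠ 0 → μ • v + ν • w ≠ 0 := fun hμ h => hμ (hcomb _ _ h).1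
    set V' := Bm *ᵥ v with hV'
    set W' := Bm *ᵥ w with hW'
    have hcoord : ∀ μ ν k, (Bm *ᵥ (μ • v + ν • w)) k = μ * V' k + ν * W' k := fun μ ν k => by
      rw [Matrix.mulVec_add, Matrix.mulVec_smul, Matrix.mulVec_smul]; rfl
    have hSv : (supp v).card = 2 := by simpa using hsupp 1 0 (hne1 one_ne_zero)
    have hSw : (supp w).card = 2 := by
      simpa using hsupp 0 1 fun h => one_ne_zero (hcomb _ _ h).2
    by_cases hov : ∀ k ∈ supp v, k ∉ supp w
    · -- disjoint supports
      have h11 := hsupp 1 1 (hne1 one_ne_zero)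
      have hsub : supp v ∪ supp w ⊆ supp ((1 : F) • v + (1 : F) • w) := by
        intro k hk
        simp only [supp, Finset.mem_filter, Finset.mem_univ, true_and, hcoord, one_mul]
        rcases Finset.mem_union.mp hk with h | h
        · have h' := hov k h
          simp only [supp, Finset.mem_filter, Finset.mem_univ, true_and, not_not] at h h'
          rwa [show W' k = 0 from h', add_zero]
        · have h' : k ∉ supp v := fun hh => hov k hh h
          simp only [supp, Finset.mem_filter, Finset.mem_univ, true_and, not_not] at h h'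
          rwa [show V' k = 0 from h', zero_add]
      have h5 := Finset.card_le_card hsub
      rw [h11, Finset.card_union_of_disjoint (Finset.disjoint_left.mpr hov), hSv, hSw] at h5
      omega
    · push Not at hov
      obtain ⟨k₀, hkv, hkw⟩ := hov
      simp only [supp, Finset.mem_filter, Finset.mem_univ, true_and] at hkv hkw
      by_cases hsame : supp v = supp w
      · -- cancel one coordinate
        set μ := -(V' k₀) / W' k₀ with hμ
        have h2 := hsupp 1 μ (hne1 one_ne_zero)
        have hsub : supp ((1 : F) • v + μ • w) ⊆ (supp v).erase k₀ := by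
          intro k hk
          simp only [supp, Finset.mem_filter, Finset.mem_univ, true_and, hcoord, one_mul] at hk
          refine Finset.mem_erase.mpr ⟨fun e => hk ?_, ?_⟩
          · rw [e, hμ, div_mul_cancel₀ _ hkw, add_neg_cancel]
          · by_contra hkS
            have hkS' : k ∉ supp w := hsame ▸ hkS
            simp only [supp, Finset.mem_filter, Finset.mem_univ, true_and, not_not] at hkS hkS'
            rw [show V' k = 0 from hkS, show W' k = 0 from hkS', mul_zero, add_zero] at hk
            exact hk rfl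
        have h5 := Finset.card_le_card hsub
        rw [h2, Finset.card_erase_of_mem (by simp only [supp, Finset.mem_filter, Finset.mem_univ, true_and]; exact hkv),
          hSv] at h5
        omega
      · -- no cancellation possible
        obtain ⟨μ, hμ0, hμ1⟩ : ∃ μ : F, μ ≠ 0 ∧ V' k₀ + μ * W' k₀ ≠ 0 := by
          by_cases h : V' k₀ + 1 * W' k₀ = 0
          · obtain ⟨θ, hθ⟩ : ∃ θ, frob hF θ ≠ θ := by
              by_contra hc
              push Not at hc
              exact frob_ne_refl hF (RingEquiv.ext hc)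
            refine ⟨θ, fun e => hθ (by rw [e, map_zero]), fun h' => ?_⟩
            have : (θ - 1) * W' k₀ = 0 := by linear_combination h' - h
            exact hθ (by rw [sub_eq_zero.mp ((mul_eq_zero.mp this).resolve_right hkw), map_one])
          · exact ⟨1, one_ne_zero, h⟩
        have h2 := hsupp 1 μ (hne1 one_ne_zero)
        have hsub : supp v ∪ supp w ⊆ supp ((1 : F) • v + μ • w) := by
          intro k hk
          simp only [supp, Finset.mem_filter, Finset.mem_univ, true_and, hcoord, one_mul]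
          by_cases hk0 : k = k₀
          · rw [hk0]; exact hμ1
          by_cases hkV : V' k = 0
          · rw [hkV, zero_add]
            refine mul_ne_zero hμ0 ?_
            rcases Finset.mem_union.mp hk with h | h <;>
              simp only [supp, Finset.mem_filter, Finset.mem_univ, true_and] at h
            · exact absurd hkV h
            · exact h
          · intro e
            apply hsame
            have hkW : W' k ≠ 0 := fun e' => hkV (by rw [e', mul_zero, add_zero] at e; exact e)
            have hsv : supp v = {k₀, k} := (Finset.eq_of_subset_of_card_le (by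
              intro x hx
              simp only [Finset.mem_insert, Finset.mem_singleton] at hx
              simp only [supp, Finset.mem_filter, Finset.mem_univ, true_and]
              rcases hx with rfl | rfl
              · exact hkv
              · exact hkV) (by rw [hSv, Finset.card_pair (Ne.symm hk0)])).symm
            have hsw : supp w = {k₀, k} := (Finset.eq_of_subset_of_card_le (by
              intro x hx
              simp only [Finset.mem_insert, Finset.mem_singleton] at hx
              simp only [supp, Finset.mem_filter, Finset.mem_univ, true_and]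
              rcases hx with rfl | rfl
              · exact hkw
              · exact hkW) (by rw [hSw, Finset.card_pair (Ne.symm hk0)])).symm
            rw [hsv, hsw]
        have h5 := Finset.card_le_card hsub
        rw [h2] at h5
        exact hsame (Finset.eq_of_subset_of_card_le (Finset.union_subset_iff.mp
          (Finset.eq_of_subset_of_card_le (Finset.subset_union_left : supp v ⊆ supp v ∪ supp w) (by omega)).ge).2
          (by omega)).symm

end Cfsg.Lib.Classical.PrimeDim
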