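import Cfsg.Agent.Classical.PrimeDim.Heisenberg

/-! The dichotomy for irreducible subgroups of `SL` in odd prime degree. -/

set_option autoImplicit false
set_option linter.unusedSimpArgs false
set_option linter.unusedSectionVars false
set_option linter.style.haveILetI false

namespace Cfsg.Lib.Classical.PrimeDim

open Matrix Cfsg.Geo
open scoped MatrixGroups commutatorElement

universe u

variable {ι : Type} [Fintype ι] [DecidableEq ι] {F : Type u} [Field F] {n : ℕ}

/-- The conditions of `IsResidualCore` apart from the subfield condition. -/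
structure IsPreCore (H P : Subgroup (GL ι F)) : Prop where
  le : P ≤ H
  normal : Normalises H P
  perfect : ⁅P, P⁆ = P
  simple : IsSimpleGroup (P ⧸ (scalars ι F).subgroupOf P)
  nonabelian : ¬ IsMulCommutative (P ⧸ (scalars ι F).subgroupOf P)
  centralizer_scalar : ∀ h ∈ H, (∀ x ∈ P, h * x * h⁻¹ * x⁻¹ ∈ scalars ι F) → h ∈ scalars ι F
  absIrred : ActsAbsolutelyIrreducibly (matrixSet P)

theorem IsPreCore.residualCore {H P : Subgroup (GL ι F)} (h : IsPreCore H P)
    (hsub : ∀ F₀ : Subfield F, F₀ ≠ ⊤ → ¬ RealisableOver F₀ (matrixSet P)) : IsResidualCore H P :=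
  ⟨h.le, h.normal, h.perfect, h.simple, h.nonabelian, h.centralizer_scalar, h.absIrred, hsub⟩

theorem mem_map_conj {h : GL ι F} {M : Subgroup (GL ι F)} {x : GL ι F} :
    x ∈ M.map (MulAut.conj h).toMonoidHom ↔ ∃ m ∈ M, h * m * h⁻¹ = x := by
  rw [Subgroup.mem_map]
  exact exists_congr fun m => and_congr_right fun _ => by rw [MulEquiv.coe_toMonoidHom, MulAut.conj_apply]

theorem Normalises.map_conj {H M : Subgroup (GL ι F)} {h : GL ι F} (hM : Normalises H M)
    {N : Subgroup (GL ι F)} (hH : ∀ x ∈ N, h⁻¹ * x * h ∈ H) : Normalises N (M.map (MulAut.conj h).toMonoidHom) := by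
  intro x hx g hg
  obtain ⟨m, hm, rfl⟩ := mem_map_conj.mp hg
  refine mem_map_conj.mpr ⟨_, hM _ (hH x hx) m hm, ?_⟩
  simp [mul_assoc]

theorem commutator_normalises {H M : Subgroup (GL ι F)} (hM : Normalises H M) : Normalises H ⁅M, M⁆ := by
  intro h hh g hg
  have : (⁅M, M⁆).map (MulAut.conj h).toMonoidHom ≤ ⁅M, M⁆ := by
    rw [Subgroup.map_commutator]
    have hle : M.map (MulAut.conj h).toMonoidHom ≤ M := by
      intro x hx
      obtain ⟨m, hm, rfl⟩ := mem_map_conj.mp hx
      exact hM h hh m hm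
    exact Subgroup.commutator_mono hle hle
  exact this (mem_map_conj.mpr ⟨g, hg, rfl⟩)

/-- An automorphism of `N` by conjugation. -/
def conjAut {H N : Subgroup (GL ι F)} (hn : Normalises H N) {h : GL ι F} (hh : h ∈ H) : N ≃* N where
  toFun g := ⟨h * g * h⁻¹, hn h hh g g.2⟩
  invFun g := ⟨h⁻¹ * g * h, hn.inv hh g.2⟩
  left_inv g := Subtype.ext (by simp [mul_assoc])
  right_inv g := Subtype.ext (by simp [mul_assoc])
  map_mul' a b := Subtype.ext (by simp [mul_assoc])

theorem char_normalises {H N : Subgroup (GL ι F)} (hn : Normalises H N) (A : Subgroup N) (hA : A.Characteristic) :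
    Normalises H (A.map N.subtype) := by
  rintro h hh _ ⟨a, ha, rfl⟩
  refine ⟨conjAut hn hh a, ?_, rfl⟩
  have := hA.fixed (conjAut hn hh)
  rw [← this] at ha
  exact ha

/-- Elements of a perfect group twisting `b` by scalars commute with it. -/
theorem commute_of_perfect {M : Subgroup (GL ι F)} (hperf : ⁅M, M⁆ = M) {b : GL ι F}
    (h : ∀ a ∈ M, a * b * a⁻¹ * b⁻¹ ∈ scalars ι F) : ∀ a ∈ M, a * b = b * a := by
  let φ : M →* GL ι F := MonoidHom.mk' (fun a => (a : GL ι F) * b * (a : GL ι F)⁻¹ * b⁻¹) (fun a c => by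
    show ((a : GL ι F) * c) * b * ((a : GL ι F) * c)⁻¹ * b⁻¹ = _
    calc ((a : GL ι F) * c) * b * ((a : GL ι F) * c)⁻¹ * b⁻¹
        = (a : GL ι F) * ((c : GL ι F) * b * (c : GL ι F)⁻¹ * b⁻¹) * (b * (a : GL ι F)⁻¹ * b⁻¹) := by
          simp [mul_assoc]
      _ = ((c : GL ι F) * b * (c : GL ι F)⁻¹ * b⁻¹) * ((a : GL ι F) * b * (a : GL ι F)⁻¹ * b⁻¹) := by
          rw [← scalar_commute (h c c.2) (a : GL ι F)]; simp [mul_assoc]
      _ = ((a : GL ι F) * b * (a : GL ι F)⁻¹ * b⁻¹) * ((c : GL ι F) * b * (c : GL ι F)⁻¹ * b⁻¹) :=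
          scalar_commute (h c c.2) _)
  have key : ⁅M, M⁆ ≤ Subgroup.centralizer {b} := by
    rw [Subgroup.commutator_le]
    intro a ha c hc
    rw [Subgroup.mem_centralizer_singleton_iff]
    have h1 : φ ⁅(⟨a, ha⟩ : M), (⟨c, hc⟩ : M)⁆ = 1 := by
      rw [map_commutatorElement, commutatorElement_eq_one_iff_mul_comm]
      exact scalar_commute (h a ha) _
    change ⁅a, c⁆ * b * ⁅a, c⁆⁻¹ * b⁻¹ = 1 at h1
    rw [mul_inv_eq_one, mul_inv_eq_iff_eq_mul] at h1
    exact h1
  intro a ha
  rw [← hperf] at ha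
  exact Subgroup.mem_centralizer_singleton_iff.mp (key ha)

theorem abelian_of_scalar {M : Subgroup (GL ι F)} (h : ∀ a ∈ M, ∀ b ∈ M, a * b = b * a) :
    ⁅M, M⁆ ≤ scalars ι F := by
  rw [Subgroup.commutator_le]
  intro a ha b hb
  rw [commutatorElement_eq_one_iff_mul_comm.mpr (h a ha b hb)]
  exact one_mem _

/-- Simplicity of a subgroup modulo a normal subgroup, from the list of its normal subgroups. -/
theorem quotient_simple {G : Type u} [Group G] {Z : Subgroup G} [Z.Normal] {N : Subgroup G} (hNns : ¬ N ≤ Z)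
    (hcs : ¬ ⁅N, N⁆ ≤ Z)
    (hnormal : ∀ K, K ≤ N → (∀ a ∈ N, ∀ k ∈ K, a * k * a⁻¹ ∈ K) → ¬ K ≤ Z → N ≤ K) :
    IsSimpleGroup (N ⧸ Z.subgroupOf N) ∧ ¬ IsMulCommutative (N ⧸ Z.subgroupOf N) := by
  haveI : Nontrivial (N ⧸ Z.subgroupOf N) := by
    obtain ⟨g, hg, hg'⟩ := SetLike.not_le_iff_exists.mp hNns
    exact ⟨⟨QuotientGroup.mk ⟨g, hg⟩, 1, fun e => hg' ((QuotientGroup.eq_one_iff (⟨g, hg⟩ : N)).mp e)⟩⟩
  refine ⟨⟨?_⟩, ?_⟩
  · intro K hK
    by_cases hle : (K.comap (QuotientGroup.mk' (Z.subgroupOf N))).map N.subtype ≤ Z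
    · left
      rw [eq_bot_iff]
      intro q hq
      obtain ⟨g, rfl⟩ := QuotientGroup.mk'_surjective _ q
      exact (QuotientGroup.eq_one_iff g).mpr (hle ⟨g, hq, rfl⟩)
    · right
      rw [eq_top_iff]
      intro q _
      obtain ⟨g, rfl⟩ := QuotientGroup.mk'_surjective _ q
      have hKN : ∀ a ∈ N, ∀ k ∈ (K.comap (QuotientGroup.mk' (Z.subgroupOf N))).map N.subtype,
          a * k * a⁻¹ ∈ (K.comap (QuotientGroup.mk' (Z.subgroupOf N))).map N.subtype := by
        rintro a ha _ ⟨k, hk, rfl⟩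
        exact ⟨⟨a, ha⟩ * k * ⟨a, ha⟩⁻¹, (hK.comap (QuotientGroup.mk' _)).conj_mem k hk ⟨a, ha⟩, rfl⟩
      obtain ⟨k, hk, he⟩ := hnormal _ (Subgroup.map_subtype_le _) hKN hle g.2
      rw [← Subtype.ext he]
      exact hk
  · intro hc
    refine hcs ?_
    rw [Subgroup.commutator_le]
    intro a ha b hb
    have h := hc.is_comm.comm (QuotientGroup.mk' (Z.subgroupOf N) ⟨a, ha⟩) (QuotientGroup.mk' (Z.subgroupOf N) ⟨b, hb⟩)
    rw [← commutatorElement_eq_one_iff_mul_comm, ← map_commutatorElement] at h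
    exact (QuotientGroup.eq_one_iff ⁅(⟨a, ha⟩ : N), (⟨b, hb⟩ : N)⁆).mp h

variable [Finite F]

set_option maxHeartbeats 1000000 in
/-- The dichotomy: frame, field, Heisenberg normal subgroup, or simple modulo scalars. -/
theorem core_cases (hcard : Fintype.card ι = n) (hn : n.Prime) (hodd : Odd n) {H : Subgroup (GL ι F)}
    (hdet : H ≤ specialLinear ι F) (hirr : ActsIrreducibly (matrixSet H)) :
    (∃ N, N ≤ H ∧ Normalises H N ∧ ∃ D : Fin n → Submodule F (ι → F), IsWeightFrame N H D) ∨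
      (∃ N, N ≤ H ∧ Normalises H N ∧ IsFieldSubalgebra n (comm (matrixSet N))) ∨
      (∃ R, R ≤ H ∧ Normalises H R ∧ IsHeisenberg n R) ∨
      (∃ P, IsPreCore H P) := by
  classical
  haveI : Nonempty ι := Fintype.card_pos_iff.mp (hcard ▸ hn.pos)
  haveI : Finite (GL ι F) := inferInstance
  by_cases hframe : ∃ N, N ≤ H ∧ Normalises H N ∧ ∃ D : Fin n → Submodule F (ι → F), IsWeightFrame N H D
  · exact Or.inl hframe
  by_cases hfield : ∃ N, N ≤ H ∧ Normalises H N ∧ IsFieldSubalgebra n (comm (matrixSet N))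
  · exact Or.inr (Or.inl hfield)
  refine Or.inr (Or.inr ?_)
  push Not at hframe hfield
  have hHns : ¬ H ≤ scalars ι F := by
    intro hle
    obtain ⟨v, hv⟩ := exists_ne (0 : ι → F)
    rcases (irreducible_iff H).mp hirr (Submodule.span F {v}) (fun g hg w hw => by
      obtain ⟨c, hc⟩ := (mem_scalars_iff g).mp (hle hg)
      rw [hc, Matrix.smul_mulVec, Matrix.one_mulVec]
      exact Submodule.smul_mem _ _ hw) with e | e
    · exact hv ((Submodule.span_singleton_eq_bot).mp e)
    · have := finrank_span_singleton (K := F) hv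
      rw [e, finrank_top, finrank_pi_card, hcard] at this
      exact hn.one_lt.ne' this
  obtain ⟨N, ⟨hNH, hNn, hNns⟩, hNmin⟩ := (Set.toFinite {M : Subgroup (GL ι F) | M ≤ H ∧ Normalises H M ∧
    ¬ M ≤ scalars ι F}).exists_minimal ⟨H, le_rfl, Normalises.self H, hHns⟩
  have hsmall : ∀ M, M ≤ N → Normalises H M → ¬ M ≤ scalars ι F → N ≤ M := fun M hM hn' hns =>
    hNmin ⟨hM.trans hNH, hn', hns⟩ hM
  have hai : ActsAbsolutelyIrreducibly (matrixSet N) := by
    rcases normal_cases hcard hn hirr hNn hNns with h | ⟨D, hD⟩ | ⟨h, -⟩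
    · exact h
    · exact absurd hD (hframe N hNH hNn D)
    · exact absurd h (hfield N hNH hNn)
  have hNdet : N ≤ specialLinear ι F := hNH.trans hdet
  have hnab : ¬ ∀ a ∈ N, ∀ b ∈ N, a * b = b * a := fun h =>
    hNns fun g hg => mem_scalars_of_commute hai (h g hg)
  by_cases hcs : ⁅N, N⁆ ≤ scalars ι F
  · left
    refine ⟨N, hNH, hNn, isHeisenberg_of_comm_scalar hcard hn hodd hNdet hai hNns
      (fun a ha b hb => by
        simpa [commutatorElement_def] using hcs (Subgroup.commutator_mem_commutator ha hb)) ?_⟩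
    intro A hA hAc
    by_contra hns
    have hle : A.map N.subtype ≤ N := Subgroup.map_subtype_le A
    refine hnab fun a ha b hb => ?_
    obtain ⟨a', ha', rfl⟩ := hsmall _ hle (char_normalises hNn A hA) hns ha
    obtain ⟨b', hb', rfl⟩ := hsmall _ hle (char_normalises hNn A hA) hns hb
    exact congrArg (fun z : A => ((z : N) : GL ι F)) (hAc.is_comm.comm ⟨a', ha'⟩ ⟨b', hb'⟩)
  right
  have hperf : ⁅N, N⁆ = N :=
    le_antisymm (Subgroup.commutator_le_self N) (hsmall _ (Subgroup.commutator_le_self N) (commutator_normalises hNn) hcs)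
  let MS : Set (Subgroup (GL ι F)) := {M | M ≤ N ∧ Normalises N M ∧ ¬ M ≤ scalars ι F}
  have hconj : ∀ h ∈ H, ∀ M, Minimal (· ∈ MS) M → Minimal (· ∈ MS) (M.map (MulAut.conj h).toMonoidHom) := by
    have hmem : ∀ h ∈ H, ∀ M ∈ MS, M.map (MulAut.conj h).toMonoidHom ∈ MS := by
      rintro h hh M ⟨h1, h2, h3⟩
      refine ⟨fun x hx => ?_, h2.map_conj (fun x hx => hNn.inv hh hx), fun hle => h3 fun m hm => ?_⟩
      · obtain ⟨m, hm, rfl⟩ := mem_map_conj.mp hx
        exact hNn h hh m (h1 hm)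
      · have := (scalars_normal (ι := ι) (F := F)).conj_mem _ (hle (mem_map_conj.mpr ⟨m, hm, rfl⟩)) h⁻¹
        simpa [mul_assoc] using this
    intro h hh M hM
    refine ⟨hmem h hh M hM.1, fun M' hM' hle => ?_⟩
    have hle' : M'.map (MulAut.conj h⁻¹).toMonoidHom ≤ M := by
      intro x hx
      obtain ⟨m', hm', rfl⟩ := mem_map_conj.mp hx
      obtain ⟨m, hm, rfl⟩ := mem_map_conj.mp (hle hm')
      simpa [mul_assoc] using hm
    intro x hx
    obtain ⟨m, hm, rfl⟩ := mem_map_conj.mp hx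
    obtain ⟨m', hm', rfl⟩ := mem_map_conj.mp (hM.2 (hmem h⁻¹ (H.inv_mem hh) M' hM') hle' hm)
    simpa [mul_assoc] using hm'
  have hpair : ∀ M M', Minimal (· ∈ MS) M → Minimal (· ∈ MS) M' → M ≠ M' →
      ∀ a ∈ M, ∀ b ∈ M', a * b * a⁻¹ * b⁻¹ ∈ scalars ι F := by
    intro M M' hM hM' hne a ha b hb
    have hI : M ⊓ M' ≤ scalars ι F := by
      by_contra hI
      have hmem : M ⊓ M' ∈ MS := ⟨inf_le_left.trans hM.1.1,
        fun g hg x hx => ⟨hM.1.2.1 g hg x hx.1, hM'.1.2.1 g hg x hx.2⟩, hI⟩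
      exact hne (le_antisymm ((hM.2 hmem inf_le_left).trans inf_le_right)
        ((hM'.2 hmem inf_le_right).trans inf_le_left))
    refine hI ⟨?_, ?_⟩
    · rw [mul_assoc, mul_assoc]
      refine M.mul_mem ha ?_
      rw [← mul_assoc]
      exact hM.1.2.1 b (hM'.1.1 hb) _ (M.inv_mem ha)
    · refine M'.mul_mem ?_ (M'.inv_mem hb)
      exact hM'.1.2.1 a (hM.1.1 ha) b hb
  have hperfM : ∀ M, Minimal (· ∈ MS) M → ⁅M, M⁆ = M := by
    intro M hM
    refine le_antisymm (Subgroup.commutator_le_self M) ?_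
    by_cases hMs : ⁅M, M⁆ ≤ scalars ι F
    · exfalso
      let T : Set (GL ι F) := {x | ∃ h ∈ H, x ∈ M.map (MulAut.conj h).toMonoidHom}
      have hTN : Subgroup.closure T ≤ N := (Subgroup.closure_le N).mpr fun x ⟨h, hh, hx⟩ => (hconj h hh M hM).1.1 hx
      have hTn : Normalises H (Subgroup.closure T) := by
        intro g hg x hx
        induction hx using Subgroup.closure_induction with
        | mem x hx =>
          obtain ⟨h, hh, hx⟩ := hx
          obtain ⟨m, hm, rfl⟩ := mem_map_conj.mp hx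
          exact Subgroup.subset_closure ⟨g * h, H.mul_mem hg hh, mem_map_conj.mpr ⟨m, hm, by simp [mul_assoc]⟩⟩
        | one => simp
        | mul a b _ _ ha hb => simpa [mul_assoc] using Subgroup.mul_mem _ ha hb
        | inv a _ ha => simpa [mul_assoc] using Subgroup.inv_mem _ ha
      have hTns : ¬ Subgroup.closure T ≤ scalars ι F := fun hle => hM.1.2.2 fun m hm =>
        hle (Subgroup.subset_closure ⟨1, one_mem _, mem_map_conj.mpr ⟨m, hm, by simp⟩⟩)
      have hgen : ∀ x ∈ T, ∀ y ∈ T, x * y * x⁻¹ * y⁻¹ ∈ scalars ι F := by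
        rintro x ⟨h, hh, hx⟩ y ⟨k, hk, hy⟩
        by_cases he : M.map (MulAut.conj h).toMonoidHom = M.map (MulAut.conj k).toMonoidHom
        · rw [← he] at hy
          obtain ⟨a, ha, rfl⟩ := mem_map_conj.mp hx
          obtain ⟨b, hb, rfl⟩ := mem_map_conj.mp hy
          have := (scalars_normal (ι := ι) (F := F)).conj_mem _ (hMs (Subgroup.commutator_mem_commutator ha hb)) h
          simpa [commutatorElement_def, mul_assoc] using this
        · exact hpair _ _ (hconj h hh M hM) (hconj k hk M hM) he x hx y hy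
      let π := QuotientGroup.mk' (scalars ι F)
      have hcomm : ∀ a ∈ T, ∀ b ∈ T, π a * π b = π b * π a := fun a ha b hb => by
        rw [← commutatorElement_eq_one_iff_mul_comm, ← map_commutatorElement]
        exact (QuotientGroup.eq_one_iff _).mpr (by simpa [commutatorElement_def] using hgen a ha b hb)
      refine hcs ((Subgroup.commutator_mono (hsmall _ hTN hTn hTns) (hsmall _ hTN hTn hTns)).trans ?_)
      rw [Subgroup.commutator_le]
      intro a ha b hb
      have hab : π a * π b = π b * π a := by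
        induction ha, hb using Subgroup.closure_induction₂ with
        | mem x y hx hy => exact hcomm x hx y hy
        | one_left x hx => simp
        | one_right x hx => simp
        | mul_left x y z hx hy hz h1 h2 =>
          rw [map_mul]; exact (Commute.mul_left h1 h2)
        | mul_right y z x hy hz hx h1 h2 =>
          rw [map_mul]; exact (Commute.mul_right h1 h2)
        | inv_left x y hx hy h =>
          rw [map_inv]; exact Commute.inv_left h
        | inv_right x y hx hy h =>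
          rw [map_inv]; exact Commute.inv_right h
      rw [← commutatorElement_eq_one_iff_mul_comm, ← map_commutatorElement] at hab
      exact (QuotientGroup.eq_one_iff _).mp hab
    · exact hM.2 ⟨(Subgroup.commutator_le_self M).trans hM.1.1, commutator_normalises hM.1.2.1, hMs⟩
        (Subgroup.commutator_le_self M)
  have hminEq : ∀ M, Minimal (· ∈ MS) M → M = N := by
    intro M hM
    have hMai : ActsAbsolutelyIrreducibly (matrixSet M) := by
      have habel : ¬ ∀ a ∈ M, ∀ b ∈ M, a * b = b * a := fun h =>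
        hM.1.2.2 (hperfM M hM ▸ abelian_of_scalar h)
      rcases normal_cases hcard hn hai.1 hM.1.2.1 hM.1.2.2 with h | ⟨D, hD⟩ | ⟨-, h⟩
      · exact h
      · exact absurd (fun a ha b hb => hD.commute ha hb) habel
      · exact absurd h habel
    have hfix : ∀ h ∈ H, M.map (MulAut.conj h).toMonoidHom = M := by
      intro h hh
      by_contra hne
      refine (hconj h hh M hM).1.2.2 fun b hb => mem_scalars_of_commute hMai fun a ha => ?_
      exact (commute_of_perfect (hperfM M hM) (fun a ha => hpair M _ hM (hconj h hh M hM) (Ne.symm hne) a ha b hb)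
        a ha).symm
    exact le_antisymm hM.1.1 (hsmall M hM.1.1
      (fun h hh g hg => hfix h hh ▸ mem_map_conj.mpr ⟨g, hg, rfl⟩) hM.1.2.2)
  have hnormal : ∀ K, K ≤ N → Normalises N K → ¬ K ≤ scalars ι F → N ≤ K := by
    intro K h1 h2 h3
    obtain ⟨M, hMK, hM⟩ := (Set.toFinite MS).exists_le_minimal (a := K) ⟨h1, h2, h3⟩
    exact hminEq M hM ▸ hMK
  refine ⟨N, hNH, hNn, hperf, (quotient_simple hNns hcs hnormal).1, (quotient_simple hNns hcs hnormal).2, ?_, hai⟩
  · intro h _ hx
    refine mem_scalars_of_commute hai fun a ha => ?_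
    refine (commute_of_perfect hperf (fun a ha => ?_) a ha).symm
    have := Subgroup.inv_mem _ (hx a ha)
    simpa [mul_assoc] using this

end Cfsg.Lib.Classical.PrimeDim
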