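import Cfsg.Agent.Classical.PrimeDim.Clifford

/-! Absolutely irreducible groups of class two and prime degree. -/

set_option autoImplicit false
set_option linter.unusedSimpArgs false
set_option linter.unusedSectionVars false
set_option linter.style.haveILetI false

namespace Cfsg.Lib.Classical.PrimeDim

open Matrix Cfsg.Geo Polynomial
open scoped MatrixGroups

universe u

variable {ι : Type} [Fintype ι] [DecidableEq ι] {F : Type u} [Field F] {n : ℕ}

theorem det_eq_one {H : Subgroup (GL ι F)} (hH : H ≤ specialLinear ι F) {g : GL ι F} (hg : g ∈ H) :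
    (g : Matrix ι ι F).det = 1 :=
  congrArg Units.val (MonoidHom.mem_ker.mp (hH hg))

theorem gl_det_ne_zero (g : GL ι F) : (g : Matrix ι ι F).det ≠ 0 :=
  ((Matrix.isUnit_iff_isUnit_det _).mp g.isUnit).ne_zero

/-- Elements commuting modulo scalars twist by a root of unity. -/
theorem exists_twist {g h : GL ι F} (hs : g * h * g⁻¹ * h⁻¹ ∈ scalars ι F) :
    ∃ ω : F, ω ^ Fintype.card ι = 1 ∧
      (g : Matrix ι ι F) * (h : Matrix ι ι F) = ω • ((h : Matrix ι ι F) * (g : Matrix ι ι F)) := by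
  obtain ⟨c, hc⟩ := (mem_scalars_iff _).mp hs
  have e : ((g * h : GL ι F) : Matrix ι ι F) = (((g * h * g⁻¹ * h⁻¹) * (h * g) : GL ι F) : Matrix ι ι F) :=
    congrArg Units.val (by simp [mul_assoc])
  rw [Units.val_mul (g * h * g⁻¹ * h⁻¹) (h * g), hc, Matrix.smul_mul, Matrix.one_mul, Units.val_mul,
    Units.val_mul] at e
  refine ⟨c, ?_, e⟩
  have hd := congrArg Matrix.det e
  rw [Matrix.det_smul, Matrix.det_mul, Matrix.det_mul, mul_comm (h : Matrix ι ι F).det] at hd
  exact (mul_eq_right₀ (mul_ne_zero (gl_det_ne_zero g) (gl_det_ne_zero h))).mp hd.symm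

theorem charpoly_comp_smul (ω : F) (M : Matrix ι ι F) :
    (ω • M).charpoly.comp (C ω * X) = C (ω ^ Fintype.card ι) * M.charpoly := by
  rw [Matrix.charpoly, Matrix.charpoly, ← Polynomial.coe_compRingHom_apply, RingHom.map_det, C_pow,
    ← Matrix.det_smul]
  congr 1
  ext i j : 1
  rw [RingHom.mapMatrix_apply, Matrix.map_apply, Polynomial.coe_compRingHom_apply, Matrix.smul_apply,
    Matrix.charmatrix_apply, Matrix.charmatrix_apply, Matrix.smul_apply, smul_eq_mul, smul_eq_mul]
  by_cases hij : i = j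
  · subst hij
    rw [Matrix.diagonal_apply_eq, sub_comp, X_comp, C_comp, C_mul]
    ring
  · rw [Matrix.diagonal_apply_ne _ hij, sub_comp, zero_comp, C_comp, C_mul]
    ring

/-- A twisted element of determinant one in odd prime degree has order dividing the degree. -/
theorem pow_eq_one_of_twist (hcard : Fintype.card ι = n) (hn : n.Prime) (hodd : Odd n) {g h : GL ι F} {ω : F}
    (hω : ω ^ n = 1) (hω1 : ω ≠ 1)
    (hgh : (g : Matrix ι ι F) * (h : Matrix ι ι F) = ω • ((h : Matrix ι ι F) * (g : Matrix ι ι F)))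
    (hg : (g : Matrix ι ι F).det = 1) : g ^ n = 1 := by
  set G : Matrix ι ι F := (g : Matrix ι ι F) with hG
  have hconj : ((h⁻¹ : GL ι F) : Matrix ι ι F) * G * (h : Matrix ι ι F) = ω • G := by
    rw [mul_assoc, hgh, Matrix.mul_smul, ← mul_assoc, val_inv_mul, one_mul]
  have hcp : (ω • G).charpoly = G.charpoly := by
    rw [← hconj, Matrix.charpoly_mul_comm, ← mul_assoc, val_mul_inv, one_mul]
  have hcomp := charpoly_comp_smul ω G
  rw [hcp, hcard, hω, map_one, one_mul] at hcomp
  have hprim : IsPrimitiveRoot ω n := by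
    haveI := Fact.mk hn
    rw [← orderOf_eq_prime hω hω1]
    exact IsPrimitiveRoot.orderOf ω
  have hdeg : G.charpoly.natDegree = n := by rw [Matrix.charpoly_natDegree_eq_dim, hcard]
  have hcoef : ∀ i, i ≠ 0 → i < n → G.charpoly.coeff i = 0 := by
    intro i hi hin
    have := congrArg (fun p : F[X] => p.coeff i) hcomp
    simp only [Polynomial.comp_C_mul_X_coeff] at this
    by_contra hne
    exact hprim.pow_ne_one_of_pos_of_lt hi hin ((mul_eq_left₀ hne).mp this)
  have hpoly : G.charpoly = X ^ n + C (G.charpoly.coeff 0) := by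
    ext i
    rw [Polynomial.coeff_add, Polynomial.coeff_X_pow, Polynomial.coeff_C]
    rcases lt_trichotomy i n with hi | hi | hi
    · by_cases h0 : i = 0
      · subst h0
        simp [hn.ne_zero.symm]
      · simp [hcoef i h0 hi, hi.ne, h0]
    · subst hi
      simp only [if_true, hn.ne_zero, if_false, add_zero]
      have := G.charpoly_monic
      rw [Polynomial.Monic, Polynomial.leadingCoeff, hdeg] at this
      exact this
    · rw [Polynomial.coeff_eq_zero_of_natDegree_lt (hdeg.symm ▸ hi)]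
      simp [hi.ne', (Nat.zero_lt_of_lt hi).ne']
  have hc0 : G.charpoly.coeff 0 = -1 := by
    have := Matrix.det_eq_sign_charpoly_coeff G
    rw [hg, hcard, hodd.neg_one_pow, neg_one_mul] at this
    rw [eq_comm, this, neg_neg]
  have hch := Matrix.aeval_self_charpoly G
  rw [hpoly, hc0, map_add, map_pow, Polynomial.aeval_X, map_neg, map_one, map_neg, map_one,
    ← sub_eq_add_neg, sub_eq_zero] at hch
  exact Units.ext (by rw [Units.val_pow_eq_pow_val, ← hG, hch, Units.val_one])

/-- An absolutely irreducible Heisenberg group of order `n ^ 3` with chosen generators. -/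
structure IsHeisenberg (n : ℕ) (R : Subgroup (GL ι F)) : Prop where
  absIrred : ActsAbsolutelyIrreducibly (matrixSet R)
  symplecticType : IsSymplecticTypeGroup n R
  card : Nat.card R = n ^ 3
  card_center : Nat.card (Subgroup.center R) = n
  gens : ∃ (x y : GL ι F) (ζ : F), x ∈ R ∧ y ∈ R ∧ IsPrimitiveRoot ζ n ∧ x ^ n = 1 ∧ y ^ n = 1 ∧
    (x : Matrix ι ι F) * (y : Matrix ι ι F) = ζ • ((y : Matrix ι ι F) * (x : Matrix ι ι F)) ∧
    ∀ g ∈ R, ∃ (p : Fin n × Fin n) (c : Fin n),
      (g : Matrix ι ι F) = ζ ^ (c : ℕ) • ((x : Matrix ι ι F) ^ (p.1 : ℕ) * (y : Matrix ι ι F) ^ (p.2 : ℕ))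

theorem twist_pow_right {X Y : Matrix ι ι F} {ζ : F} (h : X * Y = ζ • (Y * X)) (b : ℕ) :
    X * Y ^ b = ζ ^ b • (Y ^ b * X) := by
  induction b with
  | zero => simp
  | succ b ih =>
    rw [pow_succ, ← mul_assoc, ih, Matrix.smul_mul, mul_assoc, h, Matrix.mul_smul, smul_smul, ← pow_succ,
      ← mul_assoc]

theorem twist_pow_left {X Y : Matrix ι ι F} {ζ : F} (h : X * Y = ζ • (Y * X)) (a : ℕ) :
    X ^ a * Y = ζ ^ a • (Y * X ^ a) := by
  induction a with
  | zero => simp
  | succ a ih =>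
    rw [pow_succ, mul_assoc, h, Matrix.mul_smul, ← mul_assoc, ih, Matrix.smul_mul, smul_smul, ← pow_succ',
      mul_assoc, ← pow_succ]

/-- The monomials in a twisted pair are linearly independent. -/
theorem mono_indep [Nonempty ι] {x y : GL ι F} {ζ : F} (hζ : IsPrimitiveRoot ζ n)
    (h : (x : Matrix ι ι F) * (y : Matrix ι ι F) = ζ • ((y : Matrix ι ι F) * (x : Matrix ι ι F))) :
    LinearIndependent F fun p : Fin n × Fin n =>
      (x : Matrix ι ι F) ^ (p.1 : ℕ) * (y : Matrix ι ι F) ^ (p.2 : ℕ) := by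
  set X : Matrix ι ι F := (x : Matrix ι ι F)
  set Y : Matrix ι ι F := (y : Matrix ι ι F)
  rw [Fintype.linearIndependent_iff]
  intro c hc p
  let A : Bool → Matrix ι ι F →ₗ[F] Matrix ι ι F := fun k => if k
    then LinearMap.mulLeft F X ∘ₗ LinearMap.mulRight F ((x⁻¹ : GL ι F) : Matrix ι ι F)
    else LinearMap.mulLeft F ((y⁻¹ : GL ι F) : Matrix ι ι F) ∘ₗ LinearMap.mulRight F Y
  let χ : Fin n × Fin n → Bool → F := fun p k => if k then ζ ^ (p.2 : ℕ) else ζ ^ (p.1 : ℕ)
  have hχ : Function.Injective χ := by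
    intro p p' hp
    exact Prod.ext (Fin.ext (hζ.pow_inj p.1.2 p'.1.2 (congrFun hp false)))
      (Fin.ext (hζ.pow_inj p.2.2 p'.2.2 (congrFun hp true)))
  have heig : ∀ (q : Fin n × Fin n) (k : Bool), A k (X ^ (q.1 : ℕ) * Y ^ (q.2 : ℕ)) =
      χ q k • (X ^ (q.1 : ℕ) * Y ^ (q.2 : ℕ)) := by
    intro q k
    cases k
    · simp only [A, χ, Bool.false_eq_true, if_false, LinearMap.comp_apply, LinearMap.mulLeft_apply,
        LinearMap.mulRight_apply]
      rw [mul_assoc (X ^ _), ← pow_succ, pow_succ', ← mul_assoc (X ^ _), twist_pow_left h, Matrix.smul_mul,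
        Matrix.mul_smul, mul_assoc Y, ← mul_assoc _ Y, val_inv_mul, one_mul]
    · simp only [A, χ, if_true, LinearMap.comp_apply, LinearMap.mulLeft_apply, LinearMap.mulRight_apply]
      rw [← mul_assoc X, ← mul_assoc X, ← pow_succ', pow_succ, mul_assoc _ X, twist_pow_right h, Matrix.mul_smul,
        Matrix.smul_mul, ← mul_assoc _ _ X, mul_assoc _ X, val_mul_inv, mul_one]
  have := eigen_indep A χ hχ Finset.univ (fun q => c q • (X ^ (q.1 : ℕ) * Y ^ (q.2 : ℕ)))
    (fun q _ k => by rw [map_smul, heig q k, smul_comm]) hc p (Finset.mem_univ p)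
  refine (smul_eq_zero.mp this).resolve_right ?_
  intro h0
  have hu : ((x ^ (p.1 : ℕ) * y ^ (p.2 : ℕ) : GL ι F) : Matrix ι ι F) = 0 := by
    rw [Units.val_mul, Units.val_pow_eq_pow_val, Units.val_pow_eq_pow_val]; exact h0
  exact Units.ne_zero _ hu

variable [Finite F]

/-- A nonabelian absolutely irreducible group of class two in odd prime degree is Heisenberg. -/
theorem isHeisenberg_of_comm_scalar (hcard : Fintype.card ι = n) (hn : n.Prime) (hodd : Odd n)
    {N : Subgroup (GL ι F)} (hdet : N ≤ specialLinear ι F) (hai : ActsAbsolutelyIrreducibly (matrixSet N))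
    (hns : ¬ N ≤ scalars ι F) (hcomm : ∀ a ∈ N, ∀ b ∈ N, a * b * a⁻¹ * b⁻¹ ∈ scalars ι F)
    (hchar : ∀ A : Subgroup N, A.Characteristic → IsMulCommutative A → A.map N.subtype ≤ scalars ι F) :
    IsHeisenberg n N := by
  classical
  haveI : Nonempty ι := Fintype.card_pos_iff.mp (hcard ▸ hn.pos)
  have htw : ∀ a ∈ N, ∀ b ∈ N, ∃ ω : F, ω ^ n = 1 ∧
      (a : Matrix ι ι F) * (b : Matrix ι ι F) = ω • ((b : Matrix ι ι F) * (a : Matrix ι ι F)) := by
    intro a ha b hb
    obtain ⟨ω, h1, h2⟩ := exists_twist (hcomm a ha b hb)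
    exact ⟨ω, hcard ▸ h1, h2⟩
  have hexp : ∀ g ∈ N, g ^ n = 1 := by
    intro g hg
    by_cases hc : ∀ b ∈ N, g * b = b * g
    · obtain ⟨c, hc'⟩ := (mem_scalars_iff g).mp (mem_scalars_of_commute hai hc)
      have hd := det_eq_one hdet hg
      rw [hc', Matrix.det_smul, Matrix.det_one, mul_one, hcard] at hd
      exact Units.ext (by rw [Units.val_pow_eq_pow_val, hc', _root_.smul_pow, one_pow, hd, one_smul, Units.val_one])
    · push Not at hc
      obtain ⟨b, hb, hne⟩ := hc
      obtain ⟨ω, h1, h2⟩ := htw g hg b hb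
      refine pow_eq_one_of_twist hcard hn hodd h1 (fun e => hne (Units.ext ?_)) h2 (det_eq_one hdet hg)
      rw [Units.val_mul, Units.val_mul, h2, e, one_smul]
  obtain ⟨x, hx, y, hy, hne⟩ : ∃ x ∈ N, ∃ y ∈ N, x * y ≠ y * x := by
    by_contra hc
    push Not at hc
    exact hns fun g hg => mem_scalars_of_commute hai fun a ha => hc g hg a ha
  obtain ⟨ζ, hζn, hxy⟩ := htw x hx y hy
  have hζ1 : ζ ≠ 1 := fun e => hne (Units.ext (by rw [Units.val_mul, Units.val_mul, hxy, e, one_smul]))
  have hζ : IsPrimitiveRoot ζ n := by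
    haveI := Fact.mk hn
    rw [← orderOf_eq_prime hζn hζ1]
    exact IsPrimitiveRoot.orderOf ζ
  haveI : NeZero n := ⟨hn.ne_zero⟩
  set X : Matrix ι ι F := (x : Matrix ι ι F) with hX
  set Y : Matrix ι ι F := (y : Matrix ι ι F) with hY
  have hli := mono_indep hζ hxy
  have hspan : Submodule.span F (Set.range fun p : Fin n × Fin n => X ^ (p.1 : ℕ) * Y ^ (p.2 : ℕ)) = ⊤ := by
    refine hli.span_eq_top_of_card_eq_finrank' ?_
    rw [Fintype.card_prod, Fintype.card_fin, Module.finrank_matrix, Module.finrank_self, hcard, mul_one]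
  -- every element of `N` is a scalar multiple of a monomial
  have hform : ∀ g ∈ N, ∃ (p : Fin n × Fin n) (c : Fin n),
      (g : Matrix ι ι F) = ζ ^ (c : ℕ) • (X ^ (p.1 : ℕ) * Y ^ (p.2 : ℕ)) := by
    intro g hg
    obtain ⟨α, hα, hgx⟩ := htw g hg x hx
    obtain ⟨β, hβ, hgy⟩ := htw g hg y hy
    obtain ⟨i, hi, rfl⟩ := hζ.eq_pow_of_pow_eq_one hα
    obtain ⟨j, hj, rfl⟩ := hζ.eq_pow_of_pow_eq_one hβ
    set b := (n - i) % n with hb_def
    have hb : b < n := Nat.mod_lt _ hn.pos
    set m : GL ι F := x ^ j * y ^ b with hm_def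
    have hm : m ∈ N := N.mul_mem (N.pow_mem hx j) (N.pow_mem hy b)
    have hmv : (m : Matrix ι ι F) = X ^ j * Y ^ b := by
      rw [hm_def, Units.val_mul, Units.val_pow_eq_pow_val, Units.val_pow_eq_pow_val]
    set g' := m⁻¹ * g with hg'_def
    have hgm : (g : Matrix ι ι F) = (m : Matrix ι ι F) * (g' : Matrix ι ι F) := by
      rw [← Units.val_mul, hg'_def, mul_inv_cancel_left]
    have hib : ζ ^ i * ζ ^ b = 1 := by
      rw [← pow_add, hb_def]
      rcases Nat.eq_zero_or_pos i with h0 | h0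
      · rw [h0, Nat.sub_zero, Nat.mod_self, add_zero, pow_zero]
      · rw [Nat.mod_eq_of_lt (show n - i < n by omega), Nat.add_sub_cancel' hi.le, hζ.pow_eq_one]
    have hcx : (g' : Matrix ι ι F) * X = X * (g' : Matrix ι ι F) := by
      have hxm : X * (m : Matrix ι ι F) = ζ ^ b • ((m : Matrix ι ι F) * X) := by
        rw [hmv, ← mul_assoc, ← pow_succ', pow_succ, mul_assoc, twist_pow_right hxy, Matrix.mul_smul, ← mul_assoc]
      rw [hgm, mul_assoc (m : Matrix ι ι F), ← mul_assoc X, hxm, Matrix.smul_mul, smul_smul, hib, one_smul,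
        mul_assoc (m : Matrix ι ι F)] at hgx
      exact m.isUnit.mul_left_cancel hgx
    have hcy : (g' : Matrix ι ι F) * Y = Y * (g' : Matrix ι ι F) := by
      have hmy : (m : Matrix ι ι F) * Y = ζ ^ j • (Y * (m : Matrix ι ι F)) := by
        rw [hmv, mul_assoc, ← pow_succ, pow_succ', ← mul_assoc, twist_pow_left hxy, Matrix.smul_mul, mul_assoc]
      rw [hgm, mul_assoc (m : Matrix ι ι F), ← mul_assoc Y, ← Matrix.smul_mul, ← hmy, mul_assoc (m : Matrix ι ι F)] at hgy
      exact m.isUnit.mul_left_cancel hgy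
    have hall : ∀ M : Matrix ι ι F, (g' : Matrix ι ι F) * M = M * (g' : Matrix ι ι F) := by
      intro M
      have hM : M ∈ Submodule.span F (Set.range fun p : Fin n × Fin n => X ^ (p.1 : ℕ) * Y ^ (p.2 : ℕ)) :=
        hspan ▸ Submodule.mem_top
      induction hM using Submodule.span_induction with
      | mem _ h =>
        obtain ⟨p, rfl⟩ := h
        exact ((Commute.pow_right hcx _).mul_right (Commute.pow_right hcy _)).eq
      | zero => simp
      | add a b _ _ ha hb => rw [mul_add, add_mul, ha, hb]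
      | smul c a _ ha => rw [Matrix.mul_smul, Matrix.smul_mul, ha]
    obtain ⟨c, hc⟩ := (mem_scalars_iff g').mp (mem_scalars_of_commute hai fun a _ => Units.ext (by
      rw [Units.val_mul, Units.val_mul]; exact hall a.val))
    have hd := det_eq_one hdet (N.mul_mem (N.inv_mem hm) hg)
    rw [← hg'_def, hc, Matrix.det_smul, Matrix.det_one, mul_one, hcard] at hd
    obtain ⟨k, hk, hk'⟩ := hζ.eq_pow_of_pow_eq_one hd
    refine ⟨(⟨j, hj⟩, ⟨b, hb⟩), ⟨k, hk⟩, ?_⟩
    rw [hgm, hc, Matrix.mul_smul, mul_one, hmv, ← hk']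
  -- the central element of order `n`
  have hz : ∀ c : ℕ, ∀ a b : ℕ, ∃ g ∈ N, (g : Matrix ι ι F) = ζ ^ c • (X ^ a * Y ^ b) := by
    intro c a b
    refine ⟨(x * y * x⁻¹ * y⁻¹) ^ c * (x ^ a * y ^ b), N.mul_mem (N.pow_mem
      (N.mul_mem (N.mul_mem (N.mul_mem hx hy) (N.inv_mem hx)) (N.inv_mem hy)) c)
      (N.mul_mem (N.pow_mem hx a) (N.pow_mem hy b)), ?_⟩
    have h1 : ((x * y * x⁻¹ * y⁻¹ : GL ι F) : Matrix ι ι F) = ζ • 1 := by
      rw [Units.val_mul, Units.val_mul, Units.val_mul, hxy, Matrix.smul_mul, mul_assoc Y, val_mul_inv, mul_one,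
        Matrix.smul_mul, val_mul_inv]
    rw [Units.val_mul, Units.val_pow_eq_pow_val, h1, _root_.smul_pow, one_pow, Matrix.smul_mul, one_mul, Units.val_mul,
      Units.val_pow_eq_pow_val, Units.val_pow_eq_pow_val]
  choose el hel using hz
  let f : (Fin n × (Fin n × Fin n)) → N := fun t => ⟨el t.1 t.2.1 t.2.2, (hel _ _ _).1⟩
  have hfv : ∀ t, ((f t : GL ι F) : Matrix ι ι F) = ζ ^ (t.1 : ℕ) • (X ^ (t.2.1 : ℕ) * Y ^ (t.2.2 : ℕ)) :=
    fun t => (hel _ _ _).2
  have hf : Function.Bijective f := by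
    refine ⟨fun s t hst => ?_, fun g => ?_⟩
    · have e := congrArg (fun g : N => ((g : GL ι F) : Matrix ι ι F)) hst
      simp only [hfv] at e
      have h2 : s.2 = t.2 := by
        by_contra hne2
        have h3 := (linearIndependent_iff'.mp hli) {s.2, t.2}
          (fun p => if p = s.2 then ζ ^ (s.1 : ℕ) else -ζ ^ (t.1 : ℕ)) (by
            rw [Finset.sum_pair hne2, if_pos rfl, if_neg (Ne.symm hne2), neg_smul, e, add_neg_cancel])
          s.2 (by simp)
        rw [if_pos rfl] at h3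
        exact pow_ne_zero _ (hζ.ne_zero hn.ne_zero) h3
      rw [h2] at e
      have h4 := smul_left_injective F (hli.ne_zero t.2) e
      exact Prod.ext (Fin.ext (hζ.pow_inj s.1.2 t.1.2 h4)) h2
    · obtain ⟨p, c, hp⟩ := hform g g.2
      exact ⟨(c, p), Subtype.ext (Units.ext (by rw [hfv, hp]))⟩
  have hcardN : Nat.card N = n ^ 3 := by
    rw [← Nat.card_eq_of_bijective f hf, Nat.card_prod, Nat.card_prod, Nat.card_fin]
    ring
  have hcenter : Nat.card (Subgroup.center N) = n := by
    have hinj : Function.Injective fun c : Fin n => f (c, (0, 0)) := fun a b h => (Prod.ext_iff.mp (hf.1 h)).1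
    have hrange : (Subgroup.center N : Set N) = Set.range fun c : Fin n => f (c, (0, 0)) := by
      ext g
      constructor
      · intro hg
        obtain ⟨c, hc⟩ := (mem_scalars_iff (g : GL ι F)).mp (mem_scalars_of_commute hai fun a ha =>
          (congrArg Subtype.val (Subgroup.mem_center_iff.mp hg ⟨a, ha⟩)).symm)
        have hd := det_eq_one hdet g.2
        rw [hc, Matrix.det_smul, Matrix.det_one, mul_one, hcard] at hd
        obtain ⟨k, hk, hk'⟩ := hζ.eq_pow_of_pow_eq_one hd
        refine ⟨⟨k, hk⟩, Subtype.ext (Units.ext ?_)⟩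
        rw [hfv]
        simp [hc, hk']
      · rintro ⟨c, rfl⟩
        refine Subgroup.mem_center_iff.mpr fun a => Subtype.ext ?_
        exact (scalar_commute (mem_scalars_of_val_eq (c := ζ ^ (c : ℕ)) (by rw [hfv]; simp)) a.1).symm
    show Nat.card ((Subgroup.center N : Set N) : Type u) = n
    rw [hrange, Nat.card_range_of_injective hinj, Nat.card_fin]
  refine ⟨hai, ⟨hn, ?_, ?_, ?_⟩, hcardN, hcenter, x, y, ζ, hx, hy, hζ, hexp x hx, hexp y hy, hxy, hform⟩
  · exact fun g => ⟨1, by rw [pow_one]; exact Subtype.ext (hexp g g.2)⟩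
  · intro A hA hAc
    have hle : A ≤ Subgroup.center N := fun a ha => Subgroup.mem_center_iff.mpr fun b =>
      Subtype.ext (scalar_commute (hchar A hA hAc ⟨a, ha, rfl⟩) b.1).symm
    haveI := Fact.mk hn
    haveI : IsCyclic (Subgroup.center N) := isCyclic_of_prime_card hcenter
    exact isCyclic_of_injective (Subgroup.inclusion hle) (Subgroup.inclusion_injective hle)
  · have hg2 : n * Nat.gcd 2 n = n := by
      rw [Nat.Coprime.gcd_eq_one (hn.coprime_iff_not_dvd.mpr (fun h => by
        rcases (Nat.dvd_prime Nat.prime_two).mp h with h1 | h1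
        · exact hn.one_lt.ne' h1
        · exact (Nat.not_even_iff_odd.mpr hodd) (h1 ▸ even_two))).symm, mul_one]
    rw [hg2]
    refine ((Nat.dvd_prime hn).mp (Monoid.exponent_dvd_of_forall_pow_eq_one fun g : N =>
      Subtype.ext (hexp g g.2))).resolve_left fun e => ?_
    rw [Monoid.exp_eq_one_iff] at e
    exact hne (congrArg Subtype.val (@Subsingleton.elim N e ⟨x * y, N.mul_mem hx hy⟩ ⟨y * x, N.mul_mem hy hx⟩))

end Cfsg.Lib.Classical.PrimeDim
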