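import Cfsg.Agent.Classical.PrimeDim.Forms
import Cfsg.Agent.Classical.SLExtra

/-! The geometric members do not contain the special linear group. -/

set_option autoImplicit false
set_option linter.unusedSimpArgs false
set_option linter.unusedSectionVars false
set_option linter.style.haveILetI false

namespace Cfsg.Lib.Classical.PrimeDim

open Matrix Cfsg.Geo
open scoped MatrixGroups

universe u

variable {ι : Type} [Fintype ι] [DecidableEq ι] {F : Type u} [Field F] {n : ℕ}

/-- A transvection in `GL`. -/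
def tv {a b : ι} (hab : a ≠ b) (c : F) : GL ι F :=
  Matrix.GeneralLinearGroup.mkOfDetNeZero (Matrix.transvection a b c)
    (by rw [det_transvection_of_ne a b hab]; exact one_ne_zero)

theorem tv_val {a b : ι} (hab : a ≠ b) (c : F) : (tv hab c : Matrix ι ι F) = Matrix.transvection a b c := rfl

theorem tv_mem {a b : ι} (hab : a ≠ b) (c : F) : tv hab c ∈ specialLinear ι F := by
  rw [specialLinear, MonoidHom.mem_ker]
  exact Units.ext (det_transvection_of_ne a b hab c)

theorem tv_inv_val {a b : ι} (hab : a ≠ b) (c : F) :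
    (((tv hab c)⁻¹ : GL ι F) : Matrix ι ι F) = Matrix.transvection a b (-c) := by
  have h : (tv hab c)⁻¹ = tv hab (-c) := inv_eq_of_mul_eq_one_right (Units.ext (by
    rw [Units.val_mul, tv_val, tv_val, transvection_mul_transvection_same a b hab, add_neg_cancel,
      transvection_zero, Units.val_one]))
  rw [h, tv_val]

theorem exists_mem_SL_mulVec [Nontrivial ι] {v w : ι → F} (hv : v ≠ 0) (hw : w ≠ 0) :
    ∃ g ∈ specialLinear ι F, (g : Matrix ι ι F) *ᵥ v = w := by
  obtain ⟨g, hg⟩ := Cfsg.Lib.Classical.exists_SL_mulVec_eq hv hw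
  refine ⟨Matrix.SpecialLinearGroup.toGL g, ?_, hg⟩
  rw [specialLinear, MonoidHom.mem_ker]
  exact Units.ext g.2

theorem not_le_subspace [Nontrivial ι] {W : Submodule F (ι → F)} (h0 : W ≠ ⊥) (h1 : W ≠ ⊤) :
    ¬ specialLinear ι F ≤ subspaceStabilizer W := by
  intro hle
  obtain ⟨v, hv, hv0⟩ := (Submodule.ne_bot_iff W).mp h0
  obtain ⟨w, hw⟩ : ∃ w, w ∉ W := by
    by_contra hc
    push Not at hc
    exact h1 (Submodule.eq_top_iff'.mpr hc)
  obtain ⟨g, hg, hgv⟩ := exists_mem_SL_mulVec hv0 (fun e => hw (e ▸ zero_mem W) : w ≠ 0)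
  exact hw (hgv ▸ ((hle hg) v).mp hv)

theorem not_le_decomposition [Nontrivial ι] {t : ℕ} {D : Fin t → Submodule F (ι → F)} (hD : IsMDecomposition 1 D) :
    ¬ specialLinear ι F ≤ decompositionStabilizer D := by
  intro hle
  have h2 := hD.two_le
  let i₀ : Fin t := ⟨0, by omega⟩
  let i₁ : Fin t := ⟨1, by omega⟩
  have h01 : i₀ ≠ i₁ := by simp [i₀, i₁]
  have hne : ∀ i, D i ≠ ⊥ := fun i e => by
    have := hD.finrank_eq i
    rw [e, finrank_bot] at this
    exact zero_ne_one this
  obtain ⟨v₀, hv₀, hv₀0⟩ := (Submodule.ne_bot_iff _).mp (hne i₀)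
  obtain ⟨v₁, hv₁, hv₁0⟩ := (Submodule.ne_bot_iff _).mp (hne i₁)
  have hdisj : ∀ {i j}, i ≠ j → ∀ x, x ∈ D i → x ∈ D j → x = 0 := fun {i j} hij x hi hj =>
    (Submodule.disjoint_def.mp (hD.indep.pairwiseDisjoint hij)) x hi hj
  have hw : v₀ + v₁ ≠ 0 := fun e => hv₀0 (hdisj h01 v₀ hv₀ (by
    rw [eq_neg_of_add_eq_zero_left e]; exact neg_mem hv₁))
  obtain ⟨g, hg, hgv⟩ := exists_mem_SL_mulVec hv₀0 hw
  obtain ⟨π, hπ⟩ := hle hg
  have hk : v₀ + v₁ ∈ D (π i₀) := hgv ▸ hπ i₀ ▸ ⟨v₀, hv₀, Matrix.toLin'_apply _ _⟩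
  by_cases h : π i₀ = i₀
  · rw [h] at hk
    exact hv₁0 (hdisj h01 v₁ (by simpa using sub_mem hk hv₀) hv₁)
  · by_cases h' : π i₀ = i₁
    · rw [h'] at hk
      exact hv₀0 (hdisj h01 v₀ hv₀ (by simpa using sub_mem hk hv₁))
    · exact hw ((Submodule.disjoint_def.mp (hD.indep (π i₀))) _ hk (add_mem
        (Submodule.mem_iSup_of_mem i₀ (Submodule.mem_iSup_of_mem (Ne.symm h) hv₀))
        (Submodule.mem_iSup_of_mem i₁ (Submodule.mem_iSup_of_mem (Ne.symm h') hv₁))))

theorem exists_scalar_of_commute_single [Nonempty ι] {M : Matrix ι ι F}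
    (h : ∀ a b : ι, a ≠ b → Matrix.single a b 1 * M = M * Matrix.single a b 1) : ∃ c : F, M = c • 1 := by
  obtain ⟨c, hc⟩ := Matrix.mem_range_scalar_of_commute_single (M := M) (fun a b hab => h a b hab)
  exact ⟨c, by rw [← hc, Matrix.scalar_apply, Matrix.smul_one_eq_diagonal]⟩

theorem not_le_field (hcard : Fintype.card ι = n) (h3 : 3 ≤ n) {K : Subalgebra F (Matrix ι ι F)}
    (hK : IsFieldSubalgebra n K) : ¬ specialLinear ι F ≤ subalgebraNormalizer K := by
  intro hle
  haveI : Nonempty ι := Fintype.card_pos_iff.mp (by omega)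
  have key : ∀ k ∈ K, ∀ a b : ι, a ≠ b → Matrix.single a b 1 * k = k * Matrix.single a b 1 := by
    intro k hk a b hab
    set t := tv hab (1 : F)
    have hmem : (t : Matrix ι ι F) * k * ((t⁻¹ : GL ι F) : Matrix ι ι F) - k ∈ K :=
      sub_mem ((hle (tv_mem hab 1) k).mp hk) hk
    let φ : (ι → F) →ₗ[F] F × F :=
      ((LinearMap.proj b : (ι → F) →ₗ[F] F).prod ((LinearMap.proj b : (ι → F) →ₗ[F] F) ∘ₗ Matrix.toLin' k))
    have hker : LinearMap.ker φ ≠ ⊥ := LinearMap.ker_ne_bot_of_finrank_lt (by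
      rw [Module.finrank_prod, Module.finrank_self, finrank_pi_card, hcard]; omega)
    obtain ⟨v, hv, hv0⟩ := (Submodule.ne_bot_iff _).mp hker
    have hv1 : v b = 0 := congrArg Prod.fst (LinearMap.mem_ker.mp hv)
    have hv2 : (k *ᵥ v) b = 0 := congrArg Prod.snd (LinearMap.mem_ker.mp hv)
    have hE : ∀ w : ι → F, w b = 0 → Matrix.single a b (1 : F) *ᵥ w = 0 := fun w hw => by
      funext i
      rw [Matrix.mulVec, dotProduct]
      refine Finset.sum_eq_zero fun j _ => ?_
      rw [Matrix.single_apply]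
      split_ifs with h
      · rw [← h.2, hw, mul_zero]
      · rw [zero_mul]
    have htv : (t : Matrix ι ι F) *ᵥ v = v := by
      rw [tv_val, Matrix.transvection, Matrix.add_mulVec, Matrix.one_mulVec, hE v hv1, add_zero]
    have hzero : ((t : Matrix ι ι F) * k * ((t⁻¹ : GL ι F) : Matrix ι ι F) - k) *ᵥ v = 0 := by
      have e : ((t⁻¹ : GL ι F) : Matrix ι ι F) *ᵥ v = v := by
        conv_lhs => rw [← htv, inv_mulVec_mulVec]
      rw [Matrix.sub_mulVec, ← Matrix.mulVec_mulVec, e, ← Matrix.mulVec_mulVec, tv_val, Matrix.transvection,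
        Matrix.add_mulVec, Matrix.one_mulVec, hE _ hv2, add_zero, sub_self]
    have heq : (t : Matrix ι ι F) * k * ((t⁻¹ : GL ι F) : Matrix ι ι F) - k = 0 := by
      by_contra hne
      obtain ⟨u, hu⟩ := fieldSub_isUnit hK hmem hne
      rw [← hu] at hzero
      exact gl_mulVec_ne_zero u hv0 hzero
    have hc : (t : Matrix ι ι F) * k = k * (t : Matrix ι ι F) := by
      conv_rhs => rw [← sub_eq_zero.mp heq, mul_assoc, val_inv_mul, mul_one]
    rw [tv_val, Matrix.transvection, add_mul, mul_add, one_mul, mul_one] at hc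
    exact add_left_cancel hc
  have h1 : Module.finrank F K = 1 := (finrank_eq_one_iff_of_nonzero' (⟨1, one_mem _⟩ : K)
    (fun e => one_ne_zero (congrArg Subtype.val e))).mpr fun k => by
      obtain ⟨c, hc⟩ := exists_scalar_of_commute_single (key k k.2)
      exact ⟨c, Subtype.ext hc.symm⟩
  rw [hK.finrank_eq] at h1
  omega

theorem not_le_subfieldSubgroup [Nontrivial ι] {F₀ : Subfield F} (hne : F₀ ≠ ⊤) (P : GL ι F) :
    ¬ specialLinear ι F ≤ subfieldSubgroup F₀ P := by
  intro hle
  obtain ⟨x, hx⟩ : ∃ x, x ∉ F₀ := by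
    by_contra hc
    push Not at hc
    exact hne (eq_top_iff.mpr fun y _ => hc y)
  obtain ⟨a, b, hab⟩ := exists_pair_ne ι
  have hmem : P * tv hab x * P⁻¹ ∈ specialLinear ι F := by
    have := tv_mem hab x
    rw [specialLinear, MonoidHom.mem_ker] at this ⊢
    rw [map_mul, map_mul, this, mul_one, ← map_mul, mul_inv_cancel, map_one]
  obtain ⟨g, hg, he⟩ := hle hmem
  rw [MulEquiv.coe_toMonoidHom, MulAut.conj_apply] at he
  rw [mul_left_cancel (mul_right_cancel he)] at hg
  obtain ⟨c, hc, hent⟩ := exists_scaled_entries hg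
  have h1 := hent a a
  have h2 := hent a b
  rw [tv_val, Matrix.transvection, Matrix.add_apply, Matrix.one_apply_eq, Matrix.single_apply, if_neg (fun h => hab h.2.symm),
    add_zero, mul_one] at h1
  rw [tv_val, Matrix.transvection, Matrix.add_apply, Matrix.one_apply_ne hab, Matrix.single_apply, if_pos ⟨rfl, rfl⟩,
    zero_add] at h2
  exact hx (by simpa [hc] using mul_mem (inv_mem h1) h2)

theorem not_le_similarity (hcard : Fintype.card ι = n) (h3 : 3 ≤ n) {σ : F ≃+* F} {f : (ι → F) → (ι → F) → F}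
    (hf : IsSesq σ f) : ¬ specialLinear ι F ≤ similarityGroup f := by
  intro hle
  haveI : Nonempty ι := Fintype.card_pos_iff.mp (by omega)
  have hothers : ∀ x : ι, ∃ y z : ι, y ≠ x ∧ z ≠ x ∧ y ≠ z := by
    intro x
    have : 1 < (Finset.univ.erase x).card := by
      rw [Finset.card_erase_of_mem (Finset.mem_univ x), Finset.card_univ, hcard]; omega
    obtain ⟨y, hy, z, hz, hyz⟩ := Finset.one_lt_card.mp this
    exact ⟨y, z, (Finset.mem_erase.mp hy).1, (Finset.mem_erase.mp hz).1, hyz⟩
  set G := gramMatrix f with hG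
  have hdet := hf.det_gram_ne_zero
  have htr : ∀ a b : ι, a ≠ b → ∃ c : F, Matrix.transvection b a (1 : F) * G * Matrix.transvection a b (1 : F) = c • G := by
    intro a b hab
    obtain ⟨c, hc⟩ := hle (tv_mem hab 1)
    refine ⟨c, ?_⟩
    have h := (hf.fixes_iff (c : F)).mp hc
    rw [tv_val] at h
    rwa [show (Matrix.transvection a b (1 : F))ᵀ = Matrix.transvection b a 1 by simp [Matrix.transvection],
      show (Matrix.transvection a b (1 : F)).map σ = Matrix.transvection a b 1 by
        ext i j; simp [Matrix.transvection, Matrix.one_apply, Matrix.single_apply, apply_ite σ]] at h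
  have hrow : ∀ a b : ι, a ≠ b → ∀ j, j ≠ b → G a j = 0 := by
    intro a b hab
    obtain ⟨c, hc⟩ := htr a b hab
    by_cases h1 : c = 1
    · intro j hj
      have := congrFun (congrFun hc b) j
      rw [h1, one_smul, mul_transvection_apply_of_ne a b b j hj, transvection_mul_apply_same, one_mul] at this
      simpa using this
    · exfalso
      have hz : ∀ i j, i ≠ b → j ≠ b → G i j = 0 := fun i j hi hj => by
        have := congrFun (congrFun hc i) j
        rw [mul_transvection_apply_of_ne a b i j hj, transvection_mul_apply_of_ne b a i j hi, Matrix.smul_apply,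
          smul_eq_mul] at this
        exact (mul_eq_zero.mp (show (c - 1) * G i j = 0 by rw [sub_mul, one_mul, ← this, sub_self])).resolve_left
          (sub_ne_zero.mpr h1)
      obtain ⟨y, z, hy, hz', hyz⟩ := hothers b
      apply hdet
      by_cases h0 : G b y = 0
      · refine Matrix.det_eq_zero_of_column_eq_zero y fun i => ?_
        by_cases hi : i = b
        · rw [hi]; exact h0
        · exact hz i y hi hy
      · refine Matrix.exists_mulVec_eq_zero_iff.mp
          ⟨Pi.single z (G b y) - Pi.single y (G b z), fun e => h0 ?_, ?_⟩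
        · simpa [Pi.single_eq_of_ne hyz.symm] using congrFun e z
        · funext i
          rw [Matrix.mulVec_sub, Pi.sub_apply, Matrix.mulVec_single, Matrix.mulVec_single, Pi.zero_apply]
          by_cases hi : i = b
          · simp [hi, ← hG, mul_comm]
          · simp [← hG, hz i y hi hy, hz i z hi hz']
  obtain ⟨a⟩ := ‹Nonempty ι›
  obtain ⟨y, z, hy, hz, hyz⟩ := hothers a
  refine hdet (Matrix.det_eq_zero_of_row_eq_zero a fun j => ?_)
  by_cases hj : j = y
  · exact hrow a z hz.symm j (hj ▸ hyz)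
  · exact hrow a y hy.symm j hj

theorem not_le_quadSimilarity (hcard : Fintype.card ι = n) (h3 : 3 ≤ n) {Q : (ι → F) → F}
    (hQ : IsNondegenerateQuadraticForm Q) : ¬ specialLinear ι F ≤ quadSimilarityGroup Q := fun hle =>
  not_le_similarity hcard h3 (IsSesq.of_quadratic hQ) fun g hg => by
    obtain ⟨c, hc⟩ := hle hg
    refine ⟨c, fun u v => ?_⟩
    simp only [QuadraticMap.polar, ← Matrix.mulVec_add, hc]
    ring

theorem IsHeisenberg.trace_or_scalar (hn : n.Prime) {R : Subgroup (GL ι F)} (hR : IsHeisenberg n R) {g : GL ι F}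
    (hg : g ∈ R) : Matrix.trace (g : Matrix ι ι F) = 0 ∨ ∃ c : F, (g : Matrix ι ι F) = c • 1 := by
  obtain ⟨x, y, ζ, -, -, hζ, -, -, hxy, hform⟩ := hR.gens
  obtain ⟨⟨a, b⟩, c, hgm⟩ := hform g hg
  set X : Matrix ι ι F := (x : Matrix ι ι F)
  set Y : Matrix ι ι F := (y : Matrix ι ι F)
  by_cases hb : (b : ℕ) = 0
  · by_cases ha : (a : ℕ) = 0
    · exact Or.inr ⟨ζ ^ (c : ℕ), by rw [hgm, ha, hb]; simp⟩
    · left
      have h1 : (g : Matrix ι ι F) * Y = ζ ^ (a : ℕ) • (Y * (g : Matrix ι ι F)) := by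
        rw [hgm, hb, pow_zero, mul_one, Matrix.smul_mul, twist_pow_left hxy, Matrix.mul_smul, smul_comm]
      have h2 : Matrix.trace (g : Matrix ι ι F) = ζ ^ (a : ℕ) * Matrix.trace (g : Matrix ι ι F) := by
        conv_lhs => rw [← mul_one (g : Matrix ι ι F), ← val_mul_inv y, ← mul_assoc, h1, Matrix.smul_mul,
          Matrix.trace_smul, Matrix.trace_mul_cycle, val_inv_mul, one_mul, smul_eq_mul]
      exact (mul_eq_zero.mp (show (ζ ^ (a : ℕ) - 1) * Matrix.trace (g : Matrix ι ι F) = 0 by
        rw [sub_mul, one_mul, ← h2, sub_self])).resolve_left (sub_ne_zero.mpr (hζ.pow_ne_one_of_pos_of_lt ha a.2))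
  · left
    have h1 : X * (g : Matrix ι ι F) = ζ ^ (b : ℕ) • ((g : Matrix ι ι F) * X) := by
      rw [hgm, Matrix.mul_smul, Matrix.smul_mul, ← mul_assoc, ← pow_succ', pow_succ, mul_assoc,
        twist_pow_right hxy, Matrix.mul_smul, ← mul_assoc, smul_comm]
    have h2 : Matrix.trace (g : Matrix ι ι F) = ζ ^ (b : ℕ) * Matrix.trace (g : Matrix ι ι F) := by
      conv_lhs => rw [← one_mul (g : Matrix ι ι F), ← val_inv_mul x, mul_assoc, h1, Matrix.mul_smul,
        Matrix.trace_smul, Matrix.trace_mul_comm, mul_assoc, val_mul_inv, mul_one, smul_eq_mul]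
    exact (mul_eq_zero.mp (show (ζ ^ (b : ℕ) - 1) * Matrix.trace (g : Matrix ι ι F) = 0 by
      rw [sub_mul, one_mul, ← h2, sub_self])).resolve_left (sub_ne_zero.mpr (hζ.pow_ne_one_of_pos_of_lt hb b.2))

theorem trace_twist_expand {X X' E : Matrix ι ι F} (h : X * X' = 1) (h' : X' * X = 1) (hE : Matrix.trace E = 0) :
    Matrix.trace ((1 + E) * X * (1 - E) * X') = Fintype.card ι - Matrix.trace (E * X * E * X') := by
  rw [show (1 + E) * X * (1 - E) * X' = X * X' - X * E * X' + E * (X * X') - E * X * E * X' by noncomm_ring,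
    h, mul_one, Matrix.trace_sub, Matrix.trace_add, Matrix.trace_sub, Matrix.trace_one,
    Matrix.trace_mul_cycle X E X', h', one_mul, hE, sub_zero, add_zero]

theorem not_le_heisenbergNormalizer (hcard : Fintype.card ι = n) (hn : n.Prime) (h3 : 3 ≤ n)
    {R : Subgroup (GL ι F)} (hR : IsHeisenberg n R) : ¬ specialLinear ι F ≤ subgroupNormalizer R := by
  intro hle
  haveI : Nonempty ι := Fintype.card_pos_iff.mp (by omega)
  haveI : NeZero n := ⟨hn.ne_zero⟩
  obtain ⟨x, y, ζ, hx, -, hζ, -, -, hxy, -⟩ := hR.gens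
  haveI : NeZero ((n : ℕ) : F) := hζ.neZero'
  have hn0 : (n : F) ≠ 0 := NeZero.ne _
  obtain ⟨c, hc⟩ := exists_scalar_of_commute_single (M := (x : Matrix ι ι F)) fun i j hij => by
    by_contra hne
    set X : Matrix ι ι F := (x : Matrix ι ι F) with hX
    set X' : Matrix ι ι F := ((x⁻¹ : GL ι F) : Matrix ι ι F) with hX'
    have key : ∀ a : F, a ≠ 0 → a * a * (X j i * X' j i) = (n : F) := by
      intro a ha
      set t := tv hij a
      have hu : t * x * t⁻¹ * x⁻¹ ∈ R := R.mul_mem
        ((Subgroup.mem_normalizer_iff.mp (hle (tv_mem hij a)) x).mp hx) (R.inv_mem hx)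
      have htrace : Matrix.trace ((t * x * t⁻¹ * x⁻¹ : GL ι F) : Matrix ι ι F) = n - a * a * (X j i * X' j i) := by
        rw [Units.val_mul, Units.val_mul, Units.val_mul, tv_inv_val, tv_val, Matrix.transvection, Matrix.transvection,
          show Matrix.single i j (-a) = -Matrix.single i j a by
            ext p q; simp only [Matrix.single_apply, Matrix.neg_apply]; split_ifs <;> simp,
          ← sub_eq_add_neg, trace_twist_expand (val_mul_inv x) (val_inv_mul x)
            (Matrix.trace_single_eq_of_ne i j a hij), hcard]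
        congr 1
        show Matrix.trace (Matrix.single i j a * X * Matrix.single i j a * X') = _
        rw [mul_assoc (Matrix.single i j a) X, mul_assoc (Matrix.single i j a), Matrix.trace_single_mul,
          Matrix.mul_assoc, Matrix.mul_apply, Finset.sum_eq_single i (fun k _ hk => by
            simp [Matrix.mul_apply, Matrix.single_apply, Ne.symm hk]) (by simp), Matrix.single_mul_apply_same,
          smul_eq_mul]
        ring
      rcases hR.trace_or_scalar hn hu with h0 | ⟨d, hd⟩
      · rw [htrace, sub_eq_zero] at h0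
        exact h0.symm
      · exfalso
        have e : X * ((t⁻¹ : GL ι F) : Matrix ι ι F) * X' = d • ((t⁻¹ : GL ι F) : Matrix ι ι F) := by
          have := congrArg (fun M => ((t⁻¹ : GL ι F) : Matrix ι ι F) * M) hd
          simp only [Matrix.mul_smul, mul_one, ← Units.val_mul] at this
          rw [← this, hX, hX', ← Units.val_mul, ← Units.val_mul]
          congr 1
          simp [mul_assoc]
        have ht1 : Matrix.trace ((t⁻¹ : GL ι F) : Matrix ι ι F) = n := by
          rw [tv_inv_val, Matrix.transvection, Matrix.trace_add, Matrix.trace_one, hcard,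
            Matrix.trace_single_eq_of_ne i j (-a) hij, add_zero]
        have hd1 : d = 1 := by
          have h := congrArg Matrix.trace e
          rw [Matrix.trace_mul_cycle, show X' * X = 1 from val_inv_mul x, one_mul, Matrix.trace_smul, ht1,
            smul_eq_mul] at h
          exact (mul_eq_right₀ hn0).mp h.symm
        rw [hd1, one_smul] at hd
        have hcm : (t : Matrix ι ι F) * X = X * (t : Matrix ι ι F) := by
          have h1 : t * x * t⁻¹ * x⁻¹ = 1 := Units.ext (by rw [hd, Units.val_one])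
          rw [mul_inv_eq_one, mul_inv_eq_iff_eq_mul] at h1
          rw [hX, ← Units.val_mul, ← Units.val_mul, h1]
        rw [tv_val, Matrix.transvection, add_mul, mul_add, one_mul, mul_one] at hcm
        have h2 := add_left_cancel hcm
        rw [show Matrix.single i j a = a • Matrix.single i j (1 : F) by rw [Matrix.smul_single, smul_eq_mul, mul_one],
          Matrix.smul_mul, Matrix.mul_smul] at h2
        exact hne (smul_right_injective _ ha h2)
    have h1 := key 1 one_ne_zero
    rw [one_mul, one_mul] at h1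
    have h2 := key ζ (hζ.ne_zero hn.ne_zero)
    rw [h1, mul_eq_right₀ hn0] at h2
    exact hζ.pow_ne_one_of_pos_of_lt (l := 2) two_ne_zero (by omega) (by rw [pow_two]; exact h2)
  apply hζ.ne_one hn.one_lt
  have h3 := hxy
  rw [hc, Matrix.smul_mul, Matrix.mul_smul, one_mul, mul_one, smul_smul] at h3
  have hc0 : c ≠ 0 := fun e => x.ne_zero (by rw [hc, e, zero_smul])
  exact (mul_eq_right₀ hc0).mp (smul_left_injective F (y.ne_zero) h3).symm

end Cfsg.Lib.Classical.PrimeDim
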