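import Cfsg.Agent.Classical.PrimeDim.UnitarySubfield
import Cfsg.Agent.Classical.Unitary.MaxMatrix

/-! Maximal subgroups of `SU` in odd prime degree. -/

set_option autoImplicit false
set_option linter.unusedSimpArgs false
set_option linter.unusedSectionVars false
set_option linter.style.haveILetI false

namespace Cfsg.Lib.Classical.PrimeDim

open Matrix Cfsg.Geo
open scoped MatrixGroups

universe u

variable {n : ℕ} {F : Type u} [Field F] [Fintype F] {q : ℕ}

/-- An involutive permutation of an odd set has a fixed point. -/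
theorem exists_fixed_of_involutive {α : Type*} [Fintype α] (hodd : Odd (Fintype.card α)) {f : α → α}
    (hf : ∀ a, f (f a) = a) : ∃ a, f a = a := by
  by_contra hc
  push Not at hc
  have h : ∑ _a : α, (1 : ZMod 2) = 0 :=
    Finset.sum_involution (fun a _ => f a) (fun a _ => CharTwo.add_self_eq_zero _) (fun a _ _ => hc a)
      (fun a _ => Finset.mem_univ _) (fun a _ => hf a)
  rw [Finset.sum_const, Finset.card_univ, nsmul_eq_mul, mul_one, ZMod.natCast_eq_zero_iff] at h
  exact Nat.not_even_iff_odd.mpr hodd (even_iff_two_dvd.mpr h)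

/-- An invariant subspace of a group of isometries yields a totally singular or a small non-degenerate one. -/
theorem unitary_reducible (hF : Fintype.card F = q ^ 2) (hodd : Odd n) {H : Subgroup (GL (Fin n) F)}
    (hH : H ≤ Cfsg.GU n F q) {W : Submodule F (Fin n → F)} (h0 : W ≠ ⊥) (h1 : W ≠ ⊤) (hW : Invariant H W) :
    ∃ U : Submodule F (Fin n → F), U ≠ ⊥ ∧ U ≠ ⊤ ∧ Invariant H U ∧
      (IsTotallySingularFor (Cfsg.hermForm n F q) U ∨
        (IsNondegenerateOn (Cfsg.hermForm n F q) U ∧ 2 * Module.finrank F U < n)) := by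
  set S := Cfsg.Lib.Classical.stdHerm n hF
  have hS : ∀ u v, S.h u v = Cfsg.hermForm n F q u v := Cfsg.Lib.Classical.stdHerm_h hF
  have horth : Invariant H (S.orth W) := fun g hg x hx w hw => by
    rw [hS]
    have e := mem_GU_iff.mp (hH hg) x (((g⁻¹ : GL (Fin n) F) : Matrix (Fin n) (Fin n) F) *ᵥ w)
    rw [mulVec_inv_mulVec] at e
    rw [e, ← hS]
    exact hx _ (hW _ (H.inv_mem hg) w hw)
  by_cases hrad : W ⊓ S.orth W = ⊥
  swap
  · refine ⟨W ⊓ S.orth W, hrad, fun e => h1 (top_le_iff.mp (e ▸ inf_le_left)),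
      fun g hg v hv => ⟨hW g hg v hv.1, horth g hg v hv.2⟩, Or.inl fun u hu v hv => ?_⟩
    rw [← hS]
    exact hu.2 v hv.1
  have hnd : S.NondegOn W := (S.nondegOn_iff_disjoint W).mpr (disjoint_iff.mpr hrad)
  have hnd' := S.nondegOn_orth hnd
  have hdim := S.finrank_orth W
  rw [finrank_pi_card, Fintype.card_fin] at hdim
  have hWle : Module.finrank F W ≤ n := (Submodule.finrank_le W).trans (le_of_eq (by rw [finrank_pi_card, Fintype.card_fin]))
  have hconv : ∀ U : Submodule F (Fin n → F), S.NondegOn U → IsNondegenerateOn (Cfsg.hermForm n F q) U := by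
    intro U hU w hw hw0
    obtain ⟨x, hx, hne⟩ : ∃ x ∈ U, Cfsg.hermForm n F q x w ≠ 0 := by
      by_contra hc
      push Not at hc
      exact hw0 (hU w hw fun x hx => (hS x w).trans (hc x hx))
    exact ⟨⟨x, hx, hne⟩, x, hx, fun e => hne (by rw [(herm_isUnitary hF).herm, e, map_zero])⟩
  have hk : 2 * Module.finrank F W ≠ n := fun e => Nat.not_even_iff_odd.mpr hodd ⟨Module.finrank F W, by omega⟩
  by_cases hlt : 2 * Module.finrank F W < n
  · exact ⟨W, h0, h1, hW, Or.inr ⟨hconv W hnd, hlt⟩⟩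
  · refine ⟨S.orth W, fun e => ?_, fun e => ?_, horth, Or.inr ⟨hconv _ hnd', by omega⟩⟩
    · rw [e, finrank_bot] at hdim
      exact h1 (Submodule.eq_top_of_finrank_eq (by rw [finrank_pi_card, Fintype.card_fin]; omega))
    · rw [e, finrank_top, finrank_pi_card, Fintype.card_fin] at hdim
      exact h0 (Submodule.finrank_eq_zero.mp (by have := hodd.pos; omega))

/-- The weight lines of a normal subgroup of isometries are orthogonal and non-degenerate. -/
theorem frame_orthogonal (hF : Fintype.card F = q ^ 2) (hodd : Odd n) {N H : Subgroup (GL (Fin n) F)}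
    (hH : H ≤ Cfsg.GU n F q) (hNH : N ≤ H) {D : Fin n → Submodule F (Fin n → F)} (hD : IsWeightFrame N H D) :
    IsNondegenerateMDecomposition (Cfsg.hermForm n F q) 1 D := by
  classical
  set f := Cfsg.hermForm n F q
  have hs := herm_isSesq (n := n) hF
  obtain ⟨χ, hχ, hDχ⟩ := hD.weights
  have hneighbour : ∀ i, ∀ u ∈ D i, u ≠ 0 → ∃ j, ∃ v ∈ D j, f v u ≠ 0 := by
    intro i u hu hu0
    by_contra hc
    push Not at hc
    obtain ⟨x, hx⟩ := (hs.nondegenerate u hu0).1
    apply hx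
    have hxmem : x ∈ iSup D := by rw [hD.decomp.iSup_eq_top]; exact Submodule.mem_top
    clear hx
    induction hxmem using Submodule.iSup_induction' with
    | mem j y hy => exact hc j y hy
    | zero => simpa using hs.smul_left 0 0 u
    | add a b _ _ ha hb => rw [hs.add_left, ha, hb, add_zero]
  have hrel : ∀ i j, (∃ u ∈ D i, ∃ v ∈ D j, f u v ≠ 0) → ∀ g : N, χ i g * frob hF (χ j g) = 1 := by
    rintro i j ⟨u, hu, v, hv, huv⟩ g
    rw [hDχ i] at hu
    rw [hDχ j] at hv
    have e := mem_GU_iff.mp (hH (hNH g.2)) u v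
    rw [mem_weightSpace.mp hu g, mem_weightSpace.mp hv g, hs.smul_left, hs.smul_right, ← mul_assoc] at e
    exact (mul_eq_right₀ huv).mp e
  have huniq : ∀ i j j', (∃ u ∈ D i, ∃ v ∈ D j, f u v ≠ 0) → (∃ u ∈ D i, ∃ v ∈ D j', f u v ≠ 0) → j = j' := by
    intro i j j' h h'
    refine hχ (funext fun g => ?_)
    have e := hrel i j h g
    have e' := hrel i j' h' g
    have hne : χ i g ≠ 0 := fun e0 => by rw [e0, zero_mul] at e; exact zero_ne_one e
    exact (frob hF).injective (mul_left_cancel₀ hne (e.trans e'.symm))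
  have hex : ∀ i, ∃ j, ∃ u ∈ D i, ∃ v ∈ D j, f u v ≠ 0 := by
    intro i
    obtain ⟨u, hu, hu0⟩ := (Submodule.ne_bot_iff (D i)).mp (fun e => by
      have := hD.decomp.finrank_eq i
      rw [e, finrank_bot] at this
      exact zero_ne_one this)
    obtain ⟨j, v, hv, hne⟩ := hneighbour i u hu hu0
    exact ⟨j, u, hu, v, hv, fun e => hne (((herm_isUnitary hF).herm v u).trans ((congrArg (frob hF) e).trans (map_zero _)))⟩
  choose π hπ using hex
  have hsymm : ∀ i j, (∃ u ∈ D i, ∃ v ∈ D j, f u v ≠ 0) → ∃ u ∈ D j, ∃ v ∈ D i, f u v ≠ 0 := by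
    rintro i j ⟨u, hu, v, hv, huv⟩
    exact ⟨v, hv, u, hu, fun e => huv (((herm_isUnitary hF).herm u v).trans ((congrArg (frob hF) e).trans (map_zero _)))⟩
  have hinv : ∀ i, π (π i) = i := fun i => huniq (π i) _ _ (hπ (π i)) (hsymm i (π i) (hπ i))
  obtain ⟨i₀, hi₀⟩ := exists_fixed_of_involutive (by rw [Fintype.card_fin]; exact hodd) hinv
  have hfixed : ∀ j, π j = j := by
    intro j
    obtain ⟨h, hh, hmap⟩ := hD.trans i₀ j
    obtain ⟨u, hu, v, hv, huv⟩ := hπ i₀
    rw [hi₀] at hv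
    refine huniq j _ _ (hπ j) ⟨(h : Matrix (Fin n) (Fin n) F) *ᵥ u, hmap ▸ ⟨u, hu, Matrix.toLin'_apply _ _⟩,
      (h : Matrix (Fin n) (Fin n) F) *ᵥ v, hmap ▸ ⟨v, hv, Matrix.toLin'_apply _ _⟩, ?_⟩
    rw [show f ((h : Matrix (Fin n) (Fin n) F) *ᵥ u) ((h : Matrix (Fin n) (Fin n) F) *ᵥ v) = f u v from
      mem_GU_iff.mp (hH hh) u v]
    exact huv
  have horth : ∀ i j, i ≠ j → AreOrthogonalFor f (D i) (D j) := by
    intro i j hij u hu v hv
    by_contra hne
    exact hij (((hfixed i).symm.trans (huniq i _ _ (hπ i) ⟨u, hu, v, hv, hne⟩)))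
  refine ⟨hD.decomp, fun i w hw hw0 => ?_, horth⟩
  obtain ⟨j, v, hv, hne⟩ := hneighbour i w hw hw0
  have hji : j = i := by_contra fun h => hne (horth j i h v hv w hw)
  subst hji
  exact ⟨⟨v, hv, hne⟩, v, hv, fun e => hne (((herm_isUnitary hF).herm v w).trans ((congrArg (frob hF) e).trans (map_zero _)))⟩

/-- The commutant of a group of isometries is closed under adjoints. -/
theorem comm_adjointClosed (hF : Fintype.card F = q ^ 2) {N : Subgroup (GL (Fin n) F)} (hN : N ≤ Cfsg.GU n F q) :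
    IsAdjointClosedFor (Cfsg.hermForm n F q) (comm (matrixSet N)) := by
  set σ := frob hF with hσ
  intro M hM
  refine ⟨(M.map σ)ᵀ, mem_comm_matrixSet.mpr fun g hg => ?_, fun u v => ?_⟩
  · have e := mem_comm_matrixSet.mp hM g⁻¹ (N.inv_mem hg)
    have h1 := gu_transpose hF (hN hg)
    have hg' : (g : Matrix (Fin n) (Fin n) F).map σ = ((g⁻¹ : GL (Fin n) F) : Matrix (Fin n) (Fin n) F)ᵀ := by
      have h2 : ((g⁻¹ : GL (Fin n) F) : Matrix (Fin n) (Fin n) F)ᵀ * (g : Matrix (Fin n) (Fin n) F)ᵀ = 1 := by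
        rw [← Matrix.transpose_mul, val_mul_inv, Matrix.transpose_one]
      calc (g : Matrix (Fin n) (Fin n) F).map σ
          = (((g⁻¹ : GL (Fin n) F) : Matrix (Fin n) (Fin n) F)ᵀ * (g : Matrix (Fin n) (Fin n) F)ᵀ) *
              (g : Matrix (Fin n) (Fin n) F).map σ := by rw [h2, one_mul]
        _ = _ := by rw [mul_assoc, h1, mul_one]
    have hg'' : (((g⁻¹ : GL (Fin n) F) : Matrix (Fin n) (Fin n) F).map σ)ᵀ = (g : Matrix (Fin n) (Fin n) F) := by
      have := congrArg (fun X : Matrix (Fin n) (Fin n) F => (X.map σ)) hg'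
      simp only [Matrix.map_map, show (⇑σ ∘ ⇑σ) = id from funext fun a => frob_frob hF a, Matrix.map_id] at this
      conv_rhs => rw [this]
      ext i j; rfl
    have := congrArg (fun X : Matrix (Fin n) (Fin n) F => (X.map σ)ᵀ) e
    simp only [Matrix.map_mul, Matrix.transpose_mul, hg''] at this
    exact this.symm
  · rw [hermForm_eq hF]
    simp only [stdHerm, Units.val_one, Matrix.one_mulVec]
    rw [show (∑ i, (M *ᵥ u) i * σ (v i)) = (M *ᵥ u) ⬝ᵥ (⇑σ ∘ v) from rfl,
      show (∑ i, u i * σ (((M.map σ)ᵀ *ᵥ v) i)) = u ⬝ᵥ (⇑σ ∘ ((M.map σ)ᵀ *ᵥ v)) from rfl, comp_mulVec,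
      show ((M.map σ)ᵀ).map σ = Mᵀ by ext i j; simp [hσ, frob_frob], Matrix.dotProduct_mulVec,
      Matrix.vecMul_transpose]

/-- The maximal subgroups of `SU` in odd prime degree. -/
theorem unitary_cases (hF : Fintype.card F = q ^ 2) (hn : n.Prime) (h3 : 3 ≤ n) (hqn : 3 ≤ q ∨ 4 ≤ n)
    {H : Subgroup (GL (Fin n) F)} (hH : IsMaximalIn (suGL n F q) H) :
    (∃ W : Submodule F (Fin n → F), W ≠ ⊥ ∧ IsTotallySingularFor (Cfsg.hermForm n F q) W ∧
      H = subspaceStabilizer W ⊓ suGL n F q) ∨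
    (∃ W : Submodule F (Fin n → F), W ≠ ⊥ ∧ IsNondegenerateOn (Cfsg.hermForm n F q) W ∧
      2 * Module.finrank F W < n ∧ H = subspaceStabilizer W ⊓ suGL n F q) ∨
    (∃ D : Fin n → Submodule F (Fin n → F), IsNondegenerateMDecomposition (Cfsg.hermForm n F q) 1 D ∧
      H = decompositionStabilizer D ⊓ suGL n F q) ∨
    (∃ K : Subalgebra F (Matrix (Fin n) (Fin n) F), IsFieldSubalgebra n K ∧
      IsAdjointClosedFor (Cfsg.hermForm n F q) K ∧ H = subalgebraNormalizer K ⊓ suGL n F q) ∨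
    (∃ (F₀ : Subfield F) (r : ℕ) (P : GL (Fin n) F), r.Prime ∧ Odd r ∧ Fintype.card F = Nat.card F₀ ^ r ∧
      IsFormRationalStructure (Cfsg.hermForm n F q) F₀ 1 P ∧ H = subfieldSubgroup F₀ P ⊓ suGL n F q) ∨
    (Odd q ∧ ∃ (F₀ : Subfield F) (P : GL (Fin n) F), Fintype.card F = Nat.card F₀ ^ 2 ∧
      IsFormRationalStructure (Cfsg.hermForm n F q) F₀ 1 P ∧ H = subfieldSubgroup F₀ P ⊓ suGL n F q) ∨
    (∃ (p m : ℕ) (R : Subgroup (GL (Fin n) F)), p.Prime ∧ CharP F p ∧ q = p ^ m ∧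
      orderOf (p : ZMod n) = 2 * m ∧ IsSymplecticTypeGroup n R ∧ ActsAbsolutelyIrreducibly (matrixSet R) ∧
      R ≤ Cfsg.GU n F q ∧ R ≤ similarityGroup (Cfsg.hermForm n F q) ∧ Nat.card R = n ^ 3 ∧
      Nat.card (Subgroup.center R) = n ∧ H = subgroupNormalizer R ⊓ suGL n F q) ∨
    InUnitaryResidualClass H := by
  classical
  haveI : Nonempty (Fin n) := ⟨⟨0, by omega⟩⟩
  have hodd : Odd n := hn.odd_of_ne_two (by omega)
  have hGU : H ≤ Cfsg.GU n F q := hH.1.le.trans inf_le_left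
  have hdet : H ≤ specialLinear (Fin n) F := hH.1.le.trans inf_le_right
  by_cases hW : ∃ W : Submodule F (Fin n → F), W ≠ ⊥ ∧ W ≠ ⊤ ∧ Invariant H W
  · obtain ⟨W, h0, h1, hinv⟩ := hW
    obtain ⟨U, hU0, hU1, hUinv, hU | ⟨hU, hlt⟩⟩ := unitary_reducible hF hodd hGU h0 h1 hinv
    · exact Or.inl ⟨U, hU0, hU, eq_inf_of_maximal hH hUinv.le_stabilizer (suGL_not_le_subspace hF (by omega) hU0 hU1)⟩
    · exact Or.inr (Or.inl ⟨U, hU0, hU, hlt,
        eq_inf_of_maximal hH hUinv.le_stabilizer (suGL_not_le_subspace hF (by omega) hU0 hU1)⟩)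
  have hirr : ActsIrreducibly (matrixSet H) := (irreducible_iff H).mpr fun W hinv => by
    by_contra hc
    push Not at hc
    exact hW ⟨W, hc.1, hc.2, hinv⟩
  have hSub : ∀ {P : Subgroup (GL (Fin n) F)}, P ≤ H → Normalises H P → ActsAbsolutelyIrreducibly (matrixSet P) →
      ∀ {F₀ : Subfield F}, F₀ ≠ ⊤ → RealisableOver F₀ (matrixSet P) →
      (∃ (F₀ : Subfield F) (r : ℕ) (P : GL (Fin n) F), r.Prime ∧ Odd r ∧ Fintype.card F = Nat.card F₀ ^ r ∧
        IsFormRationalStructure (Cfsg.hermForm n F q) F₀ 1 P ∧ H = subfieldSubgroup F₀ P ⊓ suGL n F q) ∨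
      (Odd q ∧ ∃ (F₀ : Subfield F) (P : GL (Fin n) F), Fintype.card F = Nat.card F₀ ^ 2 ∧
        IsFormRationalStructure (Cfsg.hermForm n F q) F₀ 1 P ∧ H = subfieldSubgroup F₀ P ⊓ suGL n F q) := by
    intro P hPH hPn hPai F₀ hne hreal
    obtain ⟨F₁, r, B, hr, hcard, hne1, hle, hrat, hr'⟩ := unitary_subfield hF (by omega) hodd hGU hPn hPH hPai hne hreal
    have heq := eq_inf_of_maximal hH hle (suGL_not_le_subfieldSubgroup hF h3 hne1 B)
    rcases hr' with hro | ⟨rfl, hqo⟩
    · exact Or.inl ⟨F₁, r, B, hr, hro, hcard, hrat, heq⟩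
    · exact Or.inr ⟨hqo, F₁, B, hcard, hrat, heq⟩
  rcases core_cases (Fintype.card_fin n) hn hodd hdet hirr with
    ⟨N, hNH, -, D, hD⟩ | ⟨N, hNH, hNn, hK⟩ | ⟨R, hRH, hRn, hR⟩ | ⟨P, hP⟩
  · exact Or.inr (Or.inr (Or.inl ⟨D, frame_orthogonal hF hodd hGU hNH hD,
      eq_inf_of_maximal hH hD.le_stab (suGL_not_le_decomposition hF h3 hqn hD.decomp)⟩))
  · exact Or.inr (Or.inr (Or.inr (Or.inl ⟨_, hK, comm_adjointClosed hF (hNH.trans hGU),
      eq_inf_of_maximal hH (le_subalgebraNormalizer_comm hNn) (suGL_not_le_field hF h3 hK)⟩)))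
  · obtain ⟨p, f, hp, hchar, hf0, hf⟩ := exists_char_card F
    haveI := Fact.mk hp
    haveI := Fact.mk hn
    haveI : NeZero n := ⟨hn.ne_zero⟩
    obtain ⟨B, ζ, hζ, hB⟩ := hR.exists_basis (Fintype.card_fin n) hn
    haveI : NeZero ((n : ℕ) : F) := hζ.neZero'
    have hpn : n ≠ p := fun e => NeZero.ne (n : F) (e ▸ CharP.cast_eq_zero F p)
    obtain ⟨he0, -, he⟩ := orderOf_natCast_facts (n := n) (p := p) hn
      (fun h => hpn ((Nat.prime_dvd_prime_iff_eq hn hp).mp h))
    set e := orderOf (p : ZMod n) with he_def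
    have hef : e ∣ f := (he f).mp (by
      rw [← hf, ← Nat.card_units]
      have hu := hζ.isUnit hn.ne_zero
      rw [hζ.eq_orderOf, ← hu.unit_spec, orderOf_units]
      exact orderOf_dvd_natCard hu.unit)
    by_cases hlt : e = f
    · rw [Nat.card_eq_fintype_card, hF] at hf
      obtain ⟨m, -, hm⟩ := (Nat.dvd_prime_pow hp).mp (hf ▸ dvd_pow_self q two_ne_zero : q ∣ p ^ f)
      have hfm : f = 2 * m := (Nat.pow_right_injective hp.two_le (by
        show p ^ (2 * m) = p ^ f
        rw [mul_comm, pow_mul, ← hm, hf])).symm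
      have hord : orderOf (p : ZMod n) = 2 * m := by rw [← he_def, hlt, hfm]
      have hdvd : n ∣ q + 1 := by
        have hsq : ((p : ZMod n) ^ m) * ((p : ZMod n) ^ m) = 1 := by
          rw [← pow_add, ← two_mul, ← hord]; exact pow_orderOf_eq_one _
        rcases mul_self_eq_one_iff.mp hsq with h | h
        · exfalso
          have := orderOf_dvd_of_pow_eq_one h
          rw [hord] at this
          have := Nat.le_of_dvd (by omega) this
          omega
        · rw [← ZMod.natCast_eq_zero_iff, Nat.cast_add, hm, Nat.cast_pow, h, Nat.cast_one, neg_add_cancel]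
      have hq4 : 4 ≤ q := by
        by_contra hc
        have := Nat.le_of_dvd (by omega) hdvd
        have := two_le_q hF
        rcases (show q = 2 ∨ q = 3 by omega) with rfl | rfl
        · omega
        · have h4 : n ∣ 2 ^ 2 := hdvd
          have := (Nat.prime_dvd_prime_iff_eq hn Nat.prime_two).mp (hn.dvd_of_dvd_pow h4)
          omega
      refine Or.inr (Or.inr (Or.inr (Or.inr (Or.inr (Or.inr (Or.inl ⟨p, m, R, hp, hchar, hm, hord, hR.symplecticType,
        hR.absIrred, hRH.trans hGU, fun g hg => ⟨1, fun u v => by rw [Units.val_one, one_mul]; exact mem_GU_iff.mp (hGU (hRH hg)) u v⟩,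
        hR.card, hR.card_center,
        eq_inf_of_maximal hH (fun h hh => ?_) (suGL_not_le_heisenbergNormalizer hF hn hq4 hR)⟩))))))
      rw [subgroupNormalizer, Subgroup.mem_normalizer_iff]
      exact fun x => ⟨fun hx => hRn h hh x hx, fun hx => by simpa [mul_assoc] using hRn.inv hh hx⟩
    · have hreal : RealisableOver (powField F p e) (matrixSet R) := by
        refine ⟨B, forall_matrixSet.mpr fun g hg i j => ?_⟩
        obtain ⟨π, k, hk⟩ := hB g hg
        rw [← Units.val_mul, ← Units.val_mul, hk]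
        split_ifs
        · refine pow_mem (mem_powField.mpr ?_) _
          have hle : 1 ≤ p ^ e := Nat.one_le_pow _ _ hp.pos
          obtain ⟨m, hm⟩ := (he e).mpr dvd_rfl
          rw [show p ^ e = n * m + 1 by omega, pow_succ, pow_mul, hζ.pow_eq_one, one_pow, one_mul]
        · exact zero_mem _
      have hne : powField F p e ≠ ⊤ := fun h => by
        have := card_powField (F := F) he0 hf hef
        rw [h, Nat.card_congr Subfield.topEquiv.toEquiv, hf] at this
        exact hlt (Nat.pow_right_injective hp.two_le this).symm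
      rcases hSub hRH hRn hR.absIrred hne hreal with h | h
      · exact Or.inr (Or.inr (Or.inr (Or.inr (Or.inl h))))
      · exact Or.inr (Or.inr (Or.inr (Or.inr (Or.inr (Or.inl h)))))
  · by_cases hreal : ∃ F₀ : Subfield F, F₀ ≠ ⊤ ∧ RealisableOver F₀ (matrixSet P)
    · obtain ⟨F₀, hne, hreal⟩ := hreal
      rcases hSub hP.le hP.normal hP.absIrred hne hreal with h | h
      · exact Or.inr (Or.inr (Or.inr (Or.inr (Or.inl h))))
      · exact Or.inr (Or.inr (Or.inr (Or.inr (Or.inr (Or.inl h)))))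
    refine Or.inr (Or.inr (Or.inr (Or.inr (Or.inr (Or.inr (Or.inr
      ⟨P, hP.residualCore fun F₀ hne hr => hreal ⟨F₀, hne, hr⟩, ?_, ?_⟩))))))
    · rintro ⟨Q, hQ, hfix⟩
      exact hreal (realisable_of_quad hF hodd (hP.le.trans hGU) hP.absIrred hQ hfix)
    · rintro ⟨g, hg, -⟩
      exact no_alternating (Fintype.card_fin n) hodd hg.bilinear hg.alternating hg.nondegenerate

end Cfsg.Lib.Classical.PrimeDim
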