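import Cfsg.Agent.Classical.PrimeDim.OrthSubfield
import Cfsg.Agent.Classical.PrimeDim.UnitaryMain

/-! Frames, commutant fields and Heisenberg subgroups for an orthogonal group in odd prime degree. -/

set_option autoImplicit false
set_option linter.unusedSimpArgs false
set_option linter.unusedSectionVars false
set_option linter.style.haveILetI false

namespace Cfsg.Lib.Classical.PrimeDim.Orth

open Matrix Cfsg.Geo
open scoped MatrixGroups

universe u

variable {ι : Type} [Fintype ι] [DecidableEq ι] {F : Type u} [Field F] [Fintype F] (Q : QuadraticForm F (ι → F))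
  (hQ : (QuadraticMap.polarBilin Q).Nondegenerate)

theorem quad_eq_half (h2 : (2 : F) ≠ 0) (x : ι → F) : Q x = QuadraticMap.polar (⇑Q) x x / 2 := by
  rw [QuadraticMap.polar_self, nsmul_eq_mul, Nat.cast_ofNat, mul_div_cancel_left₀ _ h2]

include hQ in
/-- The weight lines of a normal subgroup of isometries are orthogonal, non-degenerate and isometric. -/
theorem frame_orthogonal (h2 : (2 : F) ≠ 0) {n : ℕ} (hodd : Odd n) {N H : Subgroup (GL ι F)}
    (hH : ∀ g ∈ H, ∀ x, Q ((g : Matrix ι ι F) *ᵥ x) = Q x) (hNH : N ≤ H) {D : Fin n → Submodule F (ι → F)}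
    (hD : IsWeightFrame N H D) :
    IsNondegenerateMDecomposition (QuadraticMap.polar (⇑Q)) 1 D ∧
      ∃ (a : F) (b : Fin n → (ι → F)), a ≠ 0 ∧ ∀ i, b i ∈ D i ∧ b i ≠ 0 ∧ Q (b i) = a ∧
        ∀ w ∈ D i, ∃ c : F, w = c • b i := by
  classical
  set f := QuadraticMap.polar (⇑Q)
  have hs : IsSesq (RingEquiv.refl F) f := quad_isSesq Q hQ
  have hpol : ∀ g ∈ H, ∀ x y, f ((g : Matrix ι ι F) *ᵥ x) ((g : Matrix ι ι F) *ᵥ y) = f x y := fun g hg x y => by
    simp only [f, QuadraticMap.polar, ← Matrix.mulVec_add, hH g hg]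
  obtain ⟨χ, hχ, hDχ⟩ := hD.weights
  have hneighbour : ∀ i, ∀ u ∈ D i, u ≠ 0 → ∃ j, ∃ v ∈ D j, f u v ≠ 0 := by
    intro i u hu hu0
    by_contra hc
    push Not at hc
    obtain ⟨x, hx⟩ := (hs.nondegenerate u hu0).2
    apply hx
    have hxmem : x ∈ iSup D := by rw [hD.decomp.iSup_eq_top]; exact Submodule.mem_top
    clear hx
    induction hxmem using Submodule.iSup_induction' with
    | mem j y hy => exact hc j y hy
    | zero => exact QuadraticMap.polar_zero_right Q u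
    | add a b _ _ ha hb => rw [hs.add_right, ha, hb, add_zero]
  have hrel : ∀ i j, (∃ u ∈ D i, ∃ v ∈ D j, f u v ≠ 0) → ∀ g : N, χ i g * χ j g = 1 := by
    rintro i j ⟨u, hu, v, hv, huv⟩ g
    rw [hDχ i] at hu
    rw [hDχ j] at hv
    have e := hpol _ (hNH g.2) u v
    rw [mem_weightSpace.mp hu g, mem_weightSpace.mp hv g, hs.smul_left, hs.smul_right, RingEquiv.refl_apply,
      ← mul_assoc] at e
    exact (mul_eq_right₀ huv).mp e
  have huniq : ∀ i j j', (∃ u ∈ D i, ∃ v ∈ D j, f u v ≠ 0) → (∃ u ∈ D i, ∃ v ∈ D j', f u v ≠ 0) → j = j' := by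
    intro i j j' h h'
    refine hχ (funext fun g => ?_)
    have e := hrel i j h g
    have e' := hrel i j' h' g
    exact mul_left_cancel₀ (left_ne_zero_of_mul_eq_one e) (e.trans e'.symm)
  have hline : ∀ i, ∃ b ∈ D i, b ≠ 0 ∧ ∀ w ∈ D i, ∃ c : F, w = c • b := by
    intro i
    obtain ⟨⟨b, hb⟩, hb0, hb'⟩ := finrank_eq_one_iff'.mp (hD.decomp.finrank_eq i)
    refine ⟨b, hb, fun e => hb0 (Subtype.ext e), fun w hw => ?_⟩
    obtain ⟨c, hc⟩ := hb' ⟨w, hw⟩
    exact ⟨c, (congrArg Subtype.val hc).symm⟩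
  have hex : ∀ i, ∃ j, ∃ u ∈ D i, ∃ v ∈ D j, f u v ≠ 0 := by
    intro i
    obtain ⟨u, hu, hu0, -⟩ := hline i
    obtain ⟨j, v, hv, hne⟩ := hneighbour i u hu hu0
    exact ⟨j, u, hu, v, hv, hne⟩
  choose π hπ using hex
  have hinv : ∀ i, π (π i) = i := fun i => huniq (π i) _ _ (hπ (π i)) (by
    obtain ⟨u, hu, v, hv, h⟩ := hπ i
    exact ⟨v, hv, u, hu, fun e => h ((QuadraticMap.polar_comm _ _ _).trans e)⟩)
  obtain ⟨i₀, hi₀⟩ := exists_fixed_of_involutive (by rw [Fintype.card_fin]; exact hodd) hinv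
  obtain ⟨b₀, hb₀, hb₀0, hspan₀⟩ := hline i₀
  have ha : Q b₀ ≠ 0 := by
    intro hQ0
    obtain ⟨u, hu, v, hv, huv⟩ := hπ i₀
    rw [hi₀] at hv
    obtain ⟨c, rfl⟩ := hspan₀ u hu
    obtain ⟨d, rfl⟩ := hspan₀ v hv
    rw [quad_eq_half Q h2, div_eq_zero_iff] at hQ0
    exact huv (by rw [hs.smul_left, hs.smul_right, show f b₀ b₀ = 0 from hQ0.resolve_right h2]; ring)
  choose h hh hmap using fun j => hD.trans i₀ j
  let b : Fin n → (ι → F) := fun j => (h j : Matrix ι ι F) *ᵥ b₀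
  have hbD : ∀ j, b j ∈ D j := fun j => hmap j ▸ ⟨b₀, hb₀, Matrix.toLin'_apply _ _⟩
  have hbQ : ∀ j, Q (b j) = Q b₀ := fun j => hH _ (hh j) b₀
  have hb0 : ∀ j, b j ≠ 0 := fun j => gl_mulVec_ne_zero _ hb₀0
  have hbs : ∀ i, ∀ w ∈ D i, ∃ c : F, w = c • b i := by
    intro i w hw
    obtain ⟨b', -, hb'0, hb'⟩ := hline i
    obtain ⟨c, hc⟩ := hb' _ (hbD i)
    obtain ⟨d, rfl⟩ := hb' w hw
    have hc0 : c ≠ 0 := fun e => hb0 i (by rw [hc, e, zero_smul])
    exact ⟨d / c, by rw [hc, smul_smul, div_mul_cancel₀ _ hc0]⟩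
  have hfixed : ∀ j, π j = j := fun j => huniq j _ _ (hπ j) ⟨b j, hbD j, b j, hbD j, fun e => ha (by
    rw [← hbQ j, quad_eq_half Q h2, show QuadraticMap.polar (⇑Q) (b j) (b j) = 0 from e, zero_div])⟩
  have horth : ∀ i j, i ≠ j → AreOrthogonalFor f (D i) (D j) := by
    intro i j hij u hu v hv
    by_contra hne
    exact hij (((hfixed i).symm.trans (huniq i _ _ (hπ i) ⟨u, hu, v, hv, hne⟩)))
  refine ⟨⟨hD.decomp, fun i w hw hw0 => ?_, horth⟩, Q b₀, b, ha, fun i => ⟨hbD i, hb0 i, hbQ i, hbs i⟩⟩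
  obtain ⟨j, v, hv, hne⟩ := hneighbour i w hw hw0
  have hji : j = i := by_contra fun h => hne (horth i j (Ne.symm h) w hw v hv)
  subst hji
  exact ⟨⟨v, hv, fun e => hne ((QuadraticMap.polar_comm _ _ _).trans e)⟩, v, hv, hne⟩

include hQ in
/-- A frame of isometric lines lies in a subfield structure for every proper subfield. -/
theorem frame_subfield (h2 : (2 : F) ≠ 0) {m n : ℕ} (hm : Fintype.card ι = 2 * m + 1) (hcard : Fintype.card ι = n)
    (hdisc : (gramMatrix (QuadraticMap.polar (⇑Q))).det = 2 ∨ (gramMatrix (QuadraticMap.polar (⇑Q))).det = -2)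
    {H : Subgroup (GL ι F)} (hH : ∀ g ∈ H, ∀ x, Q ((g : Matrix ι ι F) *ᵥ x) = Q x)
    {D : Fin n → Submodule F (ι → F)} (hD : IsNondegenerateMDecomposition (QuadraticMap.polar (⇑Q)) 1 D)
    (hle : H ≤ decompositionStabilizer D) {a : F} (ha : a ≠ 0) {b : Fin n → (ι → F)}
    (hb : ∀ i, b i ∈ D i ∧ b i ≠ 0 ∧ Q (b i) = a ∧ ∀ w ∈ D i, ∃ c : F, w = c • b i) (F₁ : Subfield F) :
    ∃ B : GL ι F, H ≤ subfieldSubgroup F₁ B ∧ IsQuadFormRationalStructure (⇑Q) F₁ B := by
  classical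
  let e : ι ≃ Fin n := Fintype.equivFinOfCardEq hcard
  let P : Matrix ι ι F := Matrix.of fun x j => b (e j) x
  have hPcol : ∀ j, P *ᵥ Pi.single j 1 = b (e j) := fun j => by rw [Matrix.mulVec_single_one]; rfl
  set G := gramMatrix (QuadraticMap.polar (⇑Q))
  have hPG : Pᵀ * G * P = (2 * a) • (1 : Matrix ι ι F) := by
    ext i j
    have h := (quad_isSesq Q hQ).apply_mulVec P P (Pi.single i 1) (Pi.single j 1)
    rw [hPcol, hPcol, RingEquiv.coe_refl, Matrix.map_id, Function.id_comp, Matrix.mulVec_single_one,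
      single_one_dotProduct] at h
    rw [Matrix.smul_apply, Matrix.one_apply, smul_eq_mul]
    refine h.symm.trans ?_
    split_ifs with hij
    · rw [hij, QuadraticMap.polar_self, (hb _).2.2.1, nsmul_eq_mul, Nat.cast_ofNat, mul_one]
    · rw [mul_zero]
      exact hD.orthogonal _ _ (fun h => hij (e.injective h)) _ (hb _).1 _ (hb _).1
  have hPdet : P.det ≠ 0 := fun h0 => by
    have h := congrArg Matrix.det hPG
    rw [Matrix.det_mul, h0, mul_zero, Matrix.det_smul, Matrix.det_one, mul_one] at h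
    exact pow_ne_zero _ (mul_ne_zero h2 ha) h.symm
  let PG : GL ι F := Matrix.GeneralLinearGroup.mkOfDetNeZero P hPdet
  obtain ⟨μ, hμ, hμQ⟩ := scale_structure Q hQ h2 hm hdisc F₁ PG (c := (2 * a)⁻¹)
    (inv_ne_zero (mul_ne_zero h2 ha)) (fun i j => by
      show (2 * a)⁻¹ * (Pᵀ * G * P) i j ∈ F₁
      rw [hPG, Matrix.smul_apply, smul_eq_mul, inv_mul_cancel_left₀ (mul_ne_zero h2 ha), Matrix.one_apply]
      split_ifs
      exacts [one_mem _, zero_mem _])
  refine ⟨PG * scalarGL hμ, ?_, hμQ⟩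
  rw [map_conj_scalar]
  intro g hg
  obtain ⟨τ, hτ⟩ := hle hg
  refine Subgroup.mem_map.mpr ⟨PG⁻¹ * g * PG, mem_range_sup_scalars one_ne_zero fun i j => ?_, by simp [mul_assoc]⟩
  rw [one_mul]
  obtain ⟨d, hd⟩ := (hb (τ (e j))).2.2.2 _ (hτ (e j) ▸ ⟨b (e j), (hb _).1, Matrix.toLin'_apply _ _⟩ :
    (g : Matrix ι ι F) *ᵥ b (e j) ∈ D (τ (e j)))
  have hdd : d * d = 1 := by
    have h := hH g hg (b (e j))
    rw [hd, QuadraticMap.map_smul, (hb _).2.2.1, (hb _).2.2.1, smul_eq_mul] at h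
    exact (mul_eq_right₀ ha).mp h
  have hcol : ((PG⁻¹ * g * PG : GL ι F) : Matrix ι ι F) *ᵥ Pi.single j 1 = d • Pi.single (e.symm (τ (e j))) 1 := by
    rw [Units.val_mul, Units.val_mul, ← Matrix.mulVec_mulVec, show (PG : Matrix ι ι F) = P from rfl, hPcol,
      ← Matrix.mulVec_mulVec, hd]
    have : b (τ (e j)) = P *ᵥ Pi.single (e.symm (τ (e j))) 1 := by rw [hPcol, Equiv.apply_symm_apply]
    rw [this, Matrix.mulVec_smul, show P = (PG : Matrix ι ι F) from rfl, inv_mulVec_mulVec]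
  have h4 := congrFun hcol i
  rw [Matrix.mulVec_single_one] at h4
  change ((PG⁻¹ * g * PG : GL ι F) : Matrix ι ι F) i j = _ at h4
  rw [h4, Pi.smul_apply, smul_eq_mul, Pi.single_apply]
  rcases mul_self_eq_one_iff.mp hdd with rfl | rfl <;> split_ifs <;>
    simp only [mul_one, mul_zero, one_mul, zero_mem, one_mem, neg_mem_iff]

include hQ in
/-- No normal subgroup of isometries has a commutant which is a field of full odd degree. -/
theorem no_field_commutant (h2 : (2 : F) ≠ 0) {n : ℕ} (hcard : Fintype.card ι = n) (hodd : Odd n) (h3 : 2 ≤ n)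
    {N : Subgroup (GL ι F)} (hN : ∀ g ∈ N, ∀ x, Q ((g : Matrix ι ι F) *ᵥ x) = Q x)
    (hK : IsFieldSubalgebra n (comm (matrixSet N))) : False := by
  classical
  haveI : Nonempty ι := Fintype.card_pos_iff.mp (by omega)
  set K := comm (matrixSet N)
  set G := gramMatrix (QuadraticMap.polar (⇑Q))
  have hGu : IsUnit G.det := isUnit_iff_ne_zero.mpr (quad_isSesq Q hQ).det_gram_ne_zero
  have hGT : Gᵀ = G := gram_symm Q
  have hiso : ∀ g ∈ N, (g : Matrix ι ι F)ᵀ * G * (g : Matrix ι ι F) = G := fun g hg =>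
    isometry_transpose Q hQ (hN g hg)
  have hT : ∀ g ∈ N, (g : Matrix ι ι F)ᵀ * G = G * ((g⁻¹ : GL ι F) : Matrix ι ι F) := fun g hg => by
    have h := congrArg (fun X => X * ((g⁻¹ : GL ι F) : Matrix ι ι F)) (hiso g hg)
    simp only [mul_assoc, val_mul_inv, mul_one] at h
    exact h
  let τ : Matrix ι ι F → Matrix ι ι F := fun M => G⁻¹ * Mᵀ * G
  have hτ : ∀ M, G * τ M = Mᵀ * G := fun M => by
    simp only [τ, ← mul_assoc, Matrix.mul_nonsing_inv _ hGu, one_mul]
  have hGi : ∀ X Y : Matrix ι ι F, G * X = G * Y → X = Y := fun X Y h => by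
    have := congrArg (fun Z => G⁻¹ * Z) h
    simpa [← mul_assoc, Matrix.nonsing_inv_mul _ hGu] using this
  have hττ : ∀ M, τ (τ M) = M := fun M => hGi _ _ (by
    rw [hτ]
    have := congrArg Matrix.transpose (hτ M)
    simpa [Matrix.transpose_mul, hGT] using this)
  have hτK : ∀ M ∈ K, τ M ∈ K := fun M hM => mem_comm_matrixSet.mpr fun g hg => hGi _ _ (by
    rw [← mul_assoc, hτ, ← mul_assoc]
    have e := congrArg Matrix.transpose (mem_comm_matrixSet.mp hM g⁻¹ (N.inv_mem hg))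
    rw [Matrix.transpose_mul, Matrix.transpose_mul] at e
    have h' := hT g⁻¹ (N.inv_mem hg)
    rw [inv_inv] at h'
    calc Mᵀ * G * (g : Matrix ι ι F) = Mᵀ * (G * (g : Matrix ι ι F)) := mul_assoc _ _ _
      _ = Mᵀ * ((g⁻¹ : GL ι F) : Matrix ι ι F)ᵀ * G := by rw [← h', mul_assoc]
      _ = ((g⁻¹ : GL ι F) : Matrix ι ι F)ᵀ * (Mᵀ * G) := by rw [← e, mul_assoc]
      _ = ((g⁻¹ : GL ι F) : Matrix ι ι F)ᵀ * G * τ M := by rw [← hτ, mul_assoc]
      _ = G * (g : Matrix ι ι F) * τ M := by rw [h'])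
  have hsmul : ∀ (r : F) M, τ (r • M) = r • τ M := fun r M => by
    simp [τ, Matrix.transpose_smul, Matrix.mul_smul, Matrix.smul_mul]
  have hadd : ∀ X Y, τ (X + Y) = τ X + τ Y := fun X Y => by simp [τ, Matrix.transpose_add, mul_add, add_mul]
  have hmul : ∀ X Y, τ (X * Y) = τ Y * τ X := fun X Y => hGi _ _ (by
    rw [hτ, Matrix.transpose_mul, mul_assoc, ← hτ, ← mul_assoc, ← hτ, mul_assoc])
  let τl : Matrix ι ι F →ₗ[F] Matrix ι ι F :=
    { toFun := τ, map_add' := hadd, map_smul' := fun r M => hsmul r M }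
  set KS : Submodule F (Matrix ι ι F) := Subalgebra.toSubmodule K
  let S : Submodule F (Matrix ι ι F) := KS ⊓ LinearMap.ker (τl - LinearMap.id)
  let A : Submodule F (Matrix ι ι F) := KS ⊓ LinearMap.ker (τl + LinearMap.id)
  have hS : ∀ M, M ∈ S ↔ M ∈ K ∧ τ M = M := fun M => by
    simp [S, τl, KS, sub_eq_zero]
  have hA : ∀ M, M ∈ A ↔ M ∈ K ∧ τ M = -M := fun M => by
    simp [A, τl, KS, add_eq_zero_iff_eq_neg]
  have hfix : ∀ M ∈ K, τ M = M := by
    intro M hM
    by_contra hne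
    set a := M - τ M with ha_def
    have haA : a ∈ A := (hA a).mpr ⟨sub_mem hM (hτK M hM), by
      show τl (M - τ M) = -(M - τ M)
      rw [map_sub, neg_sub]
      show τ M - τ (τ M) = _
      rw [hττ]⟩
    have ha0 : a ≠ 0 := sub_ne_zero.mpr (fun e => hne e.symm)
    obtain ⟨ua, hua⟩ := fieldSub_isUnit hK ((hA a).mp haA).1 ha0
    have hcancel : Function.Injective fun X : Matrix ι ι F => a * X := fun X Y h => by
      rw [← hua] at h
      exact (Units.mul_right_inj ua).mp h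
    have hle1 : Module.finrank F S ≤ Module.finrank F A := by
      let φ : S →ₗ[F] A := ((LinearMap.mulLeft F a).comp S.subtype).codRestrict A (fun s => by
        obtain ⟨h1, h2'⟩ := (hS _).mp s.2
        refine (hA _).mpr ⟨mul_mem ((hA a).mp haA).1 h1, ?_⟩
        show τ (a * (s : Matrix ι ι F)) = -(a * (s : Matrix ι ι F))
        rw [hmul, h2', ((hA a).mp haA).2, mul_neg, hK.comm _ h1 _ ((hA a).mp haA).1])
      exact LinearMap.finrank_le_finrank_of_injective (f := φ) fun x y h =>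
        Subtype.ext (hcancel (congrArg Subtype.val h))
    have hle2 : Module.finrank F A ≤ Module.finrank F S := by
      let φ : A →ₗ[F] S := ((LinearMap.mulLeft F a).comp A.subtype).codRestrict S (fun s => by
        obtain ⟨h1, h2'⟩ := (hA _).mp s.2
        refine (hS _).mpr ⟨mul_mem ((hA a).mp haA).1 h1, ?_⟩
        show τ (a * (s : Matrix ι ι F)) = a * (s : Matrix ι ι F)
        rw [hmul, h2', ((hA a).mp haA).2, neg_mul_neg, hK.comm _ h1 _ ((hA a).mp haA).1])
      exact LinearMap.finrank_le_finrank_of_injective (f := φ) fun x y h =>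
        Subtype.ext (hcancel (congrArg Subtype.val h))
    have hinf : S ⊓ A = ⊥ := by
      rw [Submodule.eq_bot_iff]
      rintro X ⟨h1, h2'⟩
      have e := ((hS X).mp h1).2.symm.trans ((hA X).mp h2').2
      rw [eq_neg_iff_add_eq_zero, ← two_smul F, smul_eq_zero] at e
      exact e.resolve_left h2
    have hsup : S ⊔ A = KS := by
      refine le_antisymm (sup_le inf_le_left inf_le_left) fun X hX => ?_
      have hXK : X ∈ K := hX
      rw [show X = (2 : F)⁻¹ • (X + τ X) + (2 : F)⁻¹ • (X - τ X) by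
        rw [← smul_add, add_add_sub_cancel, ← two_smul F X, smul_smul, inv_mul_cancel₀ h2, one_smul]]
      refine Submodule.add_mem_sup ((hS _).mpr ⟨Subalgebra.smul_mem K (add_mem hXK (hτK X hXK)) _, ?_⟩)
        ((hA _).mpr ⟨Subalgebra.smul_mem K (sub_mem hXK (hτK X hXK)) _, ?_⟩)
      · rw [hsmul, hadd, hττ, add_comm]
      · rw [hsmul, ← smul_neg]
        congr 1
        show τl (X - τ X) = -(X - τ X)
        rw [map_sub, neg_sub]
        show τ X - τ (τ X) = _
        rw [hττ]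
    have h := Submodule.finrank_sup_add_finrank_inf_eq S A
    rw [hinf, finrank_bot, hsup, show Module.finrank F KS = n from hK.finrank_eq] at h
    obtain ⟨k, hk⟩ := hodd
    omega
  have hNscal : ∀ g ∈ N, ∀ M : Matrix ι ι F, M * (g : Matrix ι ι F) = (g : Matrix ι ι F) * M := by
    intro g hg M
    have hgK : (g : Matrix ι ι F) ∈ K := fieldSub_centralizer (hcard.symm ▸ hK) fun k hk =>
      (mem_comm_matrixSet.mp hk g hg).symm
    have e := hτ (g : Matrix ι ι F)
    rw [hfix _ hgK, hT g hg] at e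
    have e2 := hGi _ _ e
    have hz : ((g : Matrix ι ι F) - 1) * ((g : Matrix ι ι F) + 1) = 0 := by
      have hgg : (g : Matrix ι ι F) * (g : Matrix ι ι F) = 1 := by
        calc _ = (g : Matrix ι ι F) * ((g⁻¹ : GL ι F) : Matrix ι ι F) := by rw [← e2]
          _ = 1 := val_mul_inv g
      rw [sub_mul, mul_add, mul_add, hgg]
      simp [add_comm]
    by_cases h1 : (g : Matrix ι ι F) = 1
    · rw [h1, one_mul, mul_one]
    obtain ⟨u, hu⟩ := fieldSub_isUnit hK (sub_mem hgK (one_mem K)) (sub_ne_zero.mpr h1)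
    rw [← hu, Units.mul_right_eq_zero] at hz
    rw [eq_neg_of_add_eq_zero_left hz]
    simp
  obtain ⟨i, j, hij⟩ : ∃ i j : ι, i ≠ j := Fintype.exists_pair_of_one_lt_card (by omega)
  have hmem : Matrix.single i j (1 : F) ∈ K := mem_comm_matrixSet.mpr fun g hg => hNscal g hg _
  have hne : Matrix.single i j (1 : F) ≠ 0 := fun e => one_ne_zero (α := F) (by
    simpa using congrFun (congrFun e i) j)
  obtain ⟨y, -, hy⟩ := hK.inv _ hmem hne
  apply hne
  have h0 : Matrix.single i j (1 : F) * Matrix.single i j 1 = 0 :=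
    Matrix.single_mul_single_of_ne _ _ _ _ hij.symm _
  calc Matrix.single i j (1 : F) = Matrix.single i j 1 * (Matrix.single i j 1 * y) := by rw [hy, mul_one]
    _ = 0 := by rw [← mul_assoc, h0, zero_mul]

include hQ in
/-- No Heisenberg group of odd degree consists of isometries of a quadratic form. -/
theorem no_heisenberg {n : ℕ} (h3 : 3 ≤ n) {R : Subgroup (GL ι F)} (hR : IsHeisenberg n R) (hne : Nonempty ι)
    (hiso : ∀ g ∈ R, ∀ x, Q ((g : Matrix ι ι F) *ᵥ x) = Q x) : False := by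
  obtain ⟨x, y, ζ, hx, hy, hζ, -, -, hxy, -⟩ := hR.gens
  set G := gramMatrix (QuadraticMap.polar (⇑Q))
  have h1 := isometry_transpose Q hQ (hiso _ (R.mul_mem hx hy))
  have h2' := isometry_transpose Q hQ (hiso _ (R.mul_mem hy hx))
  rw [Units.val_mul] at h1 h2'
  rw [hxy, Matrix.transpose_smul, Matrix.smul_mul, Matrix.smul_mul, Matrix.mul_smul, h2', smul_smul] at h1
  have hz : ζ * ζ = 1 := by
    have h := sub_eq_zero.mpr h1
    rw [show (ζ * ζ) • G - G = (ζ * ζ - 1) • G by rw [sub_smul, one_smul], smul_eq_zero, sub_eq_zero] at h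
    refine h.resolve_right fun e => (quad_isSesq Q hQ).det_gram_ne_zero ?_
    change G.det = 0
    rw [e, Matrix.det_zero]
  have := Nat.le_of_dvd two_pos ((hζ.pow_eq_one_iff_dvd 2).mp (by rw [pow_two]; exact hz))
  omega

end Cfsg.Lib.Classical.PrimeDim.Orth
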