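import Cfsg.Agent.Classical.PrimeDim.UnitarySubfield
import Cfsg.Agent.Classical.Orth.NondegMax

/-! `Ω` in odd characteristic lies in no stabiliser of a subspace, frame or subfield structure. -/

set_option autoImplicit false
set_option linter.unusedSimpArgs false
set_option linter.unusedSectionVars false
set_option linter.style.haveILetI false

namespace Cfsg.Lib.Classical.PrimeDim.Orth

open Matrix Cfsg.Geo
open scoped MatrixGroups
open Cfsg.Lib.Classical (HypQuad.perp HypQuad.mem_perp HypQuad.finrank_perp)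
open Cfsg.Lib.Classical.Refl (mat siegelG mat_siegelG siegelMap siegelG_mem_omega mem_omegaGL mem_iff)

universe u

variable {ι : Type} [Fintype ι] [DecidableEq ι] {F : Type u} [Field F] [Fintype F] (Q : QuadraticForm F (ι → F))
  (hQ : (QuadraticMap.polarBilin Q).Nondegenerate)

theorem omega_preserves' {g : GL ι F} (hg : g ∈ omegaGL (⇑Q)) (x : ι → F) :
    Q ((g : Matrix ι ι F) *ᵥ x) = Q x := by
  obtain ⟨h, -, rfl⟩ := (mem_omegaGL Q g).mp hg
  exact (mem_iff Q).mp h.2 x

theorem omega_polar {g : GL ι F} (hg : g ∈ omegaGL (⇑Q)) (x y : ι → F) :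
    QuadraticMap.polar (⇑Q) ((g : Matrix ι ι F) *ᵥ x) ((g : Matrix ι ι F) *ᵥ y) = QuadraticMap.polar (⇑Q) x y := by
  simp only [QuadraticMap.polar, ← Matrix.mulVec_add, omega_preserves' Q hg]

theorem omega_det {g : GL ι F} (hg : g ∈ omegaGL (⇑Q)) : g ∈ specialLinear ι F := by
  obtain ⟨h, hh, rfl⟩ := (mem_omegaGL Q g).mp hg
  exact Cfsg.Lib.Classical.Refl.hom_eq_one_of_omega Q
    (Matrix.GeneralLinearGroup.det.comp (Cfsg.isometryGroup F (⇑Q)).subtype) hh

theorem exists_perp_norm_one (hn : 5 ≤ Fintype.card ι) (hQ : (QuadraticMap.polarBilin Q).Nondegenerate) (u : ι → F) :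
    ∃ z, QuadraticMap.polar (⇑Q) u z = 0 ∧ Q z = 1 := by
  have hle : Module.finrank F (Submodule.span F ({u} : Set (ι → F))) ≤ 1 :=
    (finrank_span_le_card _).trans (by simp)
  obtain ⟨z, hz, hz1⟩ := Cfsg.Lib.Classical.Refl.exists_norm_in_perp Q hQ (Submodule.span F {u}) (by omega) 1
  exact ⟨z, (HypQuad.mem_perp Q).mp hz u (Submodule.mem_span_singleton_self u), hz1⟩

include hQ in
/-- The Siegel transformations inside `Ω ≤ GL`. -/
theorem exists_siegel_gl (hn : 5 ≤ Fintype.card ι) {u z : ι → F} (hu : Q u = 0)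
    (huz : QuadraticMap.polar (⇑Q) u z = 0) :
    ∃ g ∈ omegaGL (⇑Q), ∀ x, (g : Matrix ι ι F) *ᵥ x = siegelMap Q u z x :=
  ⟨_, (mem_omegaGL Q _).mpr ⟨_, siegelG_mem_omega Q hQ hn hu huz, rfl⟩, mat_siegelG Q hu huz⟩

include hQ in
theorem nondeg_top : IsNondegenerateOn (QuadraticMap.polar (⇑Q)) (⊤ : Submodule F (ι → F)) := by
  intro w _ hw
  obtain ⟨x, hx⟩ : ∃ x, QuadraticMap.polar (⇑Q) w x ≠ 0 := by
    by_contra h
    push Not at h
    exact hw (hQ.1 w h)
  exact ⟨⟨x, Submodule.mem_top, by rwa [QuadraticMap.polar_comm]⟩, x, Submodule.mem_top, hx⟩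

include hQ in
theorem omega_not_le_subspace (h2 : (2 : F) ≠ 0) (hn : 7 ≤ Fintype.card ι) {W : Submodule F (ι → F)} (h0 : W ≠ ⊥)
    (h1 : W ≠ ⊤) : ¬ omegaGL (⇑Q) ≤ subspaceStabilizer W := by
  intro hle
  have hV : Module.finrank F (ι → F) = Fintype.card ι := Module.finrank_fintype_fun_eq_card F
  have hinv : ∀ (u z : ι → F) (hu : Q u = 0) (huz : QuadraticMap.polar (⇑Q) u z = 0), ∀ w ∈ W,
      siegelMap Q u z w ∈ W := by
    intro u z hu huz w hw
    obtain ⟨g, hg, hgx⟩ := exists_siegel_gl Q hQ (by omega) hu huz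
    rw [← hgx]
    exact (hle hg w).mp hw
  have hA : ∀ u w, Q u = 0 → w ∈ W → QuadraticMap.polar (⇑Q) u w ≠ 0 → u ∈ W := by
    intro u w hu hw huw
    obtain ⟨z, huz, hz⟩ := exists_perp_norm_one Q (by omega) hQ u
    have hneg : QuadraticMap.polar (⇑Q) u (-z) = 0 := by rw [QuadraticMap.polar_neg_right, huz, neg_zero]
    have h := sub_mem (sub_mem (add_mem (hinv u z hu huz w hw) (hinv u (-z) hu hneg w hw)) hw) hw
    have e : siegelMap Q u z w + siegelMap Q u (-z) w - w - w = (-(2 * QuadraticMap.polar (⇑Q) u w)) • u := by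
      funext i
      simp only [siegelMap, Pi.add_apply, Pi.sub_apply, Pi.smul_apply, Pi.neg_apply, smul_eq_mul,
        QuadraticMap.polar_neg_left, QuadraticMap.map_neg, hz]
      ring
    rw [e] at h
    have := W.smul_mem (-(2 * QuadraticMap.polar (⇑Q) u w))⁻¹ h
    rwa [smul_smul, inv_mul_cancel₀ (neg_ne_zero.mpr (mul_ne_zero h2 huw)), one_smul] at this
  obtain ⟨w, hw, hw0⟩ := (Submodule.ne_bot_iff W).mp h0
  obtain ⟨u, -, hu, huw⟩ := Cfsg.Lib.Classical.Refl.exists_singular_partner Q hQ (nondeg_top Q hQ)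
    (by rw [finrank_top, hV]; omega) (Submodule.mem_top (x := w)) hw0
  have huW : u ∈ W := hA u w hu hw (by rw [huw]; exact one_ne_zero)
  obtain ⟨y, hy, hy0⟩ := (Submodule.ne_bot_iff (HypQuad.perp Q W)).mp (fun e => h1 (by
    have := congrArg (fun X : Submodule F (ι → F) => Module.finrank F X) e
    simp only [HypQuad.finrank_perp Q hQ, hV, finrank_bot] at this
    refine Submodule.eq_top_of_finrank_eq ?_
    have := Submodule.finrank_le W
    omega))
  obtain ⟨u', -, hu', huy⟩ := Cfsg.Lib.Classical.Refl.exists_singular_partner Q hQ (nondeg_top Q hQ)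
    (by rw [finrank_top, hV]; omega) (Submodule.mem_top (x := y)) hy0
  have hu'W : u' ∉ W := fun h => one_ne_zero (huy.symm.trans ((HypQuad.mem_perp Q).mp hy u' h))
  have hperp : ∀ w ∈ W, QuadraticMap.polar (⇑Q) u' w = 0 := fun w hw => by_contra fun h => hu'W (hA u' w hu' hw h)
  have hu'0 : u' ≠ 0 := fun e => hu'W (e ▸ W.zero_mem)
  obtain ⟨c, hc⟩ : ∃ c : F, c • u' = u := by
    refine Submodule.mem_span_singleton.mp ?_
    rw [← Cfsg.Lib.Classical.Refl.perp_perp Q hQ (Submodule.span F {u'}), HypQuad.mem_perp]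
    intro z hz
    by_contra hzu
    have huz : QuadraticMap.polar (⇑Q) u' z = 0 := (HypQuad.mem_perp Q).mp hz u' (Submodule.mem_span_singleton_self u')
    have h := sub_mem (hinv u' z hu' huz u huW) huW
    have e : siegelMap Q u' z u - u = (-QuadraticMap.polar (⇑Q) z u) • u' := by
      funext i
      simp only [siegelMap, Pi.add_apply, Pi.sub_apply, Pi.smul_apply, smul_eq_mul, hperp u huW]
      ring
    rw [e] at h
    have := W.smul_mem (-QuadraticMap.polar (⇑Q) z u)⁻¹ h
    rw [smul_smul, inv_mul_cancel₀ (neg_ne_zero.mpr hzu), one_smul] at this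
    exact hu'W this
  have hc0 : c ≠ 0 := fun e => by
    rw [e, zero_smul] at hc
    rw [← hc, QuadraticMap.polar_zero_left] at huw
    exact zero_ne_one huw
  exact hu'W (by
    have := W.smul_mem c⁻¹ (hc ▸ huW)
    rwa [smul_smul, inv_mul_cancel₀ hc0, one_smul] at this)

include hQ in
theorem omega_not_le_decomposition (h2 : (2 : F) ≠ 0) (hn : 7 ≤ Fintype.card ι) {t : ℕ}
    {D : Fin t → Submodule F (ι → F)} (hD : IsNondegenerateMDecomposition (QuadraticMap.polar (⇑Q)) 1 D) :
    ¬ omegaGL (⇑Q) ≤ decompositionStabilizer D := by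
  intro hle
  have ht : 2 ≤ t := hD.decomp.two_le
  set i₀ : Fin t := ⟨0, by omega⟩
  obtain ⟨⟨v, hv⟩, hv0', hline'⟩ := finrank_eq_one_iff'.mp (hD.decomp.finrank_eq i₀)
  have hv0 : v ≠ 0 := fun e => hv0' (Subtype.ext e)
  have hline : ∀ w ∈ D i₀, ∃ c : F, w = c • v := fun w hw => by
    obtain ⟨c, hc⟩ := hline' ⟨w, hw⟩
    exact ⟨c, (congrArg Subtype.val hc).symm⟩
  have hQv : Q v ≠ 0 := by
    intro hQv
    obtain ⟨⟨x, hx, hne⟩, -⟩ := hD.nondegenerate i₀ v hv hv0
    obtain ⟨c, rfl⟩ := hline x hx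
    rw [QuadraticMap.polar_smul_left, QuadraticMap.polar_self, hQv, smul_zero, smul_zero] at hne
    exact hne rfl
  have hV : Module.finrank F (ι → F) = Fintype.card ι := Module.finrank_fintype_fun_eq_card F
  have hS : Module.finrank F (Submodule.span F ({v} : Set (ι → F))) = 1 := finrank_span_singleton hv0
  obtain ⟨s, hs, hs0, hQs⟩ := Cfsg.Lib.Classical.Refl.exists_singular Q (HypQuad.perp Q (Submodule.span F {v}))
    (by rw [HypQuad.finrank_perp Q hQ, hV, hS]; omega)
  have hvs : QuadraticMap.polar (⇑Q) v s = 0 := (HypQuad.mem_perp Q).mp hs v (Submodule.mem_span_singleton_self v)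
  have hQy : Q (v + s) = Q v := by rw [QuadraticMap.map_add (f := Q), hQs, hvs]; ring
  obtain ⟨g, hg⟩ := Cfsg.Lib.Classical.Refl.exists_map Q hQ (a := v) (b := v + s) hv0
    (fun e => hQv (by rw [← hQy, e, QuadraticMap.map_zero])) hQy.symm
  obtain ⟨g', hg'Ω, hg'⟩ := Cfsg.Lib.Classical.Refl.exists_omega_agree Q hQ (by omega) (Submodule.span F {v})
    (by omega) g
  obtain ⟨π, hπ⟩ := hle ((mem_omegaGL Q _).mpr ⟨g', hg'Ω, rfl⟩)
  have hy : v + s ∈ D (π i₀) := by
    rw [← hπ i₀]
    exact ⟨v, hv, by rw [Matrix.toLin'_apply]; exact (hg' v (Submodule.mem_span_singleton_self v)).trans hg⟩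
  by_cases hj : π i₀ = i₀
  · rw [hj] at hy
    obtain ⟨c, hc⟩ := hline _ hy
    have hs' : s = (c - 1) • v := by rw [sub_smul, one_smul, ← hc, add_sub_cancel_left]
    rw [hs', QuadraticMap.polar_smul_right, QuadraticMap.polar_self] at hvs
    simp only [smul_eq_mul, nsmul_eq_mul, Nat.cast_ofNat, mul_eq_zero, h2, hQv, or_false] at hvs
    exact hs0 (by rw [hs', hvs, zero_smul])
  · have h := hD.orthogonal _ _ (fun e => hj e.symm) v hv _ hy
    rw [QuadraticMap.polar_add_right, hvs, add_zero, QuadraticMap.polar_self] at h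
    simp only [smul_eq_mul, nsmul_eq_mul, Nat.cast_ofNat, mul_eq_zero, h2, hQv, or_false] at h

include hQ in
theorem omega_not_le_subfieldSubgroup (h2 : (2 : F) ≠ 0) (hn : 7 ≤ Fintype.card ι) {F₀ : Subfield F}
    (hne : F₀ ≠ ⊤) (P : GL ι F) : ¬ omegaGL (⇑Q) ≤ subfieldSubgroup F₀ P := by
  intro hle
  classical
  haveI : Nonempty ι := Fintype.card_pos_iff.mp (by omega)
  obtain ⟨p, f, hp, hchar, hf0, hf⟩ := exists_char_card F
  haveI := Fact.mk hp
  obtain ⟨w, hw⟩ := exists_ne (0 : ι → F)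
  obtain ⟨u, -, hu, huw⟩ := Cfsg.Lib.Classical.Refl.exists_singular_partner Q hQ (nondeg_top Q hQ)
    (by rw [finrank_top, Module.finrank_fintype_fun_eq_card]; omega) (Submodule.mem_top (x := w)) hw
  obtain ⟨z, huz, hz⟩ := exists_perp_norm_one Q (by omega) hQ u
  have huzt : ∀ t : F, QuadraticMap.polar (⇑Q) u (t • z) = 0 := fun t => by
    rw [QuadraticMap.polar_smul_right, huz, smul_zero]
  set Pi' := ((P⁻¹ : GL ι F) : Matrix ι ι F)
  set Pm := (P : Matrix ι ι F)
  have hent : ∀ (t : F) i j, (Pi' *ᵥ siegelMap Q u (t • z) (Pm *ᵥ Pi.single j 1)) i ∈ F₀ := by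
    intro t i j
    set g : GL ι F := ((siegelG Q hu (huzt t) : Cfsg.isometryGroup F (⇑Q)) : GL ι F) with hg
    have hgΩ : g ∈ omegaGL (⇑Q) := (mem_omegaGL Q _).mpr ⟨_, siegelG_mem_omega Q hQ (by omega) hu (huzt t), rfl⟩
    obtain ⟨x, hx, hxe⟩ := Subgroup.mem_map.mp (hle hgΩ)
    obtain ⟨a, ha, hae⟩ := exists_scaled_entries hx
    have hgp : g ^ p = 1 := by
      have hpow : ∀ k : ℕ, (siegelG Q hu (huzt t)) ^ (k + 1) =
          siegelG Q hu (huzt (((k + 1 : ℕ) : F) * t)) := by
        intro k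
        induction k with
        | zero => simp
        | succ k ih =>
          rw [pow_succ, ih, Cfsg.Lib.Classical.Refl.siegelG_mul]
          congr 1
          rw [← add_smul]
          congr 1
          push_cast
          ring
      have h := hpow (p - 1)
      rw [Nat.sub_add_cancel hp.one_le, CharP.cast_eq_zero] at h
      rw [hg, ← Subgroup.coe_pow, h]
      refine Units.ext (Matrix.toLin'.injective (LinearMap.ext fun y => ?_))
      rw [Matrix.toLin'_apply, Matrix.toLin'_apply, Units.val_one, Matrix.one_mulVec]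
      exact (mat_siegelG Q hu (huzt (0 * t)) y).trans (by rw [zero_mul, zero_smul, Cfsg.Lib.Classical.Refl.siegel_zero])
    have hxg : x = P⁻¹ * g * P := by
      rw [← hxe, MulEquiv.coe_toMonoidHom, MulAut.conj_apply]
      simp [mul_assoc]
    have hxp : x ^ p = 1 := by
      rw [hxg, show P⁻¹ * g * P = P⁻¹ * g * (P⁻¹)⁻¹ by rw [inv_inv], conj_pow, hgp, mul_one, mul_inv_cancel]
    let A : Matrix ι ι F₀ := Matrix.of fun i j => ⟨_, hae i j⟩
    have hA : A.map (F₀.subtype : F₀ →+* F) = a • (x : Matrix ι ι F) := Matrix.ext fun i j => rfl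
    have hap : a ^ p ∈ F₀ := by
      have h1 : (A ^ p).map (F₀.subtype : F₀ →+* F) = a ^ p • (1 : Matrix ι ι F) := by
        rw [Matrix.map_pow, hA, _root_.smul_pow, ← Units.val_pow_eq_pow_val, hxp, Units.val_one]
      have h2' := congrFun (congrFun h1 (Classical.arbitrary ι)) (Classical.arbitrary ι)
      rw [Matrix.smul_apply, Matrix.one_apply_eq, smul_eq_mul, mul_one, Matrix.map_apply] at h2'
      rw [← h2']
      exact Subtype.mem _
    have haF : a ∈ F₀ := by
      haveI : CharP F₀ p := (F₀.subtype : F₀ →+* F).charP Subtype.val_injective p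
      haveI : Finite F₀ := Finite.of_injective _ Subtype.val_injective
      obtain ⟨b, hb⟩ := (bijective_frobenius F₀ p).2 ⟨a ^ p, hap⟩
      have hb' : (b : F) ^ p = a ^ p := congrArg Subtype.val hb
      rw [← frobenius_inj F p hb']
      exact b.2
    have hxe' : (Pi' *ᵥ ((g : Matrix ι ι F) *ᵥ (Pm *ᵥ Pi.single j 1))) i = (x : Matrix ι ι F) i j := by
      rw [hxg, Units.val_mul, Units.val_mul, Matrix.mulVec_mulVec, Matrix.mulVec_mulVec, Matrix.mulVec_single_one,
        mul_assoc]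
      rfl
    rw [← mat_siegelG Q hu (huzt t)]
    show (Pi' *ᵥ ((g : Matrix ι ι F) *ᵥ (Pm *ᵥ Pi.single j 1))) i ∈ F₀
    rw [hxe']
    have := div_mem (hae i j) haF
    rwa [mul_div_cancel_left₀ _ ha] at this
  let T : (ι → F) →ₗ[F] (ι → F) :=
    { toFun := fun x => QuadraticMap.polar (⇑Q) u x • z - QuadraticMap.polar (⇑Q) z x • u
      map_add' := fun x y => by
        funext i
        simp only [QuadraticMap.polar_add_right, Pi.add_apply, Pi.sub_apply, Pi.smul_apply, smul_eq_mul]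
        ring
      map_smul' := fun c x => by
        funext i
        simp only [QuadraticMap.polar_smul_right, RingHom.id_apply, Pi.sub_apply, Pi.smul_apply, smul_eq_mul]
        ring }
  have hT : ∀ (t : F) i j, t * (Pi' *ᵥ T (Pm *ᵥ Pi.single j 1)) i ∈ F₀ := by
    intro t i j
    have h := sub_mem (hent t i j) (hent (-t) i j)
    set y := Pm *ᵥ Pi.single j 1
    have e : siegelMap Q u (t • z) y - siegelMap Q u ((-t) • z) y = (2 * t) • T y := by
      funext i
      simp only [siegelMap, T, LinearMap.coe_mk, AddHom.coe_mk, Pi.add_apply, Pi.sub_apply, Pi.smul_apply,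
        smul_eq_mul, QuadraticMap.polar_smul_left, QuadraticMap.map_smul]
      ring
    rw [← Pi.sub_apply, ← Matrix.mulVec_sub, e, Matrix.mulVec_smul, Pi.smul_apply, smul_eq_mul] at h
    have h22 : (2 : F) ∈ F₀ := by rw [← one_add_one_eq_two]; exact add_mem (one_mem _) (one_mem _)
    have := div_mem h h22
    rwa [mul_assoc, mul_div_cancel_left₀ _ h2] at this
  obtain ⟨i, j, hij⟩ : ∃ i j, (Pi' *ᵥ T (Pm *ᵥ Pi.single j 1)) i ≠ 0 := by
    by_contra hc
    push Not at hc
    have hT0 : T ∘ₗ Matrix.toLin' Pm = 0 := (Pi.basisFun F ι).ext fun j => by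
      rw [Pi.basisFun_apply, LinearMap.comp_apply, Matrix.toLin'_apply, LinearMap.zero_apply]
      have := congrArg (fun v => Pm *ᵥ v) (funext fun i => hc i j : Pi' *ᵥ T (Pm *ᵥ Pi.single j 1) = 0)
      simpa [Pm, Pi', mulVec_inv_mulVec] using this
    have hTw := LinearMap.congr_fun hT0 (Pi' *ᵥ w)
    rw [LinearMap.comp_apply, Matrix.toLin'_apply, mulVec_inv_mulVec, LinearMap.zero_apply] at hTw
    change QuadraticMap.polar (⇑Q) u w • z - QuadraticMap.polar (⇑Q) z w • u = 0 at hTw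
    rw [huw, one_smul, sub_eq_zero] at hTw
    rw [hTw, QuadraticMap.map_smul, hu, smul_zero] at hz
    exact zero_ne_one hz
  refine hne (eq_top_iff.mpr fun x _ => ?_)
  have := hT (x / (Pi' *ᵥ T (Pm *ᵥ Pi.single j 1)) i) i j
  rwa [div_mul_cancel₀ _ hij] at this

end Cfsg.Lib.Classical.PrimeDim.Orth
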