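import Cfsg.Agent.Classical.PrimeDim.OrthMembers

/-! Subfield structures carrying a quadratic form, and forms twisted by an involution. -/

set_option autoImplicit false
set_option linter.unusedSimpArgs false
set_option linter.unusedSectionVars false
set_option linter.style.haveILetI false

namespace Cfsg.Lib.Classical.PrimeDim.Orth

open Matrix Cfsg.Geo
open scoped MatrixGroups

universe u

variable {ι : Type} [Fintype ι] [DecidableEq ι] {F : Type u} [Field F] [Fintype F] (Q : QuadraticForm F (ι → F))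
  (hQ : (QuadraticMap.polarBilin Q).Nondegenerate)

include hQ in
theorem quad_isSesq : IsSesq (RingEquiv.refl F) (QuadraticMap.polar (⇑Q)) where
  add_left x y v := QuadraticMap.polar_add_left Q x y v
  smul_left c x v := QuadraticMap.polar_smul_left Q c x v
  add_right v x y := QuadraticMap.polar_add_right Q v x y
  smul_right c v x := QuadraticMap.polar_smul_right Q c v x
  nondegenerate := fun w hw =>
    ⟨(nondeg_top Q hQ w Submodule.mem_top hw).1.imp fun _ h => h.2,
      (nondeg_top Q hQ w Submodule.mem_top hw).2.imp fun _ h => h.2⟩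

theorem gram_symm : (gramMatrix (QuadraticMap.polar (⇑Q)))ᵀ = gramMatrix (QuadraticMap.polar (⇑Q)) := by
  ext i j
  simp only [Matrix.transpose_apply, gramMatrix]
  exact QuadraticMap.polar_comm _ _ _

include hQ in
theorem isometry_transpose {g : GL ι F} (hg : ∀ x, Q ((g : Matrix ι ι F) *ᵥ x) = Q x) :
    (g : Matrix ι ι F)ᵀ * gramMatrix (QuadraticMap.polar (⇑Q)) * (g : Matrix ι ι F) =
      gramMatrix (QuadraticMap.polar (⇑Q)) := by
  have h := ((quad_isSesq Q hQ).fixes_iff (s := (g : Matrix ι ι F)) (1 : F)).mp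
    (fun u v => by rw [one_mul]; simp only [QuadraticMap.polar, ← Matrix.mulVec_add, hg])
  rw [one_smul] at h
  simpa using h

include hQ in
/-- A basis whose Gram matrix is, up to a scalar, defined over a subfield carries the form after scaling. -/
theorem scale_structure (h2 : (2 : F) ≠ 0) {m : ℕ} (hm : Fintype.card ι = 2 * m + 1)
    (hdisc : (gramMatrix (QuadraticMap.polar (⇑Q))).det = 2 ∨ (gramMatrix (QuadraticMap.polar (⇑Q))).det = -2)
    (F₁ : Subfield F) (B : GL ι F) {c : F} (hc : c ≠ 0)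
    (hG : ∀ i j, c * ((B : Matrix ι ι F)ᵀ * gramMatrix (QuadraticMap.polar (⇑Q)) * (B : Matrix ι ι F)) i j ∈ F₁) :
    ∃ μ : F, ∃ hμ : μ ≠ 0, IsQuadFormRationalStructure (⇑Q) F₁ (B * scalarGL hμ) := by
  set G := gramMatrix (QuadraticMap.polar (⇑Q))
  set Bm := (B : Matrix ι ι F)
  have h22 : (2 : F) ∈ F₁ := by rw [← one_add_one_eq_two]; exact add_mem (one_mem _) (one_mem _)
  set d := c ^ (2 * m + 1) * Bm.det ^ 2 with hd
  have hdmem : d ∈ F₁ := by
    let A : Matrix ι ι F₁ := Matrix.of fun i j => ⟨_, hG i j⟩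
    have hA : (c • (Bmᵀ * G * Bm)).det ∈ F₁ := by
      have e : A.map (F₁.subtype : F₁ →+* F) = c • (Bmᵀ * G * Bm) := Matrix.ext fun i j => rfl
      rw [← e, ← RingHom.mapMatrix_apply, ← RingHom.map_det]
      exact Subtype.mem _
    rw [Matrix.det_smul, Matrix.det_mul, Matrix.det_mul, Matrix.det_transpose, hm] at hA
    rcases hdisc with e | e
    · rw [e] at hA
      have := div_mem hA h22
      rwa [show c ^ (2 * m + 1) * (Bm.det * 2 * Bm.det) / 2 = d by rw [hd]; field_simp] at this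
    · rw [e] at hA
      have := div_mem hA (neg_mem h22)
      rwa [show c ^ (2 * m + 1) * (Bm.det * -2 * Bm.det) / -2 = d by rw [hd]; field_simp] at this
  have hB0 : Bm.det ≠ 0 := gl_det_ne_zero B
  have hd0 : d ≠ 0 := mul_ne_zero (pow_ne_zero _ hc) (pow_ne_zero _ hB0)
  set s := c ^ m * Bm.det with hs
  have hs0 : s ≠ 0 := mul_ne_zero (pow_ne_zero _ hc) hB0
  refine ⟨s⁻¹, inv_ne_zero hs0, fun u hu => ?_⟩
  rw [Units.val_mul, scalarGL_val, Matrix.mul_smul, mul_one, Matrix.smul_mulVec, QuadraticMap.map_smul, smul_eq_mul]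
  have hsum : c * QuadraticMap.polar (⇑Q) (Bm *ᵥ u) (Bm *ᵥ u) ∈ F₁ := by
    rw [(quad_isSesq Q hQ).apply_mulVec]
    simp only [RingEquiv.coe_refl, Matrix.map_id, dotProduct, Matrix.mulVec, Function.comp_apply, id_eq, Finset.mul_sum]
    refine sum_mem fun i _ => sum_mem fun j _ => ?_
    rw [show c * (u i * ((Bmᵀ * G * Bm) i j * u j)) = u i * (c * (Bmᵀ * G * Bm) i j) * u j by ring]
    exact mul_mem (mul_mem (hu i) (hG i j)) (hu j)
  rw [QuadraticMap.polar_self] at hsum
  have := div_mem (div_mem hsum h22) hdmem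
  convert this using 1
  rw [hd, hs]
  simp only [smul_eq_mul, nsmul_eq_mul, Nat.cast_ofNat]
  field_simp
  ring

include hQ in
/-- The normaliser of an absolutely irreducible group of isometries realisable over a proper subfield. -/
theorem orth_subfield (h2 : (2 : F) ≠ 0) {m : ℕ} (hm : Fintype.card ι = 2 * m + 1)
    (hdisc : (gramMatrix (QuadraticMap.polar (⇑Q))).det = 2 ∨ (gramMatrix (QuadraticMap.polar (⇑Q))).det = -2)
    {H P : Subgroup (GL ι F)} (hn : Normalises H P) (hP : ∀ g ∈ P, ∀ x, Q ((g : Matrix ι ι F) *ᵥ x) = Q x)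
    (hai : ActsAbsolutelyIrreducibly (matrixSet P)) {F₀ : Subfield F} (hne : F₀ ≠ ⊤)
    (hreal : RealisableOver F₀ (matrixSet P)) :
    ∃ (F₁ : Subfield F) (r : ℕ) (B : GL ι F), r.Prime ∧ Fintype.card F = Nat.card F₁ ^ r ∧ F₁ ≠ ⊤ ∧
      H ≤ subfieldSubgroup F₁ B ∧ IsQuadFormRationalStructure (⇑Q) F₁ B := by
  classical
  haveI : Nonempty ι := Fintype.card_pos_iff.mp (by omega)
  obtain ⟨F₁, r, B, hr, hcard, hle, hent⟩ := le_subfield_of_realisable hn hai hne hreal
  rw [Nat.card_eq_fintype_card] at hcard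
  have hF₁ : F₁ ≠ ⊤ := fun h => by
    rw [h, Nat.card_congr Subfield.topEquiv.toEquiv, Nat.card_eq_fintype_card] at hcard
    have h1 : Fintype.card F < Fintype.card F ^ r := lt_self_pow₀ Fintype.one_lt_card hr.one_lt
    omega
  set Bm : Matrix ι ι F := (B : Matrix ι ι F)
  set Bi : Matrix ι ι F := ((B⁻¹ : GL ι F) : Matrix ι ι F)
  set G := Bmᵀ * gramMatrix (QuadraticMap.polar (⇑Q)) * Bm with hGdef
  have hGdet : G.det ≠ 0 := by
    rw [hGdef, Matrix.det_mul, Matrix.det_mul, Matrix.det_transpose]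
    exact mul_ne_zero (mul_ne_zero (gl_det_ne_zero B) (quad_isSesq Q hQ).det_gram_ne_zero) (gl_det_ne_zero B)
  let GG : GL ι F := Matrix.GeneralLinearGroup.mkOfDetNeZero G hGdet
  set S : P → Matrix ι ι F := fun s => ((B⁻¹ * (s : GL ι F) * B : GL ι F) : Matrix ι ι F)
  have hS : ∀ s : P, (S s)ᵀ * G * S s = G := fun s => by
    have e : Bm * S s = ((s : GL ι F) : Matrix ι ι F) * Bm := by
      simp only [S, Bm, ← Units.val_mul]
      congr 1
      simp [mul_assoc]
    calc (S s)ᵀ * G * S s = (Bm * S s)ᵀ * gramMatrix (QuadraticMap.polar (⇑Q)) * (Bm * S s) := by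
          rw [hGdef, Matrix.transpose_mul]; simp only [mul_assoc]
      _ = Bmᵀ * ((((s : GL ι F) : Matrix ι ι F))ᵀ * gramMatrix (QuadraticMap.polar (⇑Q)) *
            ((s : GL ι F) : Matrix ι ι F)) * Bm := by
          rw [e, Matrix.transpose_mul]; simp only [mul_assoc]
      _ = G := by rw [isometry_transpose Q hQ (hP s s.2), hGdef]
  obtain ⟨c, hc0, hcG⟩ := scaled_intertwiner (F₀ := F₁) (α := P) (a := S) (b := fun s => (S s⁻¹)ᵀ) (g := GG)
    (fun M hM => by
      obtain ⟨c, hc⟩ := hai.2 (Bm * M * Bi) (forall_matrixSet.mpr fun g hg => by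
        have e : M * (Bi * (g : Matrix ι ι F) * Bm) = (Bi * (g : Matrix ι ι F) * Bm) * M := by
          have := hM ⟨g, hg⟩
          simpa only [S, Units.val_mul, Bi, Bm] using this
        calc Bm * M * Bi * (g : Matrix ι ι F) = Bm * (M * (Bi * (g : Matrix ι ι F) * Bm)) * Bi := by
              simp only [mul_assoc, show Bm * Bi = 1 from val_mul_inv B, mul_one]
          _ = (Bm * Bi) * (g : Matrix ι ι F) * (Bm * M * Bi) := by rw [e]; simp only [mul_assoc]
          _ = (g : Matrix ι ι F) * (Bm * M * Bi) := by rw [show Bm * Bi = 1 from val_mul_inv B, one_mul])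
      refine ⟨c, ?_⟩
      calc M = (Bi * Bm) * M * (Bi * Bm) := by rw [show Bi * Bm = 1 from val_inv_mul B, one_mul, mul_one]
        _ = Bi * (Bm * M * Bi) * Bm := by simp only [mul_assoc]
        _ = c • 1 := by rw [hc, Matrix.mul_smul, Matrix.smul_mul, mul_one, show Bi * Bm = 1 from val_inv_mul B])
    (fun s i j => hent _ s.2 i j) (fun s i j => hent _ (P.inv_mem s.2) j i)
    (fun s => by
      have e : (S s⁻¹)ᵀ * (S s)ᵀ = 1 := by
        rw [← Matrix.transpose_mul]
        simp only [S, ← Units.val_mul]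
        rw [show B⁻¹ * (s : GL ι F) * B * (B⁻¹ * ((s⁻¹ : P) : GL ι F) * B) = 1 by simp [mul_assoc],
          Units.val_one, Matrix.transpose_one]
      show G * S s = (S s⁻¹)ᵀ * G
      calc G * S s = (S s⁻¹)ᵀ * ((S s)ᵀ * G * S s) := by rw [← mul_assoc, ← mul_assoc, e, one_mul]
        _ = (S s⁻¹)ᵀ * G := by rw [hS s])
  change ∀ i j, c * G i j ∈ F₁ at hcG
  obtain ⟨μ, hμ, hμQ⟩ := scale_structure Q hQ h2 hm hdisc F₁ B hc0 hcG
  exact ⟨F₁, r, B * scalarGL hμ, hr, hcard, hF₁, (map_conj_scalar F₁ B hμ).symm ▸ hle, hμQ⟩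

/-- An absolutely irreducible group intertwined with its conjugate under an involution is realisable over the
fixed field. -/
theorem realisable_of_twist {σ : F ≃+* F} (hne : σ ≠ RingEquiv.refl F) (hinv : ∀ a, σ (σ a) = a) {m : ℕ}
    (hm : Fintype.card ι = 2 * m + 1) {P : Subgroup (GL ι F)} (hai : ActsAbsolutelyIrreducibly (matrixSet P))
    {A : Matrix ι ι F} (hAdet : A.det ≠ 0)
    (hint : ∀ g ∈ P, A * (g : Matrix ι ι F) = (g : Matrix ι ι F).map σ * A) :
    ∃ F₀ : Subfield F, F₀ ≠ ⊤ ∧ RealisableOver F₀ (matrixSet P) := by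
  classical
  haveI : Nonempty ι := Fintype.card_pos_iff.mp (by omega)
  have hmm : ∀ M : Matrix ι ι F, (M.map σ).map σ = M := fun M => by
    rw [Matrix.map_map, show (⇑σ ∘ ⇑σ) = id from funext hinv, Matrix.map_id]
  obtain ⟨ρ, hρ⟩ := hai.2 (A.map σ * A) (forall_matrixSet.mpr fun g hg => by
    have e := congrArg (fun X : Matrix ι ι F => X.map σ) (hint g hg)
    simp only [Matrix.map_mul, hmm] at e
    rw [mul_assoc, hint g hg, ← mul_assoc, e, mul_assoc])
  have hdetσ : (A.map σ).det = σ A.det := ((σ : F →+* F).map_det A).symm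
  have hρn : ρ ^ (2 * m + 1) = σ A.det * A.det := by
    have h := congrArg Matrix.det hρ
    rw [Matrix.det_mul, Matrix.det_smul, Matrix.det_one, mul_one, hm, hdetσ] at h
    exact h.symm
  have hρ0 : ρ ≠ 0 := fun e => by
    rw [e, zero_pow (by omega)] at hρn
    exact mul_ne_zero (fun h => hAdet (σ.injective (h.trans σ.map_zero.symm))) hAdet hρn.symm
  have hρσ : σ ρ = ρ := by
    have e2 : A * A.map σ = σ ρ • (1 : Matrix ι ι F) := by
      have := congrArg (fun X : Matrix ι ι F => X.map σ) hρ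
      simp only [Matrix.map_mul, hmm] at this
      rw [this]
      ext i j
      simp [Matrix.one_apply, apply_ite σ]
    have e3 := congrArg (fun X => A * X) hρ
    simp only [← mul_assoc, e2, Matrix.smul_mul, one_mul, Matrix.mul_smul, mul_one] at e3
    refine smul_left_injective F (fun e => hAdet ?_) e3
    rw [e, Matrix.det_zero]
  set μ := ρ ^ m / A.det with hμdef
  have hμ : μ * σ μ * ρ = 1 := by
    have hσA : σ A.det ≠ 0 := fun h => hAdet (σ.injective (h.trans σ.map_zero.symm))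
    rw [hμdef, map_div₀, map_pow, hρσ]
    field_simp
    linear_combination hρn
  let J : (ι → F) → (ι → F) := fun v => ⇑σ ∘ ((μ • A) *ᵥ v)
  have hJadd : ∀ v w, J (v + w) = J v + J w := fun v w => by
    funext i
    simp [J, Matrix.mulVec_add]
  have hJsmul : ∀ (a : F) v, J (a • v) = σ a • J v := fun a v => by
    funext i
    simp only [J, Function.comp_apply, Matrix.mulVec_smul, Pi.smul_apply, smul_eq_mul, map_mul]
  have hJJ : ∀ v, J (J v) = v := fun v => by
    simp only [J]
    rw [comp_mulVec σ (μ • A) (⇑σ ∘ _), show ⇑σ ∘ (⇑σ ∘ ((μ • A) *ᵥ v)) = (μ • A) *ᵥ v from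
      funext fun i => hinv _, Matrix.mulVec_mulVec, show (μ • A).map σ = σ μ • A.map σ by
        ext i j; simp, Matrix.smul_mul, Matrix.mul_smul, hρ, smul_smul, smul_smul, mul_comm (σ μ) μ, hμ,
      one_smul, Matrix.one_mulVec]
  have hJs : ∀ g ∈ P, ∀ v, J ((g : Matrix ι ι F) *ᵥ v) = (g : Matrix ι ι F) *ᵥ J v := by
    intro g hg v
    simp only [J, Matrix.mulVec_mulVec, Matrix.smul_mul]
    rw [hint g hg, ← Matrix.mul_smul, ← Matrix.mulVec_mulVec, comp_mulVec σ, hmm]
  let Fix : Subfield F := (σ : F →+* F).eqLocusField (RingHom.id F)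
  have hfix_mem : ∀ x, x ∈ Fix ↔ σ x = x := fun x => Iff.rfl
  obtain ⟨θ, hθ⟩ : ∃ θ, σ θ ≠ θ := by
    by_contra h
    push Not at h
    exact hne (RingEquiv.ext h)
  have hspan : Submodule.span F {v : ι → F | J v = v} = ⊤ := Submodule.eq_top_iff'.mpr fun v => by
    have h1 : v + J v ∈ Submodule.span F {v : ι → F | J v = v} := Submodule.subset_span (by
      show J _ = _; rw [hJadd, hJJ, add_comm])
    have h2 : θ • v + σ θ • J v ∈ Submodule.span F {v : ι → F | J v = v} := Submodule.subset_span (by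
      show J _ = _; rw [hJadd, hJsmul, hJsmul, hJJ, hinv, add_comm])
    have h3 := Submodule.smul_mem _ (θ - σ θ)⁻¹ (sub_mem h2 (Submodule.smul_mem _ (σ θ) h1))
    rwa [show θ • v + σ θ • J v - σ θ • (v + J v) = (θ - σ θ) • v by rw [smul_add, sub_smul]; abel, smul_smul,
      inv_mul_cancel₀ (sub_ne_zero.mpr hθ.symm), one_smul] at h3
  let b := Module.Basis.ofSpan hspan.ge
  haveI : Finite (LinearIndepOn.extend (linearIndepOn_empty F id) (Set.empty_subset {v : ι → F | J v = v})) :=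
    Subtype.finite
  letI := Fintype.ofFinite (LinearIndepOn.extend (linearIndepOn_empty F id) (Set.empty_subset {v : ι → F | J v = v}))
  have hcardb := Module.finrank_eq_card_basis b
  rw [finrank_pi_card] at hcardb
  let e := (Fintype.equivOfCardEq hcardb).symm
  let b' := b.reindex e
  have hb' : ∀ i, J (b' i) = b' i := fun i => by
    rw [Module.Basis.reindex_apply]
    exact Module.Basis.ofSpan_subset hspan.ge ⟨e.symm i, rfl⟩
  let P' : Matrix ι ι F := Matrix.of fun a j => b' j a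
  have hcol : ∀ u : ι → F, P' *ᵥ u = ∑ j, u j • b' j := fun u => by
    funext a
    simp [P', Matrix.mulVec, dotProduct, Finset.sum_apply, mul_comm]
  have hdet : P'.det ≠ 0 := by
    intro h0
    obtain ⟨u, hu, hu'⟩ := Matrix.exists_mulVec_eq_zero_iff.mpr h0
    rw [hcol] at hu'
    exact hu (funext fun j => Fintype.linearIndependent_iff.mp b'.linearIndependent u hu' j)
  let PG : GL ι F := Matrix.GeneralLinearGroup.mkOfDetNeZero P' hdet
  refine ⟨Fix, fun h => hθ ((hfix_mem θ).mp (h ▸ Subfield.mem_top θ)), PG⁻¹, forall_matrixSet.mpr fun g hg i j => ?_⟩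
  rw [inv_inv, hfix_mem]
  set u := ((PG⁻¹ : GL ι F) : Matrix ι ι F) *ᵥ ((g : Matrix ι ι F) *ᵥ b' j) with hu
  have hPu : P' *ᵥ u = (g : Matrix ι ι F) *ᵥ b' j := mulVec_inv_mulVec PG _
  have hJu : J (P' *ᵥ u) = P' *ᵥ (⇑σ ∘ u) := by
    rw [hcol, hcol]
    have hJsum : ∀ (s : Finset ι), J (∑ k ∈ s, u k • b' k) = ∑ k ∈ s, σ (u k) • b' k := by
      intro s
      induction s using Finset.induction_on with
      | empty => simpa using hJsmul 0 0
      | insert a s ha ih => rw [Finset.sum_insert ha, Finset.sum_insert ha, hJadd, ih, hJsmul, hb']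
    exact hJsum Finset.univ
  have hσu : ⇑σ ∘ u = u := by
    have h : P' *ᵥ (⇑σ ∘ u) = P' *ᵥ u := by rw [← hJu, hPu, hJs g hg, hb']
    have h' := congrArg (fun x => ((PG⁻¹ : GL ι F) : Matrix ι ι F) *ᵥ x) h
    simp only [show P' = (PG : Matrix ι ι F) from rfl, inv_mulVec_mulVec] at h'
    exact h'
  have hentry : (((PG⁻¹ : GL ι F) : Matrix ι ι F) * (g : Matrix ι ι F) * (PG : Matrix ι ι F)) i j = u i := by
    have : (PG : Matrix ι ι F) *ᵥ Pi.single j 1 = b' j := by rw [Matrix.mulVec_single_one]; rfl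
    rw [hu, ← this, Matrix.mulVec_mulVec, Matrix.mulVec_mulVec, Matrix.mulVec_single_one]
    rfl
  rw [hentry]
  exact congrFun hσu i

include hQ in
/-- A group of isometries fixing a unitary form is realisable over a proper subfield. -/
theorem realisable_of_unitary {m : ℕ} (hm : Fintype.card ι = 2 * m + 1) {P : Subgroup (GL ι F)}
    (hP : ∀ g ∈ P, ∀ x, Q ((g : Matrix ι ι F) *ᵥ x) = Q x) (hai : ActsAbsolutelyIrreducibly (matrixSet P))
    {σ : F ≃+* F} {f : (ι → F) → (ι → F) → F} (hf : IsUnitaryForm σ f) (hfix : FixesForm (matrixSet P) f) :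
    ∃ F₀ : Subfield F, F₀ ≠ ⊤ ∧ RealisableOver F₀ (matrixSet P) := by
  set G := gramMatrix (QuadraticMap.polar (⇑Q))
  set K := gramMatrix f
  have hK : K.det ≠ 0 := (IsSesq.of_unitary hf).det_gram_ne_zero
  have hG : G.det ≠ 0 := (quad_isSesq Q hQ).det_gram_ne_zero
  refine realisable_of_twist hf.ne_refl hf.involutive hm hai (A := K⁻¹ * G) ?_ (fun g hg => ?_)
  · rw [Matrix.det_mul, Matrix.det_nonsing_inv]
    exact mul_ne_zero (IsUnit.ne_zero (isUnit_iff_ne_zero.mpr hK).ringInverse) hG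
  · have hs := ((IsSesq.of_unitary hf).fixes_iff (s := (g : Matrix ι ι F)) (1 : F)).mp
      (fun u v => by rw [one_mul]; exact hfix _ (mem_matrixSet hg) u v)
    rw [one_smul] at hs
    have hq := isometry_transpose Q hQ (hP g hg)
    change (g : Matrix ι ι F)ᵀ * G * (g : Matrix ι ι F) = G at hq
    change (g : Matrix ι ι F)ᵀ * K * (g : Matrix ι ι F).map σ = K at hs
    have hKu : IsUnit K.det := isUnit_iff_ne_zero.mpr hK
    have hgT : IsUnit ((g : Matrix ι ι F)ᵀ * K) := by
      rw [Matrix.isUnit_iff_isUnit_det, Matrix.det_mul, Matrix.det_transpose]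
      exact (isUnit_iff_ne_zero.mpr (gl_det_ne_zero g)).mul hKu
    refine hgT.mul_left_cancel ?_
    calc (g : Matrix ι ι F)ᵀ * K * (K⁻¹ * G * (g : Matrix ι ι F))
        = (g : Matrix ι ι F)ᵀ * (K * K⁻¹) * G * (g : Matrix ι ι F) := by simp only [mul_assoc]
      _ = G := by rw [Matrix.mul_nonsing_inv _ hKu, mul_one, hq]
      _ = ((g : Matrix ι ι F)ᵀ * K * (g : Matrix ι ι F).map σ) * (K⁻¹ * G) := by
          rw [hs, ← mul_assoc, Matrix.mul_nonsing_inv _ hKu, one_mul]
      _ = (g : Matrix ι ι F)ᵀ * K * ((g : Matrix ι ι F).map σ * (K⁻¹ * G)) := by simp only [mul_assoc]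

end Cfsg.Lib.Classical.PrimeDim.Orth
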