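import Mathlib
import Cfsg.Prelude.Def_GeometricClasses

/-! Commutants of irreducible sets of matrices in prime dimension. -/

set_option autoImplicit false
set_option linter.unusedSimpArgs false
set_option linter.unusedSectionVars false
set_option linter.style.haveILetI false

namespace Cfsg.Lib.Classical.PrimeDim

open Matrix Cfsg.Geo
open scoped MatrixGroups

universe u

variable {ι : Type} [Fintype ι] [DecidableEq ι] {F : Type u} [Field F]

/-- `H` normalises `N` (one inclusion; `H` is a subgroup). -/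
def Normalises (H N : Subgroup (GL ι F)) : Prop := ∀ h ∈ H, ∀ g ∈ N, h * g * h⁻¹ ∈ N

theorem Normalises.inv {H N : Subgroup (GL ι F)} (hn : Normalises H N) {h g : GL ι F} (hh : h ∈ H)
    (hg : g ∈ N) : h⁻¹ * g * h ∈ N := by
  simpa using hn h⁻¹ (H.inv_mem hh) g hg

theorem Normalises.self (H : Subgroup (GL ι F)) : Normalises H H :=
  fun _ hh _ hg => H.mul_mem (H.mul_mem hh hg) (H.inv_mem hh)

theorem mem_matrixSet {R : Subgroup (GL ι F)} {g : GL ι F} (h : g ∈ R) : (g : Matrix ι ι F) ∈ matrixSet R :=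
  ⟨g, h, rfl⟩

theorem forall_matrixSet {R : Subgroup (GL ι F)} {p : Matrix ι ι F → Prop} :
    (∀ s ∈ matrixSet R, p s) ↔ ∀ g ∈ R, p (g : Matrix ι ι F) :=
  ⟨fun h g hg => h _ (mem_matrixSet hg), by rintro h _ ⟨g, hg, rfl⟩; exact h g hg⟩

theorem val_inv_mul (g : GL ι F) : ((g⁻¹ : GL ι F) : Matrix ι ι F) * (g : Matrix ι ι F) = 1 := by
  rw [← Units.val_mul, inv_mul_cancel, Units.val_one]

theorem val_mul_inv (g : GL ι F) : (g : Matrix ι ι F) * ((g⁻¹ : GL ι F) : Matrix ι ι F) = 1 := by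
  rw [← Units.val_mul, mul_inv_cancel, Units.val_one]

theorem inv_mulVec_mulVec (g : GL ι F) (v : ι → F) :
    ((g⁻¹ : GL ι F) : Matrix ι ι F) *ᵥ ((g : Matrix ι ι F) *ᵥ v) = v := by
  rw [Matrix.mulVec_mulVec, val_inv_mul, Matrix.one_mulVec]

theorem mulVec_inv_mulVec (g : GL ι F) (v : ι → F) :
    (g : Matrix ι ι F) *ᵥ (((g⁻¹ : GL ι F) : Matrix ι ι F) *ᵥ v) = v := by
  rw [Matrix.mulVec_mulVec, val_mul_inv, Matrix.one_mulVec]

theorem gl_mulVec_ne_zero (g : GL ι F) {v : ι → F} (hv : v ≠ 0) : (g : Matrix ι ι F) *ᵥ v ≠ 0 := by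
  intro h
  apply hv
  rw [← inv_mulVec_mulVec g v, h, Matrix.mulVec_zero]

/-- A subspace mapped into itself by every element of `N`. -/
def Invariant (N : Subgroup (GL ι F)) (W : Submodule F (ι → F)) : Prop :=
  ∀ g ∈ N, ∀ v ∈ W, (g : Matrix ι ι F) *ᵥ v ∈ W

theorem irreducible_iff (N : Subgroup (GL ι F)) :
    ActsIrreducibly (matrixSet N) ↔ ∀ W : Submodule F (ι → F), Invariant N W → W = ⊥ ∨ W = ⊤ := by
  refine forall_congr' fun W => imp_congr_left ?_
  rw [forall_matrixSet]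
  refine forall₂_congr fun g _ => ?_
  simp only [SetLike.le_def, Submodule.mem_map, forall_exists_index, and_imp, forall_apply_eq_imp_iff₂,
    Matrix.toLin'_apply]

theorem Invariant.mem_iff {N : Subgroup (GL ι F)} {W : Submodule F (ι → F)} (hW : Invariant N W)
    {g : GL ι F} (hg : g ∈ N) (v : ι → F) : v ∈ W ↔ (g : Matrix ι ι F) *ᵥ v ∈ W :=
  ⟨hW g hg v, fun h => inv_mulVec_mulVec g v ▸ hW g⁻¹ (N.inv_mem hg) _ h⟩

theorem Invariant.le_stabilizer {N : Subgroup (GL ι F)} {W : Submodule F (ι → F)} (hW : Invariant N W) :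
    N ≤ subspaceStabilizer W := fun _ hg v => hW.mem_iff hg v

/-- The commutant of a set of matrices. -/
def comm (S : Set (Matrix ι ι F)) : Subalgebra F (Matrix ι ι F) := Subalgebra.centralizer F S

theorem mem_comm {S : Set (Matrix ι ι F)} {M : Matrix ι ι F} : M ∈ comm S ↔ ∀ s ∈ S, M * s = s * M := by
  rw [comm, Subalgebra.mem_centralizer_iff]
  exact forall₂_congr fun _ _ => eq_comm

theorem mem_comm_matrixSet {N : Subgroup (GL ι F)} {M : Matrix ι ι F} :
    M ∈ comm (matrixSet N) ↔ ∀ g ∈ N, M * (g : Matrix ι ι F) = (g : Matrix ι ι F) * M := by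
  rw [mem_comm, forall_matrixSet]

theorem isUnit_of_mem_comm {S : Set (Matrix ι ι F)} (hS : ActsIrreducibly S) {M : Matrix ι ι F}
    (hM : M ∈ comm S) (h0 : M ≠ 0) : IsUnit M := by
  have hinv : ∀ s ∈ S, (LinearMap.ker (Matrix.toLin' M)).map (Matrix.toLin' s) ≤ LinearMap.ker (Matrix.toLin' M) := by
    intro s hs
    rintro _ ⟨v, hv, rfl⟩
    rw [SetLike.mem_coe, LinearMap.mem_ker, Matrix.toLin'_apply] at hv
    rw [LinearMap.mem_ker, Matrix.toLin'_apply, Matrix.toLin'_apply, Matrix.mulVec_mulVec,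
      mem_comm.mp hM s hs, ← Matrix.mulVec_mulVec, hv, Matrix.mulVec_zero]
  rcases hS _ hinv with h | h
  · rw [Matrix.ker_toLin'_eq_bot_iff] at h
    rw [Matrix.isUnit_iff_isUnit_det, isUnit_iff_ne_zero]
    intro hd
    obtain ⟨v, hv, hv'⟩ := Matrix.exists_mulVec_eq_zero_iff.mpr hd
    exact hv (h v hv')
  · rw [LinearMap.ker_eq_top] at h
    exact absurd (Matrix.toLin'.injective (by rw [h, map_zero])) h0

theorem comm_inv {S : Set (Matrix ι ι F)} (hS : ActsIrreducibly S) {M : Matrix ι ι F}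
    (hM : M ∈ comm S) (h0 : M ≠ 0) : ∃ y ∈ comm S, M * y = 1 := by
  obtain ⟨u, rfl⟩ := isUnit_of_mem_comm hS hM h0
  refine ⟨((u⁻¹ : GL ι F) : Matrix ι ι F), mem_comm.mpr fun s hs => ?_, val_mul_inv u⟩
  have h := mem_comm.mp hM s hs
  calc ((u⁻¹ : GL ι F) : Matrix ι ι F) * s
      = ((u⁻¹ : GL ι F) : Matrix ι ι F) * (s * (u : Matrix ι ι F)) * ((u⁻¹ : GL ι F) : Matrix ι ι F) := by
        rw [mul_assoc, mul_assoc, val_mul_inv, mul_one]
    _ = s * ((u⁻¹ : GL ι F) : Matrix ι ι F) := by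
        rw [← h, ← mul_assoc, val_inv_mul, one_mul]

/-- The commutant of an irreducible set is commutative (Wedderburn). -/
theorem comm_comm [Finite F] [Nonempty ι] {S : Set (Matrix ι ι F)} (hS : ActsIrreducibly S) {x y : Matrix ι ι F}
    (hx : x ∈ comm S) (hy : y ∈ comm S) : x * y = y * x := by
  haveI : Nontrivial (comm S) := ⟨⟨0, 1, fun h => zero_ne_one (congrArg Subtype.val h)⟩⟩
  haveI : Finite (comm S) := Finite.of_injective _ Subtype.val_injective
  haveI : NoZeroDivisors (comm S) := by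
    refine ⟨fun {a b} hab => ?_⟩
    by_contra hne
    push Not at hne
    obtain ⟨u, hu⟩ := isUnit_of_mem_comm hS a.2 (fun h => hne.1 (Subtype.ext h))
    refine hne.2 (Subtype.ext ?_)
    have := congrArg Subtype.val hab
    rw [MulMemClass.coe_mul, ← hu, ZeroMemClass.coe_zero] at this
    exact (Units.mul_right_eq_zero u).mp this
  haveI : IsDomain (comm S) := NoZeroDivisors.to_isDomain _
  exact congrArg Subtype.val ((Finite.isDomain_to_isField (comm S)).mul_comm ⟨x, hx⟩ ⟨y, hy⟩)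

theorem finrank_pi_card : Module.finrank F (ι → F) = Fintype.card ι := Module.finrank_fintype_fun_eq_card F

/-- Divisibility by exhausting the space with steps of equal dimension. -/
theorem dvd_card_of_steps [Finite F] (d : ℕ) (P : Submodule F (ι → F) → Prop) (h0 : P ⊥)
    (hstep : ∀ W, P W → W ≠ ⊤ → ∃ W', W < W' ∧ P W' ∧ Module.finrank F W' = Module.finrank F W + d) :
    d ∣ Fintype.card ι := by
  haveI : Finite (Submodule F (ι → F)) := Finite.of_injective _ SetLike.coe_injective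
  obtain ⟨W, hW, hmax⟩ := (Set.toFinite {W : Submodule F (ι → F) | P W ∧ d ∣ Module.finrank F W}).exists_maximal
    ⟨⊥, h0, by rw [finrank_bot]; exact dvd_zero d⟩
  by_cases hWt : W = ⊤
  · have := hW.2
    rwa [hWt, finrank_top, finrank_pi_card] at this
  · obtain ⟨W', hlt, hP, hd⟩ := hstep W hW.1 hWt
    exact absurd (hmax ⟨hP, hd ▸ dvd_add hW.2 (dvd_refl d)⟩ hlt.le) (not_le_of_gt hlt)

theorem finrank_sup_of_inf_bot {A B : Submodule F (ι → F)} (h : A ⊓ B = ⊥) :
    Module.finrank F ↥(A ⊔ B) = Module.finrank F A + Module.finrank F B := by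
  have := Submodule.finrank_sup_add_finrank_inf_eq A B
  rwa [h, finrank_bot, add_zero] at this

/-- The dimension of the commutant divides the degree. -/
theorem finrank_comm_dvd [Finite F] [Nonempty ι] {S : Set (Matrix ι ι F)} (hS : ActsIrreducibly S) :
    Module.finrank F (comm S) ∣ Fintype.card ι := by
  refine dvd_card_of_steps _ (fun W => ∀ k ∈ comm S, ∀ v ∈ W, k *ᵥ v ∈ W)
    (fun k _ v hv => by rw [(Submodule.mem_bot F).mp hv, Matrix.mulVec_zero]; exact zero_mem _) ?_
  intro W hW hWt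
  obtain ⟨v, hv⟩ : ∃ v, v ∉ W := by
    by_contra hc
    push Not at hc
    exact hWt (Submodule.eq_top_iff'.mpr hc)
  let ev : comm S →ₗ[F] (ι → F) :=
    { toFun := fun k => (k : Matrix ι ι F) *ᵥ v
      map_add' := fun a b => by simp [Matrix.add_mulVec]
      map_smul' := fun c a => by simp [Matrix.smul_mulVec] }
  have key : ∀ k : comm S, (k : Matrix ι ι F) *ᵥ v ∈ W → k = 0 := by
    intro k hk
    by_contra h0
    obtain ⟨y, hy, he⟩ := comm_inv hS k.2 (fun h => h0 (Subtype.ext h))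
    apply hv
    have := hW y hy _ hk
    rwa [Matrix.mulVec_mulVec, comm_comm hS hy k.2, he, Matrix.one_mulVec] at this
  have hinj : Function.Injective ev := (injective_iff_map_eq_zero ev).mpr fun k hk =>
    key k (by change ev k ∈ W; rw [hk]; exact zero_mem _)
  have hinf : W ⊓ LinearMap.range ev = ⊥ := by
    rw [eq_bot_iff]
    rintro _ ⟨hw, ⟨k, rfl⟩⟩
    rw [key k hw, map_zero]
    exact zero_mem _
  refine ⟨W ⊔ LinearMap.range ev, ?_, ?_, ?_⟩
  · refine lt_of_le_of_ne le_sup_left fun e => hv ?_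
    rw [e]
    exact Submodule.mem_sup_right ⟨1, by simp [ev]⟩
  · intro k hk w hw
    obtain ⟨a, ha, b, ⟨l, rfl⟩, rfl⟩ := Submodule.mem_sup.mp hw
    rw [Matrix.mulVec_add]
    refine Submodule.add_mem_sup (hW k hk a ha) ⟨⟨k, hk⟩ * l, ?_⟩
    simp [ev, Matrix.mulVec_mulVec]
  · rw [finrank_sup_of_inf_bot hinf, LinearMap.finrank_range_of_inj hinj]

theorem scalar_mem (S : Set (Matrix ι ι F)) (c : F) : c • (1 : Matrix ι ι F) ∈ comm S :=
  Subalgebra.smul_mem _ (one_mem _) c

/-- In prime degree the commutant of an irreducible set is the scalars or a field of full degree. -/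
theorem comm_cases [Finite F] (hn : (Fintype.card ι).Prime) {S : Set (Matrix ι ι F)}
    (hS : ActsIrreducibly S) :
    ActsAbsolutelyIrreducibly S ∨ IsFieldSubalgebra (Fintype.card ι) (comm S) := by
  haveI : Nonempty ι := Fintype.card_pos_iff.mp hn.pos
  rcases (Nat.dvd_prime hn).mp (finrank_comm_dvd hS) with h | h
  · left
    refine ⟨hS, fun M hM => ?_⟩
    obtain ⟨c, hc⟩ := (finrank_eq_one_iff_of_nonzero' (⟨1, one_mem _⟩ : comm S)
      (fun e => one_ne_zero (congrArg Subtype.val e))).mp h ⟨M, mem_comm.mpr hM⟩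
    exact ⟨c, (congrArg Subtype.val hc).symm⟩
  · exact Or.inr ⟨fun x hx y hy => comm_comm hS hx hy, fun x hx h0 => comm_inv hS hx h0, h⟩

section FieldSubalgebra

variable {K : Subalgebra F (Matrix ι ι F)} {r : ℕ}

theorem fieldSub_isUnit (hK : IsFieldSubalgebra r K) {k : Matrix ι ι F} (hk : k ∈ K) (h0 : k ≠ 0) :
    IsUnit k := by
  obtain ⟨y, hy, h⟩ := hK.inv k hk h0
  exact IsUnit.of_mul_eq_one y h

theorem fieldSub_orbit_surjective (hK : IsFieldSubalgebra (Fintype.card ι) K) {v : ι → F} (hv : v ≠ 0)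
    (w : ι → F) : ∃ k ∈ K, k *ᵥ v = w := by
  let ev : K →ₗ[F] (ι → F) :=
    { toFun := fun k => (k : Matrix ι ι F) *ᵥ v
      map_add' := fun a b => by simp [Matrix.add_mulVec]
      map_smul' := fun c a => by simp [Matrix.smul_mulVec] }
  have hinj : Function.Injective ev := by
    rw [← LinearMap.ker_eq_bot, eq_bot_iff]
    intro k hk
    rw [LinearMap.mem_ker] at hk
    by_contra h0
    obtain ⟨u, hu⟩ := fieldSub_isUnit hK k.2 (fun h => h0 ((Submodule.mem_bot F).mpr (Subtype.ext h)))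
    change (k : Matrix ι ι F) *ᵥ v = 0 at hk
    rw [← hu] at hk
    exact gl_mulVec_ne_zero u hv hk
  have hdim : Module.finrank F K = Module.finrank F (ι → F) := by
    rw [finrank_pi_card]; exact hK.finrank_eq
  obtain ⟨k, hk⟩ := (LinearMap.injective_iff_surjective_of_finrank_eq_finrank hdim).mp hinj w
  exact ⟨k, k.2, hk⟩

/-- A subfield of full degree is its own centraliser. -/
theorem fieldSub_centralizer [Nonempty ι] (hK : IsFieldSubalgebra (Fintype.card ι) K) {M : Matrix ι ι F}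
    (hM : ∀ k ∈ K, M * k = k * M) : M ∈ K := by
  obtain ⟨v, hv⟩ := exists_ne (0 : ι → F)
  obtain ⟨k, hk, hkv⟩ := fieldSub_orbit_surjective hK hv (M *ᵥ v)
  suffices M = k by rwa [this]
  apply Matrix.toLin'.injective
  refine LinearMap.ext fun w => ?_
  obtain ⟨l, hl, rfl⟩ := fieldSub_orbit_surjective hK hv w
  rw [Matrix.toLin'_apply, Matrix.toLin'_apply, Matrix.mulVec_mulVec, hM l hl, ← Matrix.mulVec_mulVec,
    ← hkv, Matrix.mulVec_mulVec, hK.comm l hl k hk, ← Matrix.mulVec_mulVec]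

theorem fieldSub_irreducible (hK : IsFieldSubalgebra (Fintype.card ι) K) :
    ActsIrreducibly (K : Set (Matrix ι ι F)) := by
  intro W hW
  refine or_iff_not_imp_left.mpr fun h => ?_
  obtain ⟨v, hv, hv0⟩ := (Submodule.ne_bot_iff W).mp h
  refine Submodule.eq_top_iff'.mpr fun w => ?_
  obtain ⟨k, hk, rfl⟩ := fieldSub_orbit_surjective hK hv0 w
  exact hW k hk ⟨v, hv, by rw [Matrix.toLin'_apply]⟩

end FieldSubalgebra

theorem conj_mem_comm {H N : Subgroup (GL ι F)} (hn : Normalises H N) {h : GL ι F} (hh : h ∈ H)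
    {M : Matrix ι ι F} (hM : M ∈ comm (matrixSet N)) :
    (h : Matrix ι ι F) * M * ((h⁻¹ : GL ι F) : Matrix ι ι F) ∈ comm (matrixSet N) := by
  rw [mem_comm_matrixSet] at hM ⊢
  intro g hg
  have hc := hM _ (hn.inv hh hg)
  rw [Units.val_mul, Units.val_mul] at hc
  calc (h : Matrix ι ι F) * M * ((h⁻¹ : GL ι F) : Matrix ι ι F) * (g : Matrix ι ι F)
      = (h : Matrix ι ι F) * (M * (((h⁻¹ : GL ι F) : Matrix ι ι F) * (g : Matrix ι ι F) * (h : Matrix ι ι F))) *
          ((h⁻¹ : GL ι F) : Matrix ι ι F) := by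
        simp only [mul_assoc]; rw [val_mul_inv, mul_one]
    _ = (g : Matrix ι ι F) * ((h : Matrix ι ι F) * M * ((h⁻¹ : GL ι F) : Matrix ι ι F)) := by
        rw [hc]; simp only [← mul_assoc]; rw [val_mul_inv, one_mul]

theorem le_subalgebraNormalizer_comm {H N : Subgroup (GL ι F)} (hn : Normalises H N) :
    H ≤ subalgebraNormalizer (comm (matrixSet N)) := by
  intro h hh M
  refine ⟨conj_mem_comm hn hh, fun hM => ?_⟩
  have := conj_mem_comm hn (H.inv_mem hh) hM
  rw [inv_inv] at this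
  simp only [mul_assoc] at this
  rwa [val_inv_mul, mul_one, ← mul_assoc, val_inv_mul, one_mul] at this

theorem mem_scalars_of_val_eq [Nonempty ι] {g : GL ι F} {c : F} (h : (g : Matrix ι ι F) = c • (1 : Matrix ι ι F)) :
    g ∈ scalars ι F := by
  have hc : c ≠ 0 := by
    rintro rfl
    rw [zero_smul] at h
    exact g.ne_zero h
  exact (mem_scalars_iff g).mpr ⟨Units.mk0 c hc, h⟩

theorem scalar_commute {s : GL ι F} (hs : s ∈ scalars ι F) (g : GL ι F) : s * g = g * s := by
  obtain ⟨c, hc⟩ := (mem_scalars_iff s).mp hs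
  refine Units.ext ?_
  rw [Units.val_mul, Units.val_mul, hc, Matrix.smul_mul, Matrix.mul_smul, Matrix.one_mul, Matrix.mul_one]

/-- Elements of `GL` centralising an absolutely irreducible subgroup are scalars. -/
theorem mem_scalars_of_commute [Nonempty ι] {N : Subgroup (GL ι F)} (hN : ActsAbsolutelyIrreducibly (matrixSet N))
    {g : GL ι F} (h : ∀ a ∈ N, g * a = a * g) : g ∈ scalars ι F := by
  obtain ⟨c, hc⟩ := hN.2 (g : Matrix ι ι F) (forall_matrixSet.mpr fun a ha => by
    rw [← Units.val_mul, ← Units.val_mul, h a ha])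
  exact mem_scalars_of_val_eq hc

end Cfsg.Lib.Classical.PrimeDim
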