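import Cfsg.Agent.Classical.PrimeDim.Members

/-! Over the field of four elements, the normaliser of a cubic field lies in a subfield group. -/

set_option autoImplicit false
set_option linter.unusedSimpArgs false
set_option linter.unusedSectionVars false
set_option linter.style.haveILetI false

namespace Cfsg.Lib.Classical.PrimeDim

open Matrix Cfsg.Geo
open scoped MatrixGroups

universe u

variable {ι : Type} [Fintype ι] [DecidableEq ι] {F : Type u} [Field F]

theorem singer_four [Fintype F] (h4 : Fintype.card F = 4) (hcard : Fintype.card ι = 3)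
    {H : Subgroup (GL ι F)} (hdet : H ≤ specialLinear ι F) {K : Subalgebra F (Matrix ι ι F)}
    (hK : IsFieldSubalgebra 3 K) (hn : H ≤ subalgebraNormalizer K) :
    ∃ (F₀ : Subfield F) (B : GL ι F), F₀ ≠ ⊤ ∧ Nat.card F₀ = 2 ∧ H ≤ subfieldSubgroup F₀ B := by
  classical
  haveI : Nonempty ι := Fintype.card_pos_iff.mp (by omega)
  have hK' : IsFieldSubalgebra (Fintype.card ι) K := hcard.symm ▸ hK
  obtain ⟨p, f, hp, hchar, hf0, hf⟩ := exists_char_card F
  rw [Nat.card_eq_fintype_card, h4] at hf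
  have hp2 : p = 2 := (Nat.prime_dvd_prime_iff_eq hp Nat.prime_two).mp
    (hp.dvd_of_dvd_pow (show p ∣ 2 ^ 2 by rw [show (2:ℕ) ^ 2 = p ^ f from hf]; exact dvd_pow_self p hf0.ne'))
  subst hp2
  haveI := Fact.mk Nat.prime_two
  have hc4 : ∀ c : F, c ^ 4 = c := fun c => h4 ▸ FiniteField.pow_card c
  have hadd : ∀ x : Matrix ι ι F, x + x = 0 := fun x => by
    ext i j; exact CharTwo.add_self_eq_zero _
  -- the multiplicative group of `K`
  let U : Subgroup (GL ι F) :=
    { carrier := {g | (g : Matrix ι ι F) ∈ K}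
      mul_mem' := fun ha hb => by rw [Set.mem_setOf_eq, Units.val_mul]; exact mul_mem ha hb
      one_mem' := one_mem K
      inv_mem' := fun {g} hg => by
        obtain ⟨y, hy, he⟩ := hK.inv _ hg g.ne_zero
        rw [Set.mem_setOf_eq, show ((g⁻¹ : GL ι F) : Matrix ι ι F) = y from Units.inv_eq_of_mul_eq_one_right he]
        exact hy }
  have hUcard : Nat.card U = 63 := by
    let e : Option U → K := fun o => match o with
      | none => 0
      | some u => ⟨((u : GL ι F) : Matrix ι ι F), u.2⟩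
    have he : Function.Bijective e := by
      constructor
      · rintro (_ | a) (_ | b) h
        · rfl
        · exact absurd (congrArg Subtype.val h).symm (Units.ne_zero _)
        · exact absurd (congrArg Subtype.val h) (Units.ne_zero _)
        · exact congrArg some (Subtype.ext (Units.ext (congrArg (fun x : K => (x : Matrix ι ι F)) h)))
      · rintro ⟨x, hx⟩
        by_cases h0 : x = 0
        · exact ⟨none, Subtype.ext h0.symm⟩
        · obtain ⟨u, hu⟩ := fieldSub_isUnit hK hx h0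
          exact ⟨some ⟨u, show (u : Matrix ι ι F) ∈ K by rw [hu]; exact hx⟩, Subtype.ext hu⟩
    have h1 := Nat.card_eq_of_bijective e he
    rw [Finite.card_option, Module.natCard_eq_pow_finrank (K := F) (V := K), hK.finrank_eq,
      Nat.card_eq_fintype_card (α := F), h4] at h1
    omega
  obtain ⟨ω, hω0, hω1⟩ : ∃ ω : F, ω ≠ 0 ∧ ω ≠ 1 := by
    have : 2 < (Finset.univ : Finset F).card := by rw [Finset.card_univ, h4]; norm_num
    obtain ⟨a, -, b, -, c, -, hab, hac, hbc⟩ := Finset.two_lt_card.mp this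
    by_cases ha : a ≠ 0 ∧ a ≠ 1
    · exact ⟨a, ha⟩
    by_cases hb : b ≠ 0 ∧ b ≠ 1
    · exact ⟨b, hb⟩
    refine ⟨c, ?_, ?_⟩ <;> intro hc <;> grind
  have hω2 : ω ^ 2 + ω + 1 = 0 := by
    have h : (ω ^ 2 + ω + 1) * (ω * (ω - 1)) = 0 := by linear_combination hc4 ω
    exact (mul_eq_zero.mp h).resolve_right (mul_ne_zero hω0 (sub_ne_zero.mpr hω1))
  have hzero : ∀ x ∈ K, ∀ y : Matrix ι ι F, x * y = 0 → x = 0 ∨ y = 0 := by
    intro x hx y h
    by_cases h0 : x = 0
    · exact Or.inl h0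
    · obtain ⟨u, hu⟩ := fieldSub_isUnit hK hx h0
      rw [← hu] at h
      exact Or.inr ((Units.mul_right_eq_zero u).mp h)
  have hsm : ∀ c : F, c • (1 : Matrix ι ι F) ∈ K := fun c => Subalgebra.smul_mem _ (one_mem _) c
  have hcube : ∀ x ∈ K, x ^ 3 = 1 → ∃ c : F, x = c • 1 := by
    intro x hx h
    have hprod : (x - 1) * ((x - ω • 1) * (x - (ω ^ 2) • 1)) = 0 := by
      have e : (x - ω • 1) * (x - (ω ^ 2) • 1) = x ^ 2 - (ω + ω ^ 2) • x + (ω ^ 3) • (1 : Matrix ι ι F) := by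
        simp only [sub_mul, mul_sub, Matrix.smul_mul, Matrix.mul_smul, one_mul, mul_one, smul_smul, pow_two]
        rw [show ω ^ 3 = ω * ω * ω by ring, add_smul]
        abel
      have h2 : ω + ω ^ 2 = -1 := by linear_combination hω2
      have h3 : ω ^ 3 = 1 := by linear_combination (ω - 1) * hω2
      rw [e, h2, h3, one_smul, neg_smul, one_smul, sub_neg_eq_add]
      calc (x - 1) * (x ^ 2 + x + 1) = x ^ 3 - 1 := by noncomm_ring
        _ = 0 := by rw [h, sub_self]
    rcases hzero _ (sub_mem hx (one_mem K)) _ hprod with e | e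
    · exact ⟨1, by rw [one_smul]; exact sub_eq_zero.mp e⟩
    rcases hzero _ (sub_mem hx (hsm ω)) _ e with e | e
    · exact ⟨ω, sub_eq_zero.mp e⟩
    · exact ⟨ω ^ 2, sub_eq_zero.mp e⟩
  -- determinant kernel
  let δ : U →* Fˣ := Matrix.GeneralLinearGroup.det.comp U.subtype
  have hδne : ¬ ∀ u : U, δ u = 1 := by
    intro hall
    obtain ⟨k, hk, hknot⟩ : ∃ k ∈ K, ∀ c : F, k ≠ c • 1 := by
      by_contra hc
      push Not at hc
      have : Module.finrank F K = 1 := (finrank_eq_one_iff_of_nonzero' (⟨1, one_mem _⟩ : K)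
        (fun e => one_ne_zero (congrArg Subtype.val e))).mpr fun k => by
          obtain ⟨c, hc⟩ := hc k k.2
          exact ⟨c, Subtype.ext hc.symm⟩
      rw [hK.finrank_eq] at this
      omega
    have hd : ∀ c : F, (Matrix.charpoly k).eval c = 1 := fun c => by
      have hne : c • 1 - k ≠ 0 := sub_ne_zero.mpr (hknot c).symm
      obtain ⟨u, hu⟩ := fieldSub_isUnit hK (sub_mem (hsm c) hk) hne
      have h1 : (u : Matrix ι ι F).det = 1 :=
        congrArg Units.val (hall ⟨u, show (u : Matrix ι ι F) ∈ K by rw [hu]; exact sub_mem (hsm c) hk⟩)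
      rw [Matrix.eval_charpoly, Matrix.scalar_apply, ← Matrix.smul_one_eq_diagonal, ← hu, h1]
    have hdeg : (Matrix.charpoly k - 1).natDegree ≤ 3 := by
      refine (Polynomial.natDegree_sub_le _ _).trans ?_
      rw [Matrix.charpoly_natDegree_eq_dim, hcard, Polynomial.natDegree_one]
      norm_num
    have h0 : Matrix.charpoly k - 1 = 0 := Polynomial.eq_zero_of_natDegree_lt_card_of_eval_eq_zero _
      Function.injective_id (fun c => by rw [Polynomial.eval_sub, id, hd, Polynomial.eval_one, sub_self])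
      (by rw [h4]; omega)
    have := Matrix.charpoly_natDegree_eq_dim k
    rw [sub_eq_zero.mp h0, Polynomial.natDegree_one, hcard] at this
    omega
  have hker : Nat.card δ.ker = 21 := by
    have h3 : Nat.card Fˣ = 3 := by rw [Nat.card_units, Nat.card_eq_fintype_card, h4]
    have hrange : Nat.card δ.range = 3 := by
      rcases (Nat.dvd_prime Nat.prime_three).mp (h3 ▸ Subgroup.card_subgroup_dvd_card δ.range) with h | h
      · exact absurd (fun u => Subgroup.mem_bot.mp (Subgroup.card_eq_one.mp h ▸ (⟨u, rfl⟩ : δ u ∈ δ.range))) hδne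
      · exact h
    have := δ.ker.card_mul_index
    rw [Subgroup.index_ker, hrange, hUcard] at this
    omega
  have hsplit : ∀ a : GL ι F, (a : Matrix ι ι F) ∈ K → (a : Matrix ι ι F).det = 1 →
      ∃ c : F, ∃ k ∈ K, k ^ 8 = k ∧ (a : Matrix ι ι F) = c • k := by
    intro a ha hda
    have hm : (⟨a, ha⟩ : U) ∈ δ.ker := Units.ext hda
    have h21 := pow_card_eq_one' (x := (⟨⟨a, ha⟩, hm⟩ : δ.ker))
    rw [hker] at h21
    have e21 : (a : Matrix ι ι F) ^ 21 = 1 := by
      have := congrArg (fun x : δ.ker => (((x : U) : GL ι F) : Matrix ι ι F)) h21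
      simpa using this
    obtain ⟨c, hc⟩ := hcube _ (pow_mem ha 7) (by rw [← pow_mul]; exact e21)
    refine ⟨c, (a : Matrix ι ι F) ^ 15, pow_mem ha 15, ?_, ?_⟩
    · rw [← pow_mul, show 15 * 8 = 21 * 5 + 15 from rfl, pow_add, pow_mul, e21, one_pow, one_mul]
    · calc (a : Matrix ι ι F) = (a : Matrix ι ι F) ^ 7 * (a : Matrix ι ι F) ^ 15 := by
            rw [← pow_add, pow_succ, e21, one_mul]
        _ = c • (a : Matrix ι ι F) ^ 15 := by rw [hc, Matrix.smul_mul, one_mul]
  -- an element of order seven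
  obtain ⟨θU, hθ⟩ := exists_prime_orderOf_dvd_card' (G := U) 7 (hp := ⟨by norm_num⟩) (by rw [hUcard]; norm_num)
  set θ : Matrix ι ι F := ((θU : GL ι F) : Matrix ι ι F) with hθdef
  have hθK : θ ∈ K := θU.2
  have hθ7 : θ ^ 7 = 1 := by
    have := congrArg (fun x : U => ((x : GL ι F) : Matrix ι ι F)) (hθ ▸ pow_orderOf_eq_one θU)
    simpa [hθdef] using this
  have hθ1 : θ ≠ 1 := fun e => by
    have : θU = 1 := Subtype.ext (Units.ext e)
    rw [this, orderOf_one] at hθ
    omega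
  have hθ3 : θ ^ 3 ≠ 1 := fun e => hθ1 (by
    calc θ = θ ^ 7 * θ := by rw [hθ7, one_mul]
      _ = θ ^ 3 * θ ^ 3 * θ ^ 2 := by rw [← pow_succ, ← pow_add, ← pow_add]
      _ = θ ^ 2 := by rw [e, one_mul, one_mul]
      _ = θ ^ 2 * θ ^ 7 := by rw [hθ7, mul_one]
      _ = (θ ^ 3) ^ 3 := by rw [← pow_add, ← pow_mul]
      _ = 1 := by rw [e, one_pow])
  have hsq : ∀ x ∈ K, ∀ y ∈ K, (x + y) ^ 2 = x ^ 2 + y ^ 2 := by
    intro x hx y hy
    rw [pow_two, pow_two, pow_two, mul_add, add_mul, add_mul, hK.comm y hy x hx]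
    calc x * x + x * y + (x * y + y * y) = x * x + y * y + (x * y + x * y) := by abel
      _ = x * x + y * y := by rw [hadd, add_zero]
  have hsq8 : ∀ x ∈ K, ∀ y ∈ K, (x + y) ^ 8 = x ^ 8 + y ^ 8 := by
    intro x hx y hy
    have h1 := hsq x hx y hy
    have h2 := hsq _ (pow_mem hx 2) _ (pow_mem hy 2)
    have h3 := hsq _ (pow_mem (pow_mem hx 2) 2) _ (pow_mem (pow_mem hy 2) 2)
    calc (x + y) ^ 8 = (((x + y) ^ 2) ^ 2) ^ 2 := by rw [← pow_mul, ← pow_mul]
      _ = ((x ^ 2) ^ 2) ^ 2 + ((y ^ 2) ^ 2) ^ 2 := by rw [h1, h2, h3]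
      _ = x ^ 8 + y ^ 8 := by rw [← pow_mul, ← pow_mul, ← pow_mul, ← pow_mul]
  have hindep : ∀ g : Fin 3 → F, g 0 • (1 : Matrix ι ι F) + g 1 • θ + g 2 • θ ^ 2 = 0 → ∀ i, g i = 0 := by
    intro g hg
    have hnotscalar : ∀ c : F, θ ≠ c • 1 := by
      intro c hc
      have hc0 : c ≠ 0 := fun e => θU.1.ne_zero (by rw [← hθdef, hc, e, zero_smul])
      apply hθ3
      have : c ^ 3 = 1 := mul_left_cancel₀ hc0 (by rw [← pow_succ', hc4, mul_one])
      rw [hc, _root_.smul_pow, one_pow, this, one_smul]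
    by_cases h2 : g 2 = 0
    · rw [h2, zero_smul, add_zero] at hg
      by_cases h1 : g 1 = 0
      · rw [h1, zero_smul, add_zero] at hg
        have h0 : g 0 = 0 := (smul_eq_zero.mp hg).resolve_right one_ne_zero
        intro i; fin_cases i <;> assumption
      · exfalso
        refine hnotscalar (-(g 0 / g 1)) ?_
        have := congrArg (fun M => (g 1)⁻¹ • M) hg
        simp only [smul_add, smul_smul, inv_mul_cancel₀ h1, one_smul, smul_zero] at this
        rw [eq_neg_of_add_eq_zero_right this, neg_smul, div_eq_inv_mul]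
    · exfalso
      set a := g 0 / g 2 with ha
      set b := g 1 / g 2 with hb
      have hquad : θ ^ 2 = a • (1 : Matrix ι ι F) + b • θ := by
        have := congrArg (fun M => (g 2)⁻¹ • M) hg
        simp only [smul_add, smul_smul, inv_mul_cancel₀ h2, one_smul, smul_zero] at this
        rw [show a • (1 : Matrix ι ι F) + b • θ = -(a • (1 : Matrix ι ι F) + b • θ) by
          rw [eq_neg_iff_add_eq_zero]; exact hadd _]
        refine eq_neg_of_add_eq_zero_right ?_
        rw [ha, hb, div_eq_inv_mul, div_eq_inv_mul]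
        exact this
      have h4' : (θ ^ 4) ^ 2 = a • (1 : Matrix ι ι F) + b • θ ^ 4 := by
        calc (θ ^ 4) ^ 2 = ((θ ^ 2) ^ 2) ^ 2 := by rw [← pow_mul, ← pow_mul, ← pow_mul]
          _ = ((a • (1 : Matrix ι ι F) + b • θ) ^ 2) ^ 2 := by rw [hquad]
          _ = (a ^ 2) ^ 2 • (1 : Matrix ι ι F) + (b ^ 2) ^ 2 • (θ ^ 2) ^ 2 := by
              rw [hsq _ (hsm a) _ (Subalgebra.smul_mem _ hθK b), _root_.smul_pow, _root_.smul_pow, one_pow,
                hsq _ (hsm _) _ (Subalgebra.smul_mem _ (pow_mem hθK 2) _), _root_.smul_pow, _root_.smul_pow, one_pow]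
          _ = a • (1 : Matrix ι ι F) + b • θ ^ 4 := by rw [← pow_mul, ← pow_mul, ← pow_mul, hc4, hc4]
      have hfac : (θ ^ 4 + θ) * (θ ^ 4 + θ + b • 1) = 0 := by
        have hc : θ ^ 4 * θ = θ * θ ^ 4 := (Commute.pow_self θ 4).eq
        calc (θ ^ 4 + θ) * (θ ^ 4 + θ + b • 1)
            = (θ ^ 4) ^ 2 + θ ^ 2 + b • θ ^ 4 + b • θ + (θ ^ 4 * θ + θ * θ ^ 4) := by
              simp only [add_mul, mul_add, Matrix.mul_smul, mul_one, pow_two]; abel
          _ = (a • (1 : Matrix ι ι F) + a • 1) + (b • θ ^ 4 + b • θ ^ 4) + (b • θ + b • θ) := by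
              rw [hc, hadd, add_zero, h4', hquad]; abel
          _ = 0 := by simp only [hadd, add_zero]
      have hneg : ∀ x y : Matrix ι ι F, x + y = 0 → x = y := fun x y h => by
        rw [eq_neg_of_add_eq_zero_left h, neg_eq_iff_add_eq_zero]; exact hadd y
      rcases hzero _ (add_mem (pow_mem hθK 4) hθK) _ hfac with e | e
      · apply hθ3
        have h1 := hneg _ _ e
        exact θU.1.isUnit.mul_left_cancel (by rw [← hθdef, ← pow_succ', h1, mul_one])
      · have h1 : θ ^ 4 = θ + b • 1 := hneg _ _ (by rw [← e]; abel)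
        have h2' : θ ^ 16 = θ := by
          calc θ ^ 16 = ((θ ^ 4) ^ 2) ^ 2 := by rw [← pow_mul, ← pow_mul]
            _ = (θ ^ 2) ^ 2 + (b ^ 2) ^ 2 • (1 : Matrix ι ι F) := by
                rw [h1, hsq _ hθK _ (hsm b), _root_.smul_pow, one_pow, hsq _ (pow_mem hθK 2) _ (hsm _),
                  _root_.smul_pow, one_pow]
            _ = θ := by
                rw [← pow_mul, ← pow_mul, hc4, h1, add_assoc, hadd, add_zero]
        apply hθ1
        rw [show 16 = 7 + 7 + 2 from rfl, pow_add, pow_add, hθ7, one_mul, one_mul, pow_two] at h2'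
        exact θU.1.isUnit.mul_left_cancel (by rw [← hθdef, mul_one]; exact h2')
  obtain ⟨v₀, hv₀⟩ := exists_ne (0 : ι → F)
  let e3 : ι ≃ Fin 3 := Fintype.equivFinOfCardEq hcard
  let P : Matrix ι ι F := Matrix.of fun i j => ((θ ^ (e3 j : ℕ)) *ᵥ v₀) i
  have hPcol : ∀ j, P *ᵥ Pi.single j 1 = (θ ^ (e3 j : ℕ)) *ᵥ v₀ := fun j => by
    rw [Matrix.mulVec_single_one]; rfl
  have hPu : ∀ u : ι → F, P *ᵥ u = (∑ j : Fin 3, u (e3.symm j) • θ ^ (j : ℕ)) *ᵥ v₀ := by
    intro u
    rw [Matrix.sum_mulVec, ← Equiv.sum_comp e3]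
    funext i
    simp only [Matrix.mulVec, dotProduct, P, Matrix.of_apply, Finset.sum_apply, Equiv.symm_apply_apply,
      Matrix.smul_apply, smul_eq_mul]
    refine Finset.sum_congr rfl fun k _ => ?_
    rw [Finset.sum_mul]
    exact Finset.sum_congr rfl fun l _ => by ring
  have hPdet : P.det ≠ 0 := by
    intro h0
    obtain ⟨u, hu, hu'⟩ := Matrix.exists_mulVec_eq_zero_iff.mpr h0
    rw [hPu] at hu'
    have hsum : (∑ j : Fin 3, u (e3.symm j) • θ ^ (j : ℕ)) = 0 := by
      by_contra hne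
      obtain ⟨w, hw⟩ := fieldSub_isUnit hK
        (sum_mem fun j _ => Subalgebra.smul_mem _ (pow_mem hθK _) _) hne
      rw [← hw] at hu'
      exact gl_mulVec_ne_zero w hv₀ hu'
    rw [Fin.sum_univ_three] at hsum
    simp only [Fin.val_zero, pow_zero, Fin.val_one, pow_one, Fin.val_two] at hsum
    apply hu
    funext i
    simpa using hindep (fun j => u (e3.symm j)) hsum (e3 i)
  let PG : GL ι F := Matrix.GeneralLinearGroup.mkOfDetNeZero P hPdet
  have hcoord : ∀ x ∈ K, x ^ 8 = x → ∀ i, (((PG⁻¹ : GL ι F) : Matrix ι ι F) *ᵥ (x *ᵥ v₀)) i ∈ powField F 2 1 := by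
    intro x hx hx8
    set u := ((PG⁻¹ : GL ι F) : Matrix ι ι F) *ᵥ (x *ᵥ v₀) with hu
    have hPx : P *ᵥ u = x *ᵥ v₀ := mulVec_inv_mulVec PG _
    rw [hPu] at hPx
    set s := ∑ j : Fin 3, u (e3.symm j) • θ ^ (j : ℕ) with hs
    have hsK : s ∈ K := sum_mem fun j _ => Subalgebra.smul_mem _ (pow_mem hθK _) _
    have hsx : s = x := by
      by_contra hne
      obtain ⟨w, hw⟩ := fieldSub_isUnit hK (sub_mem hsK hx) (sub_ne_zero.mpr hne)
      have hz : (w : Matrix ι ι F) *ᵥ v₀ = 0 := by rw [hw, Matrix.sub_mulVec, hPx, sub_self]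
      exact gl_mulVec_ne_zero w hv₀ hz
    have hθ8 : θ ^ 8 = θ := by rw [pow_succ, hθ7, one_mul]
    have hc8 : ∀ c : F, c ^ 8 = c ^ 2 := fun c => by
      calc c ^ 8 = (c ^ 4) ^ 2 := by ring
        _ = c ^ 2 := by rw [hc4]
    have hexp : s ^ 8 = (u (e3.symm 0)) ^ 2 • (1 : Matrix ι ι F) + (u (e3.symm 1)) ^ 2 • θ + (u (e3.symm 2)) ^ 2 • θ ^ 2 := by
      have m0 : u (e3.symm 0) • (1 : Matrix ι ι F) ∈ K := hsm _
      have m1 : u (e3.symm 1) • θ ∈ K := Subalgebra.smul_mem _ hθK _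
      have m2 : u (e3.symm 2) • θ ^ 2 ∈ K := Subalgebra.smul_mem _ (pow_mem hθK 2) _
      rw [hs, Fin.sum_univ_three]
      simp only [Fin.val_zero, pow_zero, Fin.val_one, pow_one, Fin.val_two]
      rw [hsq8 _ (add_mem m0 m1) _ m2, hsq8 _ m0 _ m1, _root_.smul_pow, _root_.smul_pow, _root_.smul_pow, one_pow,
        hc8, hc8, hc8, hθ8, ← pow_mul, mul_comm 2 8, pow_mul, hθ8]
    have hs0 : s = (u (e3.symm 0)) • (1 : Matrix ι ι F) + (u (e3.symm 1)) • θ + (u (e3.symm 2)) • θ ^ 2 := by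
      rw [hs, Fin.sum_univ_three]; simp [Fin.val_two]
    have hdiff := hindep (fun j => (u (e3.symm j)) ^ 2 - u (e3.symm j)) (by
      have e : s ^ 8 = s := by rw [hsx, hx8]
      rw [hexp] at e
      nth_rewrite 1 [hs0] at e
      simp only [sub_smul]
      rw [← sub_eq_zero] at e
      rw [← e]
      abel)
    intro i
    refine mem_powField.mpr ?_
    have := hdiff (e3 i)
    simp only [Equiv.symm_apply_apply, sub_eq_zero] at this
    rw [pow_one]
    exact this
  refine ⟨powField F 2 1, PG, fun h => ?_, ?_, fun h hh => ?_⟩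
  · have := card_powField (F := F) (p := 2) (m := 1) (f := 2) one_pos
      (by rw [Nat.card_eq_fintype_card, h4]; rfl) ⟨2, rfl⟩
    rw [h, Nat.card_congr Subfield.topEquiv.toEquiv, Nat.card_eq_fintype_card, h4] at this
    norm_num at this
  · rw [card_powField one_pos (by rw [Nat.card_eq_fintype_card, h4]; rfl : Nat.card F = 2 ^ 2) ⟨2, rfl⟩, pow_one]
  obtain ⟨a₀, ha₀K, ha₀⟩ := fieldSub_orbit_surjective hK' hv₀ ((h : Matrix ι ι F) *ᵥ v₀)
  have ha₀ne : a₀ ≠ 0 := fun e => gl_mulVec_ne_zero h hv₀ (by rw [← ha₀, e, Matrix.zero_mulVec])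
  obtain ⟨a, hau⟩ := fieldSub_isUnit hK ha₀K ha₀ne
  have haK : (a : Matrix ι ι F) ∈ K := hau ▸ ha₀K
  let col : ι → Matrix ι ι F := fun j => (h : Matrix ι ι F) * θ ^ (e3 j : ℕ) * ((h⁻¹ : GL ι F) : Matrix ι ι F)
  have hcolK : ∀ j, col j ∈ K := fun j => (hn hh _).mp (pow_mem hθK _)
  have hconj8 : ∀ x : Matrix ι ι F, x ^ 8 = x →
      ((h : Matrix ι ι F) * x * ((h⁻¹ : GL ι F) : Matrix ι ι F)) ^ 8 = (h : Matrix ι ι F) * x * ((h⁻¹ : GL ι F) : Matrix ι ι F) := by
    intro x hx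
    rw [Units.conj_pow, hx]
  have hθj8 : ∀ j : ℕ, (θ ^ j) ^ 8 = θ ^ j := fun j => by
    rw [← pow_mul, show j * 8 = 7 * j + j by ring, pow_add, pow_mul, hθ7, one_pow, one_mul]
  -- the element fixing `v₀`
  set w : GL ι F := a⁻¹ * h with hw
  have hwcol : ∀ j, ((PG⁻¹ * w * PG : GL ι F) : Matrix ι ι F) *ᵥ Pi.single j 1 =
      ((PG⁻¹ : GL ι F) : Matrix ι ι F) *ᵥ (col j *ᵥ v₀) := by
    intro j
    rw [Units.val_mul, Units.val_mul, ← Matrix.mulVec_mulVec, show (PG : Matrix ι ι F) = P from rfl, hPcol,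
      ← Matrix.mulVec_mulVec]
    congr 1
    have e1 : (h : Matrix ι ι F) * θ ^ (e3 j : ℕ) = col j * (h : Matrix ι ι F) := by
      simp only [col, mul_assoc, val_inv_mul, mul_one]
    rw [hw, Units.val_mul, Matrix.mulVec_mulVec, mul_assoc, e1, ← Matrix.mulVec_mulVec, ← Matrix.mulVec_mulVec,
      ← ha₀, ← hau, Matrix.mulVec_mulVec (v := v₀) (M := col j), hK.comm _ (hcolK j) _ haK,
      ← Matrix.mulVec_mulVec, inv_mulVec_mulVec]
  have hwdet : (w : Matrix ι ι F).det = 1 := by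
    have hmem : ∀ i j, ((PG⁻¹ * w * PG : GL ι F) : Matrix ι ι F) i j ∈ powField F 2 1 := by
      intro i j
      have e := congrFun (hwcol j) i
      rw [Matrix.mulVec_single_one] at e
      rw [show ((PG⁻¹ * w * PG : GL ι F) : Matrix ι ι F) i j = _ from e]
      exact hcoord _ (hcolK j) (hconj8 _ (hθj8 _)) i
    have hdetmem : ((PG⁻¹ * w * PG : GL ι F) : Matrix ι ι F).det ∈ powField F 2 1 := by
      rw [Matrix.det_apply]
      exact sum_mem fun σ _ => zsmul_mem (prod_mem fun i _ => hmem _ _) _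
    rw [Units.val_mul, Units.val_mul, Matrix.det_units_conj'] at hdetmem
    have h2 := mem_powField.mp hdetmem
    rw [pow_one, pow_two] at h2
    exact (mul_eq_left₀ (gl_det_ne_zero w)).mp h2
  have hadet : (a : Matrix ι ι F).det = 1 := by
    have h1 : (a : Matrix ι ι F) * (w : Matrix ι ι F) = (h : Matrix ι ι F) := by
      rw [hw, ← Units.val_mul, mul_inv_cancel_left]
    have := congrArg Matrix.det h1
    rwa [Matrix.det_mul, hwdet, mul_one, det_eq_one hdet hh] at this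
  obtain ⟨c, k, hkK, hk8, hak⟩ := hsplit a haK hadet
  have hc0 : c ≠ 0 := fun e => a.ne_zero (by rw [hak, e, zero_smul])
  refine ⟨PG⁻¹ * h * PG, mem_range_sup_scalars (inv_ne_zero hc0) (fun i j => ?_),
    by rw [MulEquiv.coe_toMonoidHom, MulAut.conj_apply]; simp [mul_assoc]⟩
  have hcol : ((PG⁻¹ * h * PG : GL ι F) : Matrix ι ι F) *ᵥ Pi.single j 1 =
      c • (((PG⁻¹ : GL ι F) : Matrix ι ι F) *ᵥ ((col j * k) *ᵥ v₀)) := by
    rw [Units.val_mul, Units.val_mul, ← Matrix.mulVec_mulVec, show (PG : Matrix ι ι F) = P from rfl, hPcol,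
      ← Matrix.mulVec_mulVec, ← Matrix.mulVec_smul]
    congr 1
    have e1 : (h : Matrix ι ι F) * θ ^ (e3 j : ℕ) = col j * (h : Matrix ι ι F) := by
      simp only [col, mul_assoc, val_inv_mul, mul_one]
    rw [Matrix.mulVec_mulVec, e1, ← Matrix.mulVec_mulVec, ← ha₀, ← hau, hak, Matrix.smul_mulVec,
      Matrix.mulVec_smul, Matrix.mulVec_mulVec]
  have e := congrFun hcol i
  rw [Matrix.mulVec_single_one] at e
  rw [show ((PG⁻¹ * h * PG : GL ι F) : Matrix ι ι F) i j = _ from e, Pi.smul_apply, smul_eq_mul, ← mul_assoc,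
    inv_mul_cancel₀ hc0, one_mul]
  refine hcoord _ (mul_mem (hcolK j) hkK) ?_ i
  rw [(show Commute (col j) k from hK.comm _ (hcolK j) _ hkK).mul_pow, hk8, hconj8 _ (hθj8 _)]

end Cfsg.Lib.Classical.PrimeDim
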