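import Cfsg.Agent.Classical.Unitary.UThreeTwo

/-! Tables for a subgroup `L₂(11)` of `SU₅(2)`, with entries coded in `Fin 4`. -/

set_option autoImplicit false
set_option linter.unusedSimpArgs false
set_option linter.style.haveILetI false

namespace Cfsg.Lib.Classical.PrimeDim.SingerTwo

open Cfsg.Lib.Classical.UThreeTwo (cmul cadd ev ev_add ev_mul ev_injective)

/-- Coded vectors. -/
abbrev Vec := Fin 5 → Fin 4

/-- Coded matrices. -/
abbrev Code := Fin 5 → Fin 5 → Fin 4

/-- The sum of five codes. -/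
def sum5 (g : Fin 5 → Fin 4) : Fin 4 := cadd (cadd (cadd (cadd (g 0) (g 1)) (g 2)) (g 3)) (g 4)

/-- The product of coded matrices. -/
def mmul (A B : Code) : Code := fun i j => sum5 fun l => cmul (A i l) (B l j)

/-- The product of a coded matrix and a coded vector. -/
def mvec (A : Code) (v : Vec) : Vec := fun i => sum5 fun l => cmul (A i l) (v l)

/-- Coded scalar matrices. -/
def scal (s : Fin 4) : Code := fun i j => if i = j then s else 0

/-- The conjugate transpose. -/
def starC (A : Code) : Code := fun i j => cmul (A j i) (A j i)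

/-- Powers. -/
def cpow (A : Code) : ℕ → Code
  | 0 => scal 1
  | m + 1 => mmul A (cpow A m)

/-- The trace. -/
def ctr (A : Code) : Fin 4 := sum5 fun i => A i i

/-- The number of a vector. -/
def num (v : Vec) : ℕ := (v 0).1 + 4 * (v 1).1 + 16 * (v 2).1 + 64 * (v 3).1 + 256 * (v 4).1

/-- The vector with a given number. -/
def unnum (m : ℕ) : Vec := fun i => ⟨m / 4 ^ i.1 % 4, Nat.mod_lt _ (by norm_num)⟩

/-- Data. -/
def kC : Code :=
  ![![0, 0, 2, 3, 3], ![0, 1, 1, 0, 2], ![0, 3, 3, 1, 0], ![3, 0, 0, 0, 0], ![0, 3, 0, 1, 1]]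
/-- Data. -/
def fC : Code :=
  ![![0, 1, 0, 1, 3], ![0, 1, 2, 0, 3], ![3, 0, 0, 0, 0], ![0, 2, 3, 2, 0], ![0, 0, 2, 1, 3]]
/-- Data. -/
def xC : Code :=
  ![![0, 0, 2, 0, 0], ![0, 1, 0, 0, 0], ![3, 0, 0, 0, 0], ![0, 0, 0, 0, 1], ![0, 0, 0, 1, 0]]
/-- Data. -/
def tC : Code :=
  ![![0, 1, 0, 0, 0], ![1, 0, 0, 0, 0], ![0, 0, 0, 1, 0], ![0, 0, 1, 0, 0], ![0, 0, 0, 0, 1]]
/-- Data. -/
def piC : Code :=
  ![![1, 1, 3, 0, 0], ![0, 0, 2, 2, 2], ![0, 2, 2, 0, 0], ![0, 1, 3, 0, 3], ![0, 3, 1, 0, 1]]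
/-- Data. -/
def sList : List ℕ :=
  [66, 67, 86, 89, 90, 101, 102, 110, 122, 125, 126, 129, 131, 150, 151, 159, 171, 174, 175, 183, 186, 187, 193, 194, 217, 221, 223, 229, 233, 235, 245, 247, 253, 272, 278, 279, 281, 282, 285, 287, 288, 311, 314, 317, 327, 333, 335, 338, 339, 354, 355, 356, 364, 369, 380, 393, 394, 397, 401, 403, 417, 419, 424, 428, 434, 440, 454, 455, 458, 465, 466, 481, 482, 484, 488, 499, 500, 534, 537, 543, 544, 549, 550, 553, 555, 558, 559, 560, 585, 587, 591, 593, 600, 610, 611, 626, 627, 632, 636, 645, 646, 649, 658, 660, 673, 675, 689, 691, 692, 696, 710, 718, 719, 723, 732, 737, 738, 753, 754, 756, 764, 784, 805, 811, 814, 816, 821, 823, 826, 827, 829, 830, 837, 839, 843, 850, 851, 852, 856, 865, 868, 882, 883, 901, 909, 910, 913, 915, 916, 924, 930, 940, 945, 947, 970, 971, 974, 977, 978, 984, 988, 995, 1000, 1009, 1010]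

theorem k_good : mmul (starC kC) kC = scal 1 ∧ cpow kC 11 = scal 1 ∧ cpow kC 1 ≠ scal 1 := by decide +kernel

theorem f_good : mmul (starC fC) fC = scal 1 ∧ cpow fC 5 = scal 1 := by decide +kernel

theorem x_good : mmul (starC xC) xC = scal 1 ∧ cpow xC 2 = scal 1 := by decide +kernel

theorem t_good : mmul (starC tC) tC = scal 1 ∧ cpow tC 2 = scal 1 := by decide +kernel

theorem f_rel : mmul fC kC = mmul (cpow kC 4) fC := by decide +kernel

theorem x_rel : ∀ j : Fin 11, mmul xC kC ≠ mmul (cpow kC j.1) xC := by decide +kernel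

theorem pi_good : mmul piC (fun i j => cpow kC j.1 i 0) = scal 1 ∧
    mmul (fun i j => cpow kC j.1 i 0) piC = scal 1 := by decide +kernel

theorem trace_cases : ∀ j : Fin 11, ctr (cpow kC j.1) = ctr (cpow kC 1) →
    ∃ i : Fin 5, 4 ^ i.1 % 11 = j.1 := by decide +kernel

theorem k_set : ∀ m ∈ sList, num (mvec kC (unnum m)) ∈ sList := by decide +kernel

theorem f_set : ∀ m ∈ sList, num (mvec fC (unnum m)) ∈ sList := by decide +kernel

theorem x_set : ∀ m ∈ sList, num (mvec xC (unnum m)) ∈ sList := by decide +kernel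

theorem t_set : ∃ m ∈ sList, num (mvec tC (unnum m)) ∉ sList := by decide +kernel

theorem num_unnum : ∀ m ∈ sList, num (unnum m) = m := by decide +kernel

/-- A combination of the powers of `kC`. -/
def comb (a : Vec) : Code := fun i j => sum5 fun l => cmul (a l) (cpow kC l.1 i j)

/-- Decide membership of a matrix among the unitary scalar multiples of powers. -/
theorem comb_isometry : ∀ a0 a1 a2 a3 a4 : Fin 4,
    mmul (starC (comb ![a0, a1, a2, a3, a4])) (comb ![a0, a1, a2, a3, a4]) = scal 1 →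
      ∃ s : Fin 4, s ≠ 0 ∧ ∃ j : Fin 11, comb ![a0, a1, a2, a3, a4] = mmul (scal s) (cpow kC j.1) := by
  decide +kernel

end Cfsg.Lib.Classical.PrimeDim.SingerTwo
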