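import Cfsg.Agent.Classical.PrimeDim.UnitaryMain
import Cfsg.Agent.Classical.PrimeDim.SingerTwoCode

/-! In `SU₅(2)` the normaliser of a field of degree five is not maximal. -/

set_option autoImplicit false
set_option linter.unusedSimpArgs false
set_option linter.unusedSectionVars false
set_option linter.style.haveILetI false

namespace Cfsg.Lib.Classical.PrimeDim.SingerTwo

open Matrix Cfsg.Geo
open scoped MatrixGroups
open Cfsg.Lib.Classical.UThreeTwo (cmul cadd ev ev_add ev_mul ev_injective exists_omega)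

universe u

variable {F : Type u} [Field F]

/-- Reading a coded matrix. -/
def mev (ω : F) (A : Code) : Matrix (Fin 5) (Fin 5) F := Matrix.of fun i j => ev ω (A i j)

/-- Reading a coded vector. -/
def vev (ω : F) (v : Vec) : Fin 5 → F := fun i => ev ω (v i)

section

variable [CharP F 2] {ω : F} (hω : ω * ω = ω + 1)
include hω

theorem ev_sum5 (g : Fin 5 → Fin 4) : ev ω (sum5 g) = ∑ i, ev ω (g i) := by
  simp only [sum5, ev_add hω, Fin.sum_univ_five]

theorem mev_mmul (A B : Code) : mev ω (mmul A B) = mev ω A * mev ω B := by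
  ext i j
  simp only [mev, mmul, Matrix.of_apply, Matrix.mul_apply, ev_sum5 hω, ev_mul hω]

theorem mev_mvec (A : Code) (v : Vec) : vev ω (mvec A v) = mev ω A *ᵥ vev ω v := by
  funext i
  simp only [vev, mev, mvec, Matrix.mulVec, dotProduct, Matrix.of_apply, ev_sum5 hω, ev_mul hω]

omit hω in
theorem mev_scal (s : Fin 4) : mev ω (scal s) = ev ω s • 1 := by
  ext i j
  simp only [mev, scal, Matrix.of_apply, Matrix.smul_apply, Matrix.one_apply, smul_eq_mul]
  split_ifs
  · rw [mul_one]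
  · rw [mul_zero]; rfl

omit hω in
theorem mev_one : mev ω (scal 1) = 1 := by
  rw [mev_scal, show ev ω 1 = 1 from rfl, one_smul]

theorem mev_cpow (A : Code) (m : ℕ) : mev ω (cpow A m) = mev ω A ^ m := by
  induction m with
  | zero => rw [cpow, mev_one, pow_zero]
  | succ m ih => rw [cpow, mev_mmul hω, ih, pow_succ']

omit hω in
theorem mev_injective_aux (h : Function.Injective (ev ω)) : Function.Injective (mev ω) := fun A B e =>
  funext fun i => funext fun j => h (congrFun (congrFun e i) j)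

theorem mev_injective : Function.Injective (mev ω) := mev_injective_aux (ev_injective hω)

theorem vev_injective : Function.Injective (vev ω) := fun a b e =>
  funext fun i => ev_injective hω (congrFun e i)

theorem mev_trace (A : Code) : Matrix.trace (mev ω A) = ev ω (ctr A) := by
  simp only [Matrix.trace, Matrix.diag, mev, ctr, Matrix.of_apply, ev_sum5 hω]

theorem mev_comb (a : Vec) : mev ω (comb a) = ∑ l, ev ω (a l) • mev ω kC ^ (l : ℕ) := by
  ext i j
  rw [Matrix.sum_apply]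
  simp only [← mev_cpow hω]
  simp only [mev, comb, Matrix.of_apply, ev_sum5 hω, ev_mul hω, Matrix.smul_apply, smul_eq_mul]

/-- The unitary group element of a code. -/
def el (A : Code) (h : mmul (starC A) A = scal 1) : GL (Fin 5) F :=
  ⟨mev ω A, mev ω (starC A), mul_eq_one_comm.mp (by rw [← mev_mmul hω, h, mev_one]),
    by rw [← mev_mmul hω, h, mev_one]⟩

theorem el_val (A : Code) (h : mmul (starC A) A = scal 1) :
    ((el hω A h : GL (Fin 5) F) : Matrix (Fin 5) (Fin 5) F) = mev ω A := rfl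

variable [Fintype F] (hF : Fintype.card F = 2 ^ 2)

include hF in
theorem el_mem_GU (A : Code) (h : mmul (starC A) A = scal 1) : el hω A h ∈ Cfsg.GU 5 F 2 := by
  refine mem_GU_iff.mpr fun u v => ?_
  have hT : (mev ω A)ᵀ * (mev ω A).map (frob hF) = 1 := by
    have e : mev ω (starC A) = ((mev ω A).map (frob hF))ᵀ := by
      ext i j
      simp only [mev, starC, Matrix.of_apply, Matrix.transpose_apply, Matrix.map_apply, ev_mul hω, frob_apply,
        pow_two]
    have e1 : mev ω (starC A) * mev ω A = 1 := by rw [← mev_mmul hω, h, mev_one]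
    rw [e] at e1
    have e2 := congrArg Matrix.transpose e1
    rwa [Matrix.transpose_mul, Matrix.transpose_transpose, Matrix.transpose_one] at e2
  rw [el_val]
  have hG : gramMatrix (Cfsg.hermForm 5 F 2) = 1 := by
    ext i j
    simp only [gramMatrix, hermForm_eq hF, stdHerm, Units.val_one, Matrix.one_mulVec]
    rw [Finset.sum_eq_single i (fun l _ hl => by rw [Pi.single_eq_of_ne hl, zero_mul]) (by simp), Pi.single_eq_same,
      one_mul, Matrix.one_apply, Pi.single_apply]
    split_ifs <;> simp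
  have := ((herm_isSesq (n := 5) hF).fixes_iff (s := mev ω A) (1 : F)).mpr
    (by rw [hG, mul_one, one_smul, hT]) u v
  rwa [one_mul] at this

theorem el_pow_eq_one (A : Code) (h : mmul (starC A) A = scal 1) {m : ℕ} (hm : cpow A m = scal 1) :
    el hω A h ^ m = 1 :=
  Units.ext (by rw [Units.val_pow_eq_pow_val, el_val, ← mev_cpow hω, hm, mev_one, Units.val_one])

include hF in
omit hω [CharP F 2] in
theorem eq_one_of_pow {d : F} {m : ℕ} (hd : d ≠ 0) (h : d ^ m = 1) (hm : Nat.Coprime m 3) : d = 1 := by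
  have h3 : d ^ 3 = 1 := by
    have := FiniteField.pow_card_sub_one_eq_one d hd
    rwa [hF] at this
  have := pow_gcd_eq_one.mpr ⟨h, h3⟩
  rwa [hm, pow_one] at this

include hF in
theorem el_mem_suGL (A : Code) (h : mmul (starC A) A = scal 1) {m : ℕ} (hm : cpow A m = scal 1)
    (h3 : Nat.Coprime m 3) : el hω A h ∈ suGL 5 F 2 := by
  refine ⟨el_mem_GU hω hF A h, ?_⟩
  show Matrix.GeneralLinearGroup.det (el hω A h) = 1
  refine Units.ext (eq_one_of_pow hF (Units.ne_zero _) ?_ h3)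
  rw [← Units.val_pow_eq_pow_val, ← map_pow, el_pow_eq_one hω A h hm, map_one, Units.val_one]

end

theorem num_unnum_all : ∀ v : Vec, unnum (num v) = v := by decide +kernel

/-- The coded orbit. -/
def orbitSet (ω : F) : Set (Fin 5 → F) := {v | ∃ m ∈ sList, v = vev ω (unnum m)}

variable [Fintype F] (hF : Fintype.card F = 2 ^ 2)

include hF in
/-- An isometry of order eleven in a subfield of degree five closed under adjoints. -/
theorem exists_eleven {K : Subalgebra F (Matrix (Fin 5) (Fin 5) F)} (hK : IsFieldSubalgebra 5 K)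
    (hadj : IsAdjointClosedFor (Cfsg.hermForm 5 F 2) K) :
    ∃ k : GL (Fin 5) F, k ∈ suGL 5 F 2 ∧ (k : Matrix (Fin 5) (Fin 5) F) ∈ K ∧ orderOf k = 11 := by
  classical
  set σ := frob hF with hσ
  let st : Matrix (Fin 5) (Fin 5) F → Matrix (Fin 5) (Fin 5) F := fun M => (M.map σ)ᵀ
  have hmm : ∀ M, st (st M) = M := fun M => by
    ext i j; simp [st, hσ, frob_frob]
  have hstmul : ∀ A B, st (A * B) = st B * st A := fun A B => by
    simp [st, Matrix.map_mul, Matrix.transpose_mul]
  have hadjeq : ∀ (M : Matrix (Fin 5) (Fin 5) F) u v,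
      Cfsg.hermForm 5 F 2 (M *ᵥ u) v = Cfsg.hermForm 5 F 2 u (st M *ᵥ v) := fun M u v => by
    rw [hermForm_eq hF]
    simp only [stdHerm, Units.val_one, Matrix.one_mulVec]
    show (M *ᵥ u) ⬝ᵥ (⇑σ ∘ v) = u ⬝ᵥ (⇑σ ∘ (st M *ᵥ v))
    rw [comp_mulVec, show (st M).map σ = Mᵀ by ext i j; simp [st, hσ, frob_frob], Matrix.dotProduct_mulVec,
      Matrix.vecMul_transpose]
  have hstK : ∀ M ∈ K, st M ∈ K := by
    intro M hM
    obtain ⟨M', hM', he⟩ := hadj M hM
    suffices st M = M' by rwa [this]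
    refine Matrix.toLin'.injective (LinearMap.ext fun v => ?_)
    rw [Matrix.toLin'_apply, Matrix.toLin'_apply]
    by_contra hne
    obtain ⟨x, hx⟩ := ((herm_isSesq hF).nondegenerate _ (sub_ne_zero.mpr hne)).1
    apply hx
    have hs := herm_isSesq (n := 5) hF
    rw [sub_eq_add_neg, ← neg_one_smul F (M' *ᵥ v), hs.add_right, hs.smul_right, map_neg, map_one,
      ← hadjeq, he x v]
    ring
  let U : Subgroup (GL (Fin 5) F) :=
    { carrier := {g | (g : Matrix (Fin 5) (Fin 5) F) ∈ K}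
      mul_mem' := fun {a b} ha hb => show ((a * b : GL (Fin 5) F) : Matrix (Fin 5) (Fin 5) F) ∈ K by
        rw [Units.val_mul]; exact mul_mem ha hb
      one_mem' := one_mem K
      inv_mem' := fun {g} hg => by
        obtain ⟨y, hy, he⟩ := hK.inv _ hg g.ne_zero
        show ((g⁻¹ : GL (Fin 5) F) : Matrix (Fin 5) (Fin 5) F) ∈ K
        rw [show ((g⁻¹ : GL (Fin 5) F) : Matrix (Fin 5) (Fin 5) F) = y from Units.inv_eq_of_mul_eq_one_right he]
        exact hy }
  have hUcard : Nat.card U = 1023 := by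
    let e : Option U → K := fun o => match o with
      | none => 0
      | some u => ⟨((u : GL (Fin 5) F) : Matrix (Fin 5) (Fin 5) F), u.2⟩
    have he : Function.Bijective e := by
      constructor
      · rintro (_ | a) (_ | b) h
        · rfl
        · exact absurd (congrArg Subtype.val h).symm (Units.ne_zero _)
        · exact absurd (congrArg Subtype.val h) (Units.ne_zero _)
        · exact congrArg some (Subtype.ext (Units.ext (congrArg (fun x : K => (x : Matrix (Fin 5) (Fin 5) F)) h)))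
      · rintro ⟨x, hx⟩
        by_cases h0 : x = 0
        · exact ⟨none, Subtype.ext h0.symm⟩
        · obtain ⟨u, hu⟩ := fieldSub_isUnit hK hx h0
          exact ⟨some ⟨u, show (u : Matrix (Fin 5) (Fin 5) F) ∈ K by rw [hu]; exact hx⟩, Subtype.ext hu⟩
    have h1 := Nat.card_eq_of_bijective e he
    rw [Finite.card_option, Module.natCard_eq_pow_finrank (K := F) (V := K), hK.finrank_eq,
      Nat.card_eq_fintype_card (α := F), hF] at h1
    omega
  let stU : U → GL (Fin 5) F := fun u =>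
    ⟨st ((u : GL (Fin 5) F) : Matrix (Fin 5) (Fin 5) F), st (((u : GL (Fin 5) F)⁻¹ : GL (Fin 5) F) : Matrix (Fin 5) (Fin 5) F),
      by rw [← hstmul, val_inv_mul]; simp [st],
      by rw [← hstmul, val_mul_inv]; simp [st]⟩
  have hcommU : ∀ a ∈ U, ∀ b ∈ U, a * b = b * a := fun a ha b hb =>
    Units.ext (by rw [Units.val_mul, Units.val_mul]; exact hK.comm _ ha _ hb)
  have hstU : ∀ u : U, stU u ∈ U := fun u => hstK _ u.2
  let Nh : U →* U := MonoidHom.mk' (fun u => ⟨stU u * u, U.mul_mem (hstU u) u.2⟩) (fun a b => by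
    refine Subtype.ext ?_
    show stU (a * b) * ((a : GL (Fin 5) F) * b) = stU a * a * (stU b * b)
    have e : stU (a * b) = stU a * stU b := Units.ext (by
      rw [Units.val_mul]
      show st (((a : GL (Fin 5) F) : Matrix (Fin 5) (Fin 5) F) * ((b : GL (Fin 5) F) : Matrix (Fin 5) (Fin 5) F)) = _
      rw [hstmul]
      exact hK.comm _ (hstU b) _ (hstU a))
    rw [e, mul_assoc, mul_assoc]
    congr 1
    rw [← mul_assoc, hcommU _ (hstU b) _ a.2, mul_assoc])
  let Ufix : Subgroup U :=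
    { carrier := {u | stU u = u}
      mul_mem' := fun {a b} ha hb => by
        refine Units.ext ?_
        show st (((a : GL (Fin 5) F) : Matrix (Fin 5) (Fin 5) F) * ((b : GL (Fin 5) F) : Matrix (Fin 5) (Fin 5) F)) = _
        rw [hstmul, show st ((a : GL (Fin 5) F) : Matrix (Fin 5) (Fin 5) F) = _ from congrArg Units.val ha,
          show st ((b : GL (Fin 5) F) : Matrix (Fin 5) (Fin 5) F) = _ from congrArg Units.val hb]
        exact hK.comm _ b.2 _ a.2
      one_mem' := Units.ext (by simp [stU, st])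
      inv_mem' := fun {a} ha => Units.ext (by
        show st (((a : GL (Fin 5) F)⁻¹ : GL (Fin 5) F) : Matrix (Fin 5) (Fin 5) F) = _
        exact congrArg (fun g : GL (Fin 5) F => ((g⁻¹ : GL (Fin 5) F) : Matrix (Fin 5) (Fin 5) F)) ha) }
  obtain ⟨θ, hθ⟩ : ∃ θ, σ θ ≠ θ := by
    by_contra hc
    push Not at hc
    exact frob_ne_refl hF (RingEquiv.ext hc)
  have hstadd : ∀ A B, st (A + B) = st A + st B := fun A B => by ext i j; simp [st]
  have hstsmul : ∀ (c : F) A, st (c • A) = σ c • st A := fun c A => by ext i j; simp [st]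
  have hfixcard : Nat.card Ufix = 31 := by
    let Fx := {x : K // st (x : Matrix (Fin 5) (Fin 5) F) = x}
    let e : Fx × Fx → K := fun p => p.1.1 + θ • p.2.1
    have he : Function.Bijective e := by
      constructor
      · rintro ⟨a, b⟩ ⟨a', b'⟩ h
        have h1 := congrArg Subtype.val h
        simp only [e, Submodule.coe_add, AddMemClass.coe_add, SetLike.val_smul] at h1
        have h2 := congrArg st h1
        rw [hstadd, hstadd, hstsmul, hstsmul, a.2, b.2, a'.2, b'.2] at h2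
        have hb : (θ - σ θ) • ((b.1 : Matrix (Fin 5) (Fin 5) F) - b'.1) = 0 := by
          have : ((a.1 : Matrix (Fin 5) (Fin 5) F) + θ • b.1) - (a.1 + σ θ • b.1) =
              ((a'.1 : Matrix (Fin 5) (Fin 5) F) + θ • b'.1) - (a'.1 + σ θ • b'.1) := by rw [h1, h2]
          rw [sub_smul, smul_sub, smul_sub, ← sub_eq_zero.mpr this]
          abel
        have hb' := sub_eq_zero.mp ((smul_eq_zero.mp hb).resolve_left (sub_ne_zero.mpr hθ.symm))
        rw [hb'] at h1
        exact Prod.ext (Subtype.ext (Subtype.ext (add_right_cancel h1))) (Subtype.ext (Subtype.ext hb'))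
      · intro x
        set b : K := (θ - σ θ)⁻¹ • (x - ⟨st x.1, hstK _ x.2⟩) with hb_def
        have hbv : (b : Matrix (Fin 5) (Fin 5) F) = (θ - σ θ)⁻¹ • ((x : Matrix (Fin 5) (Fin 5) F) - st x.1) := rfl
        have hbfix : st (b : Matrix (Fin 5) (Fin 5) F) = b := by
          have hsub : ∀ A B, st (A - B) = st A - st B := fun A B => by ext i j; simp [st]
          rw [hbv, hstsmul, hsub, hmm, map_inv₀, map_sub, hσ, frob_frob, ← neg_sub (x : Matrix (Fin 5) (Fin 5) F),
            smul_neg, ← neg_smul, ← inv_neg, neg_sub]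
        refine ⟨⟨⟨x - θ • b, ?_⟩, ⟨b, hbfix⟩⟩, by simp [e]⟩
        show st ((x : Matrix (Fin 5) (Fin 5) F) - θ • (b : Matrix (Fin 5) (Fin 5) F)) = _
        have hsub : ∀ A B, st (A - B) = st A - st B := fun A B => by ext i j; simp [st]
        rw [hsub, hstsmul, hbfix]
        show _ = (x : Matrix (Fin 5) (Fin 5) F) - θ • (b : Matrix (Fin 5) (Fin 5) F)
        have h3 : (θ - σ θ) • (b : Matrix (Fin 5) (Fin 5) F) = (x : Matrix (Fin 5) (Fin 5) F) - st x.1 := by
          rw [hbv, smul_smul, mul_inv_cancel₀ (sub_ne_zero.mpr hθ.symm), one_smul]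
        rw [sub_smul] at h3
        have h4 : (x : Matrix (Fin 5) (Fin 5) F) - θ • (b : Matrix (Fin 5) (Fin 5) F) =
            st x.1 - σ θ • (b : Matrix (Fin 5) (Fin 5) F) := by
          rw [← sub_eq_zero] at h3 ⊢
          rw [← neg_eq_zero, ← h3]
          abel
        rw [h4]
    have h1 := Nat.card_eq_of_bijective e he
    rw [Nat.card_prod, Module.natCard_eq_pow_finrank (K := F) (V := K), hK.finrank_eq,
      Nat.card_eq_fintype_card (α := F), hF] at h1
    have hFx : Nat.card Fx = 32 := by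
      refine Nat.pow_left_injective (n := 2) two_ne_zero ?_
      show Nat.card Fx ^ 2 = 32 ^ 2
      rw [pow_two, h1]; norm_num
    let e' : Option Ufix → Fx := fun o => match o with
      | none => ⟨0, by ext i j; simp [st]⟩
      | some u => ⟨⟨((u : U) : GL (Fin 5) F).1, (u : U).2⟩, congrArg Units.val u.2⟩
    have he' : Function.Bijective e' := by
      constructor
      · rintro (_ | a) (_ | b) h
        · rfl
        · exact absurd (congrArg (fun z : Fx => ((z.1 : K) : Matrix (Fin 5) (Fin 5) F)) h).symm (Units.ne_zero _)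
        · exact absurd (congrArg (fun z : Fx => ((z.1 : K) : Matrix (Fin 5) (Fin 5) F)) h) (Units.ne_zero _)
        · exact congrArg some (Subtype.ext (Subtype.ext (Units.ext
            (congrArg (fun z : Fx => ((z.1 : K) : Matrix (Fin 5) (Fin 5) F)) h))))
      · rintro ⟨⟨x, hx⟩, hfx⟩
        by_cases h0 : x = 0
        · exact ⟨none, Subtype.ext (Subtype.ext h0.symm)⟩
        · obtain ⟨u, hu⟩ := fieldSub_isUnit hK hx h0
          have huU : u ∈ U := show (u : Matrix (Fin 5) (Fin 5) F) ∈ K by rw [hu]; exact hx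
          exact ⟨some ⟨⟨u, huU⟩, Units.ext (show st (u : Matrix (Fin 5) (Fin 5) F) = u by rw [hu]; exact hfx)⟩,
            Subtype.ext (Subtype.ext hu)⟩
    have h2 := Nat.card_eq_of_bijective e' he'
    rw [Finite.card_option, hFx] at h2
    omega
  have hrange : Nh.range ≤ Ufix := by
    rintro _ ⟨u, rfl⟩
    refine Units.ext ?_
    show st (st ((u : GL (Fin 5) F) : Matrix (Fin 5) (Fin 5) F) * ((u : GL (Fin 5) F) : Matrix (Fin 5) (Fin 5) F)) = _
    rw [hstmul, hmm]
    rfl
  have hdvd : 11 ∣ Nat.card Nh.ker := by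
    have hm := Nh.ker.card_mul_index
    rw [Subgroup.index_ker, hUcard] at hm
    rcases (Nat.dvd_prime (by norm_num : Nat.Prime 31)).mp (hfixcard ▸ Subgroup.card_dvd_of_le hrange) with h | h <;>
      rw [h] at hm <;> omega
  haveI : Fact (Nat.Prime 11) := ⟨by norm_num⟩
  obtain ⟨⟨⟨k, hkU⟩, hkker⟩, hk⟩ := exists_prime_orderOf_dvd_card' 11 hdvd
  rw [← Subgroup.orderOf_coe, ← Subgroup.orderOf_coe] at hk
  have hiso : st (k : Matrix (Fin 5) (Fin 5) F) * (k : Matrix (Fin 5) (Fin 5) F) = 1 :=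
    congrArg (fun z : U => ((z : GL (Fin 5) F) : Matrix (Fin 5) (Fin 5) F)) hkker
  refine ⟨k, ⟨mem_GU_iff.mpr fun u v => ?_, ?_⟩, hkU, hk⟩
  · rw [hadjeq, Matrix.mulVec_mulVec, hiso, Matrix.one_mulVec]
  · show Matrix.GeneralLinearGroup.det k = 1
    refine Units.ext (eq_one_of_pow hF (Units.ne_zero _) ?_ (m := 11) (by norm_num))
    rw [← Units.val_pow_eq_pow_val, ← map_pow, ← hk, pow_orderOf_eq_one, map_one, Units.val_one]

set_option maxHeartbeats 800000 in
include hF in
/-- The normaliser of an adjoint-closed subfield of degree five is not maximal in `SU₅(2)`. -/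
theorem not_maximal {H : Subgroup (GL (Fin 5) F)} (hH : IsMaximalIn (suGL 5 F 2) H)
    {K : Subalgebra F (Matrix (Fin 5) (Fin 5) F)} (hK : IsFieldSubalgebra 5 K)
    (hadj : IsAdjointClosedFor (Cfsg.hermForm 5 F 2) K) (hle : H ≤ subalgebraNormalizer K) : False := by
  classical
  obtain ⟨hc, ω, hω⟩ := exists_omega (F := F) hF
  haveI := hc
  haveI : Fact (Nat.Prime 11) := ⟨by norm_num⟩
  obtain ⟨k, hkT, hkK, hk⟩ := exists_eleven hF hK hadj
  set k₀ := el hω kC k_good.1 with hk₀def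
  set f₀ := el hω fC f_good.1
  set x₀ := el hω xC x_good.1
  set t₀ := el hω tC t_good.1
  have hk₀T : k₀ ∈ suGL 5 F 2 := el_mem_suGL hω hF _ _ k_good.2.1 (by norm_num)
  have hf₀T : f₀ ∈ suGL 5 F 2 := el_mem_suGL hω hF _ _ f_good.2 (by norm_num)
  have hx₀T : x₀ ∈ suGL 5 F 2 := el_mem_suGL hω hF _ _ x_good.2 (by norm_num)
  have ht₀T : t₀ ∈ suGL 5 F 2 := el_mem_suGL hω hF _ _ t_good.2 (by norm_num)
  have hk₀pow : k₀ ^ 11 = 1 := el_pow_eq_one hω _ _ k_good.2.1
  have hk₀ord : orderOf k₀ = 11 := by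
    refine orderOf_eq_prime hk₀pow fun e => k_good.2.2 (mev_injective hω ?_)
    rw [mev_cpow hω, pow_one, mev_one, ← el_val hω kC k_good.1, ← hk₀def, e, Units.val_one]
  -- conjugate the two subgroups of order eleven
  obtain ⟨g, hg, hgk⟩ : ∃ g ∈ Cfsg.GU 5 F 2, g⁻¹ * k₀ * g ∈ Subgroup.zpowers k := by
    let G := ↥(Cfsg.GU 5 F 2)
    let a : G := ⟨k, hkT.1⟩
    let b : G := ⟨k₀, hk₀T.1⟩
    have hcard : Nat.card G = 41057280 := by
      rw [Cfsg.Lib.Classical.card_GU hF, Cfsg.Lib.Classical.cardGUFormula]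
      simp [Finset.prod_range_succ, Nat.even_iff]
    have hP : ∀ c : G, orderOf (c : GL (Fin 5) F) = 11 → ∃ P : Sylow 11 G, (P : Subgroup G) = Subgroup.zpowers c := by
      intro c hc
      rw [Subgroup.orderOf_coe] at hc
      have hcard' : Nat.card (Subgroup.zpowers c) = 11 := by rw [Nat.card_zpowers, hc]
      obtain ⟨P, hP⟩ := (IsPGroup.of_card (n := 1) (by rw [hcard', pow_one])).exists_le_sylow
      refine ⟨P, (Subgroup.eq_of_le_of_card_ge hP ?_).symm⟩
      obtain ⟨m, hm⟩ := IsPGroup.iff_card.mp P.isPGroup'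
      rw [hcard', hm]
      have hd := Subgroup.card_subgroup_dvd_card (P : Subgroup G)
      rw [hm, hcard] at hd
      rcases m with _ | _ | m
      · norm_num
      · norm_num
      · exfalso
        have : 11 ^ 2 ∣ 41057280 := (pow_dvd_pow 11 (by omega)).trans hd
        norm_num at this
    obtain ⟨P, hP'⟩ := hP a hk
    obtain ⟨Q, hQ'⟩ := hP b hk₀ord
    obtain ⟨c, hc⟩ := MulAction.exists_smul_eq G P Q
    refine ⟨(c : GL (Fin 5) F), c.2, ?_⟩
    have hb : b ∈ (Q : Subgroup G) := hQ' ▸ Subgroup.mem_zpowers b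
    rw [← hc, Sylow.coe_subgroup_smul, Subgroup.mem_pointwise_smul_iff_inv_smul_mem] at hb
    rw [hP', Subgroup.mem_zpowers_iff] at hb
    obtain ⟨z, hz⟩ := hb
    refine Subgroup.mem_zpowers_iff.mpr ⟨z, ?_⟩
    simp [MulAut.conj_apply] at hz
    exact (congrArg Subtype.val hz :)
  have hk₁ : ((g⁻¹ * k₀ * g : GL (Fin 5) F) : Matrix (Fin 5) (Fin 5) F) ∈ K := by
    obtain ⟨z, hz⟩ := Subgroup.mem_zpowers_iff.mp hgk
    haveI : Finite (GL (Fin 5) F) := inferInstance
    obtain ⟨m, hm⟩ := (mem_powers_iff_mem_zpowers (x := k)).mpr hgk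
    simp only at hm
    rw [← hm, Units.val_pow_eq_pow_val]
    exact pow_mem hkK m
  -- elements commuting with `k₀`
  have hcent : ∀ y ∈ Cfsg.GU 5 F 2, y * k₀ = k₀ * y →
      ∃ s : F, s ≠ 0 ∧ ∃ j : Fin 11, (y : Matrix (Fin 5) (Fin 5) F) = s • (k₀ : Matrix (Fin 5) (Fin 5) F) ^ (j : ℕ) := by
    intro y hy hcom
    set Y : Matrix (Fin 5) (Fin 5) F := (y : Matrix (Fin 5) (Fin 5) F)
    set A : Matrix (Fin 5) (Fin 5) F := mev ω kC
    have hYA : Y * A = A * Y := congrArg Units.val hcom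
    let P : Code := fun i j => cpow kC j.1 i 0
    have hPcol : ∀ j : Fin 5, mev ω P *ᵥ Pi.single j 1 = (A ^ (j : ℕ)) *ᵥ Pi.single 0 1 := fun j => by
      rw [Matrix.mulVec_single_one, Matrix.mulVec_single_one, ← mev_cpow hω]
      rfl
    set c : Fin 5 → F := mev ω piC *ᵥ (Y *ᵥ Pi.single 0 1)
    have hsurj : ∀ i, ∃ a : Fin 4, ev ω a = c i := fun i => by
      have hb : Function.Bijective (ev ω) := (Fintype.bijective_iff_injective_and_card _).mpr
        ⟨ev_injective hω, by rw [Fintype.card_fin, hF]; rfl⟩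
      exact hb.2 _
    choose a ha using hsurj
    set Z := Y - mev ω (comb a)
    have hZA : Z * A = A * Z := by
      rw [sub_mul, mul_sub, hYA, mev_comb hω, Finset.sum_mul, Finset.mul_sum]
      congr 1
      refine Finset.sum_congr rfl fun l _ => ?_
      rw [Matrix.smul_mul, Matrix.mul_smul, ← pow_succ, ← pow_succ']
    have hZ0 : Z *ᵥ Pi.single 0 1 = 0 := by
      have e : mev ω (comb a) *ᵥ Pi.single 0 1 = mev ω P *ᵥ c := by
        rw [mev_comb hω, Matrix.sum_mulVec]
        conv_rhs => rw [pi_eq_sum_univ' c, Matrix.mulVec_sum]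
        refine Finset.sum_congr rfl fun l _ => ?_
        rw [Matrix.smul_mulVec, Matrix.mulVec_smul, hPcol, ha]
      rw [Matrix.sub_mulVec, e, Matrix.mulVec_mulVec, ← mev_mmul hω, pi_good.2, mev_one, Matrix.one_mulVec, sub_self]
    have hZP : Z * mev ω P = 0 := by
      refine Matrix.ext_of_mulVec_single fun j => ?_
      rw [Matrix.zero_mulVec, ← Matrix.mulVec_mulVec, hPcol, Matrix.mulVec_mulVec,
        (show Commute Z A from hZA).pow_right j, ← Matrix.mulVec_mulVec, hZ0, Matrix.mulVec_zero]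
    have hZ : Z = 0 := by
      have := congrArg (fun M => M * mev ω piC) hZP
      simp only [zero_mul, mul_assoc, ← mev_mmul hω] at this
      rwa [pi_good.2, mev_one, mul_one] at this
    have hY : Y = mev ω (comb a) := sub_eq_zero.mp hZ
    have hgood : mmul (starC (comb a)) (comb a) = scal 1 := by
      refine mev_injective hω ?_
      rw [mev_mmul hω, mev_one, ← hY]
      have e : mev ω (starC (comb a)) = (Y.map (frob hF))ᵀ := by
        rw [hY]
        ext i j
        simp only [mev, starC, Matrix.of_apply, Matrix.transpose_apply, Matrix.map_apply, ev_mul hω, frob_apply,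
          pow_two]
      rw [e]
      have h2 := congrArg Matrix.transpose (gu_transpose hF hy)
      rwa [Matrix.transpose_mul, Matrix.transpose_transpose, Matrix.transpose_one] at h2
    have hav : a = ![a 0, a 1, a 2, a 3, a 4] := by funext i; fin_cases i <;> rfl
    rw [hav] at hgood
    obtain ⟨s, hs, j, hj⟩ := comb_isometry _ _ _ _ _ hgood
    refine ⟨ev ω s, fun e => hs (ev_injective hω (e.trans (show (0 : F) = ev ω 0 from rfl))), j, ?_⟩
    show Y = ev ω s • mev ω kC ^ (j : ℕ)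
    rw [hY, hav, hj, mev_mmul hω, mev_scal, mev_cpow hω, Matrix.smul_mul, one_mul]
  -- the normaliser
  have hnorm : ∀ h ∈ H, ∃ i b : ℕ, g * h * g⁻¹ = f₀ ^ i * k₀ ^ b := by
    intro h hh
    set h' := g * h * g⁻¹ with hh'
    set y := h' * k₀ * h'⁻¹ with hy_def
    have hh'G : h' ∈ Cfsg.GU 5 F 2 := Subgroup.mul_mem _ (Subgroup.mul_mem _ hg (hH.1.le hh).1) (Subgroup.inv_mem _ hg)
    have hyG : y ∈ Cfsg.GU 5 F 2 := Subgroup.mul_mem _ (Subgroup.mul_mem _ hh'G hk₀T.1) (Subgroup.inv_mem _ hh'G)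
    have hyK : ((g⁻¹ * y * g : GL (Fin 5) F) : Matrix (Fin 5) (Fin 5) F) ∈ K := by
      rw [show g⁻¹ * y * g = h * (g⁻¹ * k₀ * g) * h⁻¹ by simp [hy_def, hh', mul_assoc], Units.val_mul, Units.val_mul]
      exact (hle hh _).mp hk₁
    have hcom : y * k₀ = k₀ * y := by
      have e := hK.comm _ hyK _ hk₁
      rw [← Units.val_mul, ← Units.val_mul] at e
      have e' := congrArg (fun z => g * z * g⁻¹) (Units.ext e : (g⁻¹ * y * g) * (g⁻¹ * k₀ * g) = (g⁻¹ * k₀ * g) * (g⁻¹ * y * g))
      simpa [mul_assoc] using e'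
    obtain ⟨s, hs, j, hj⟩ := hcent y hyG hcom
    have hs1 : s = 1 := by
      refine eq_one_of_pow hF hs (m := 11) ?_ (by norm_num)
      have h1 : y ^ 11 = 1 := by rw [hy_def, conj_pow, hk₀pow, mul_one, mul_inv_cancel]
      have h2 := congrArg Units.val h1
      rw [Units.val_pow_eq_pow_val, hj, _root_.smul_pow, ← pow_mul, mul_comm, pow_mul, ← Units.val_pow_eq_pow_val,
        hk₀pow, Units.val_one, one_pow] at h2
      have h3 := congrFun (congrFun h2 0) 0
      rwa [Matrix.smul_apply, Matrix.one_apply_eq, smul_eq_mul, mul_one] at h3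
    rw [hs1, one_smul] at hj
    have htr : ctr (cpow kC (j : ℕ)) = ctr (cpow kC 1) := by
      refine ev_injective hω ?_
      rw [← mev_trace hω, ← mev_trace hω, mev_cpow hω, mev_cpow hω, pow_one]
      show Matrix.trace ((k₀ : Matrix (Fin 5) (Fin 5) F) ^ (j : ℕ)) = Matrix.trace (k₀ : Matrix (Fin 5) (Fin 5) F)
      rw [← hj, hy_def, Units.val_mul, Units.val_mul, Matrix.trace_mul_cycle, val_inv_mul, one_mul]
    obtain ⟨i, hi⟩ := trace_cases j htr
    have hfk : ∀ m : ℕ, f₀ ^ m * k₀ = k₀ ^ (4 ^ m) * f₀ ^ m := by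
      have h1 : f₀ * k₀ = k₀ ^ 4 * f₀ := Units.ext (by
        rw [Units.val_mul, Units.val_mul, Units.val_pow_eq_pow_val]
        show mev ω fC * mev ω kC = mev ω kC ^ 4 * mev ω fC
        rw [← mev_mmul hω, ← mev_cpow hω, ← mev_mmul hω, f_rel])
      have h2 : ∀ b : ℕ, f₀ * k₀ ^ b = k₀ ^ (4 * b) * f₀ := by
        intro b
        induction b with
        | zero => simp
        | succ b ih => rw [pow_succ, ← mul_assoc, ih, mul_assoc, h1, ← mul_assoc, ← pow_add, Nat.mul_succ]
      intro m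
      induction m with
      | zero => simp
      | succ m ih => rw [pow_succ' f₀, mul_assoc, ih, ← mul_assoc, h2, mul_assoc, pow_succ' 4]
    set w := (f₀ ^ (i : ℕ))⁻¹ * h' with hw_def
    have hwG : w ∈ Cfsg.GU 5 F 2 := Subgroup.mul_mem _ (Subgroup.inv_mem _ (Subgroup.pow_mem _ hf₀T.1 _)) hh'G
    have hwcom : w * k₀ = k₀ * w := by
      have e1 : h' * k₀ = k₀ ^ (4 ^ (i : ℕ)) * h' := by
        have hyv : y = k₀ ^ (j : ℕ) := Units.ext (by rw [hj, Units.val_pow_eq_pow_val])
        have hmod : k₀ ^ (4 ^ (i : ℕ)) = k₀ ^ (j : ℕ) := by rw [← hi, ← hk₀ord, pow_mod_orderOf]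
        rw [hmod, ← hyv, hy_def, inv_mul_cancel_right]
      calc (f₀ ^ (i : ℕ))⁻¹ * h' * k₀ = (f₀ ^ (i : ℕ))⁻¹ * (h' * k₀) := mul_assoc _ _ _
        _ = (f₀ ^ (i : ℕ))⁻¹ * (k₀ ^ (4 ^ (i : ℕ)) * f₀ ^ (i : ℕ)) * ((f₀ ^ (i : ℕ))⁻¹ * h') := by
          rw [e1]; simp [mul_assoc]
        _ = (f₀ ^ (i : ℕ))⁻¹ * (f₀ ^ (i : ℕ) * k₀) * ((f₀ ^ (i : ℕ))⁻¹ * h') := by rw [hfk]
        _ = k₀ * ((f₀ ^ (i : ℕ))⁻¹ * h') := by rw [inv_mul_cancel_left]
    obtain ⟨s, hs, b, hb⟩ := hcent w hwG hwcom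
    have hs1 : s = 1 := by
      refine eq_one_of_pow hF hs (m := 5) ?_ (by norm_num)
      have hd : (w : Matrix (Fin 5) (Fin 5) F).det = 1 := by
        have h1 : Matrix.GeneralLinearGroup.det w = 1 := by
          have hdh : Matrix.GeneralLinearGroup.det h = 1 := MonoidHom.mem_ker.mp (hH.1.le hh).2
          have hdf : Matrix.GeneralLinearGroup.det f₀ = 1 := MonoidHom.mem_ker.mp hf₀T.2
          rw [show w = (f₀ ^ (i : ℕ))⁻¹ * (g * h * g⁻¹) from rfl]
          simp only [map_mul, map_inv, map_pow, hdf, hdh, one_pow, inv_one, one_mul, mul_one, mul_inv_cancel]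
        rw [← Matrix.GeneralLinearGroup.val_det_apply, h1, Units.val_one]
      rw [hb, Matrix.det_smul, Fintype.card_fin, Matrix.det_pow] at hd
      rw [← Matrix.GeneralLinearGroup.val_det_apply k₀, MonoidHom.mem_ker.mp hk₀T.2, Units.val_one,
        one_pow, mul_one] at hd
      exact hd
    refine ⟨i, b, ?_⟩
    have hwv : w = k₀ ^ (b : ℕ) := Units.ext (by rw [hb, hs1, one_smul, Units.val_pow_eq_pow_val])
    rw [← hwv, hw_def, mul_inv_cancel_left]
  -- the larger subgroup
  set S := orbitSet ω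
  let M : Subgroup (GL (Fin 5) F) := stabilizing (glToMat (Fin 5) F) S ⊓ suGL 5 F 2
  have hmem : ∀ (A : Code) (hA : mmul (starC A) A = scal 1), (∀ m ∈ sList, num (mvec A (unnum m)) ∈ sList) →
      el hω A hA ∈ stabilizing (glToMat (Fin 5) F) S := by
    intro A hA hset v
    have hfin : S.Finite := Set.toFinite _
    have hmaps : Set.MapsTo (fun u => mev ω A *ᵥ u) S S := by
      rintro _ ⟨m, hm, rfl⟩
      exact ⟨_, hset m hm, by show mev ω A *ᵥ vev ω (unnum m) = _; rw [num_unnum_all, mev_mvec hω]⟩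
    have hinj : Function.Injective (fun u => mev ω A *ᵥ u) := fun a b e => by
      have h1 := congrArg (fun u => mev ω (starC A) *ᵥ u) e
      simp only [Matrix.mulVec_mulVec, ← mev_mmul hω, hA, mev_one, Matrix.one_mulVec] at h1
      exact h1
    refine ⟨fun h => hmaps h, fun h => ?_⟩
    obtain ⟨u, hu, hu'⟩ := (hfin.injOn_iff_bijOn_of_mapsTo hmaps).mp hinj.injOn |>.surjOn h
    exact hinj hu' ▸ hu
  have hkM : k₀ ∈ M := ⟨hmem _ _ k_set, hk₀T⟩
  have hfM : f₀ ∈ M := ⟨hmem _ _ f_set, hf₀T⟩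
  have hxM : x₀ ∈ M := ⟨hmem _ _ x_set, hx₀T⟩
  let M' : Subgroup (GL (Fin 5) F) := M.map (MulAut.conj g⁻¹).toMonoidHom
  have hTn : ∀ z ∈ suGL 5 F 2, ∀ c ∈ Cfsg.GU 5 F 2, c * z * c⁻¹ ∈ suGL 5 F 2 := fun z hz c hc =>
    ⟨Subgroup.mul_mem _ (Subgroup.mul_mem _ hc hz.1) (Subgroup.inv_mem _ hc), by
      show Matrix.GeneralLinearGroup.det (c * z * c⁻¹) = 1
      rw [map_mul, map_mul, MonoidHom.mem_ker.mp hz.2, mul_one, ← map_mul, mul_inv_cancel, map_one]⟩
  have hM'T : M' ≤ suGL 5 F 2 := by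
    intro z hz
    obtain ⟨m, hm, rfl⟩ := mem_map_conj.mp hz
    exact hTn m hm.2 g⁻¹ (Subgroup.inv_mem _ hg)
  have hHM' : H ≤ M' := fun h hh => by
    obtain ⟨i, b, e⟩ := hnorm h hh
    refine mem_map_conj.mpr ⟨g * h * g⁻¹, e ▸ M.mul_mem (M.pow_mem hfM i) (M.pow_mem hkM b), by simp [mul_assoc]⟩
  rcases hH.2 M' hHM' hM'T with e | e
  · have hx : g⁻¹ * x₀ * g ∈ H := e ▸ mem_map_conj.mpr ⟨x₀, hxM, by simp⟩
    obtain ⟨i, b, hib⟩ := hnorm _ hx
    rw [show g * (g⁻¹ * x₀ * g) * g⁻¹ = x₀ by simp [mul_assoc]] at hib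
    have hfk : ∀ m : ℕ, f₀ ^ m * k₀ = k₀ ^ (4 ^ m) * f₀ ^ m := by
      have h1 : f₀ * k₀ = k₀ ^ 4 * f₀ := Units.ext (by
        rw [Units.val_mul, Units.val_mul, Units.val_pow_eq_pow_val]
        show mev ω fC * mev ω kC = mev ω kC ^ 4 * mev ω fC
        rw [← mev_mmul hω, ← mev_cpow hω, ← mev_mmul hω, f_rel])
      have h2 : ∀ b : ℕ, f₀ * k₀ ^ b = k₀ ^ (4 * b) * f₀ := by
        intro b
        induction b with
        | zero => simp
        | succ b ih => rw [pow_succ, ← mul_assoc, ih, mul_assoc, h1, ← mul_assoc, ← pow_add, Nat.mul_succ]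
      intro m
      induction m with
      | zero => simp
      | succ m ih => rw [pow_succ' f₀, mul_assoc, ih, ← mul_assoc, h2, mul_assoc, pow_succ' 4]
    have hxk : x₀ * k₀ = k₀ ^ (4 ^ i) * x₀ := by
      rw [hib, mul_assoc, ← pow_succ, pow_succ', ← mul_assoc, hfk, mul_assoc]
    apply x_rel ⟨4 ^ i % 11, Nat.mod_lt _ (by norm_num)⟩
    refine mev_injective hω ?_
    rw [mev_mmul hω, mev_mmul hω, mev_cpow hω]
    rw [← pow_mod_orderOf, hk₀ord] at hxk
    have := congrArg Units.val hxk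
    rwa [Units.val_mul, Units.val_mul, Units.val_pow_eq_pow_val] at this
  · have ht : g⁻¹ * t₀ * g ∈ M' := e.symm ▸ (by simpa using hTn t₀ ht₀T g⁻¹ (Subgroup.inv_mem _ hg))
    obtain ⟨m, hm, hmeq⟩ := mem_map_conj.mp ht
    rw [inv_inv] at hmeq
    rw [mul_left_cancel (mul_right_cancel hmeq)] at hm
    obtain ⟨v, hv, hv'⟩ := t_set
    obtain ⟨w, hw, hwe⟩ := (hm.1 (vev ω (unnum v))).mp ⟨v, hv, rfl⟩
    apply hv'
    have : mvec tC (unnum v) = unnum w := vev_injective hω (by rw [mev_mvec hω]; exact hwe)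
    rw [this, num_unnum w hw]
    exact hw

end Cfsg.Lib.Classical.PrimeDim.SingerTwo
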