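import Mathlib

/-! Codes for the fields with nine and twenty-five elements, and matrices of degree three over them. -/

set_option autoImplicit false

namespace Cfsg.Lib.Classical.PrimeDim.ThreeSmall

/-- Coded vectors: `a + p * b` stands for `a + b * s`, where `s * s = 2`. -/
abbrev Vec := Fin 3 → ℕ

/-- Coded matrices. -/
abbrev Code := Fin 3 → Fin 3 → ℕ

/-- The code of a pair. -/
def cd (p a b : ℕ) : ℕ := a % p + p * (b % p)

/-- The sum. -/
def cadd (p x y : ℕ) : ℕ := cd p (x % p + y % p) (x / p + y / p)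

/-- The product. -/
def cmul (p x y : ℕ) : ℕ :=
  cd p (x % p * (y % p) + 2 * (x / p * (y / p))) (x % p * (y / p) + x / p * (y % p))

/-- The negative. -/
def cneg (p x : ℕ) : ℕ := cd p (p - x % p) (p * p - x / p)

/-- The conjugate. -/
def cconj (p x : ℕ) : ℕ := cd p (x % p) (p * p - x / p)

/-- A candidate for the inverse. -/
def cinv (p x : ℕ) : ℕ := cmul p (cconj p x) (cmul p x (cconj p x) ^ (p - 2) % p)

/-- A sum of three codes. -/
def sum3 (p a b c : ℕ) : ℕ := cadd p (cadd p a b) c

/-- The product of coded matrices. -/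
def mmul (p : ℕ) (A B : Code) : Code := fun i j =>
  sum3 p (cmul p (A i 0) (B 0 j)) (cmul p (A i 1) (B 1 j)) (cmul p (A i 2) (B 2 j))

/-- The product of a coded matrix and a coded vector. -/
def mvec (p : ℕ) (A : Code) (v : Vec) : Vec := fun i =>
  sum3 p (cmul p (A i 0) (v 0)) (cmul p (A i 1) (v 1)) (cmul p (A i 2) (v 2))

/-- The coded form. -/
def cherm (p : ℕ) (u v : Vec) : ℕ :=
  sum3 p (cmul p (u 0) (cconj p (v 0))) (cmul p (u 1) (cconj p (v 1))) (cmul p (u 2) (cconj p (v 2)))

/-- Scalar matrices. -/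
def scal (s : ℕ) : Code := fun i j => if i = j then s else 0

/-- The conjugate transpose. -/
def starC (p : ℕ) (A : Code) : Code := fun i j => cconj p (A j i)

/-- Powers. -/
def cpow (p : ℕ) (A : Code) : ℕ → Code
  | 0 => scal 1
  | m + 1 => mmul p A (cpow p A m)

/-- The trace. -/
def ctr (p : ℕ) (A : Code) : ℕ := sum3 p (A 0 0) (A 1 1) (A 2 2)

/-- The determinant. -/
def cdet (p : ℕ) (A : Code) : ℕ :=
  sum3 p
    (cmul p (A 0 0) (cadd p (cmul p (A 1 1) (A 2 2)) (cneg p (cmul p (A 1 2) (A 2 1)))))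
    (cmul p (A 0 1) (cadd p (cmul p (A 1 2) (A 2 0)) (cneg p (cmul p (A 1 0) (A 2 2)))))
    (cmul p (A 0 2) (cadd p (cmul p (A 1 0) (A 2 1)) (cneg p (cmul p (A 1 1) (A 2 0)))))

/-- Special unitary codes. -/
def Good (p : ℕ) (A : Code) : Prop := mmul p (starC p A) A = scal 1 ∧ cdet p A = 1

instance (p : ℕ) (A : Code) : Decidable (Good p A) := inferInstanceAs (Decidable (_ ∧ _))

/-- The number of a vector. -/
def num (p : ℕ) (v : Vec) : ℕ := v 0 + p * p * (v 1) + p * p * (p * p) * (v 2)

/-- The vector with a given number. -/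
def unnum (p m : ℕ) : Vec := ![m % (p * p), m / (p * p) % (p * p), m / (p * p * (p * p)) % (p * p)]

/-- The first non-zero entry. -/
def lead (v : Vec) : ℕ := if v 0 ≠ 0 then v 0 else if v 1 ≠ 0 then v 1 else v 2

/-- The set of the members of a list, as bits. -/
def maskOf : List ℕ → ℕ
  | [] => 0
  | m :: l => 2 ^ m ||| maskOf l

theorem mem_of_testBit : ∀ {l : List ℕ} {n : ℕ}, (maskOf l).testBit n = true → n ∈ l
  | [], n, h => by simp [maskOf] at h
  | m :: l, n, h => by
    rw [maskOf, Nat.testBit_or, Bool.or_eq_true, Nat.testBit_two_pow] at h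
    rcases h with h | h
    · exact List.mem_cons.mpr (Or.inl (of_decide_eq_true h).symm)
    · exact List.mem_cons.mpr (Or.inr (mem_of_testBit h))

/-- A set of lines is mapped into itself. -/
def Fix (p : ℕ) (A : Code) (S : List ℕ) : Prop :=
  ∀ m ∈ S, cinv p (lead (mvec p A (unnum p m))) ≠ 0 ∧
    (maskOf S).testBit (num p (fun i => cmul p (cinv p (lead (mvec p A (unnum p m)))) (mvec p A (unnum p m) i))) = true

instance (p : ℕ) (A : Code) (S : List ℕ) : Decidable (Fix p A S) := inferInstanceAs (Decidable (∀ m ∈ S, _))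

/-- Some line of a set is mapped out of it. -/
def Moves (p : ℕ) (A : Code) (S : List ℕ) : Prop :=
  ∃ m ∈ S, ∀ m' ∈ S, ∀ k ∈ List.range (p * p), (fun i => cmul p k (unnum p m' i)) ≠ mvec p A (unnum p m)

instance (p : ℕ) (A : Code) (S : List ℕ) : Decidable (Moves p A S) := inferInstanceAs (Decidable (∃ m ∈ S, _))

/-- The matrix with given entries, by rows. -/
def cM (a b c d e f g h i : ℕ) : Code := ![![a, b, c], ![d, e, f], ![g, h, i]]

/-- The matrix with given columns. -/
def cols (u v w : Vec) : Code := fun i j => ![u i, v i, w i] j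

end Cfsg.Lib.Classical.PrimeDim.ThreeSmall
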