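import Cfsg.Agent.Classical.PrimeDim.UnitaryMain
import Cfsg.Agent.Classical.PrimeDim.ThreeSmallCode

/-! Interpretation of the codes, and overgroups given by invariant sets of lines. -/

set_option autoImplicit false
set_option linter.unusedSimpArgs false
set_option linter.unusedSectionVars false
set_option linter.style.haveILetI false

namespace Cfsg.Lib.Classical.PrimeDim.ThreeSmall

open Matrix Cfsg.Geo
open scoped MatrixGroups

universe u

variable {F : Type u} [Field F]

/-- Reading a code. -/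
def ev (p : ℕ) (s : F) (x : ℕ) : F := ((x % p : ℕ) : F) + ((x / p : ℕ) : F) * s

/-- Reading a coded matrix. -/
def mev (p : ℕ) (s : F) (A : Code) : Matrix (Fin 3) (Fin 3) F := Matrix.of fun i j => ev p s (A i j)

/-- Reading a coded vector. -/
def vev (p : ℕ) (s : F) (v : Vec) : Fin 3 → F := fun i => ev p s (v i)

/-- The lines with the given numbers. -/
def lineSet (p : ℕ) (s : F) (S : List ℕ) : Set (Fin 3 → F) :=
  {v | ∃ m ∈ S, ∃ c : F, c ≠ 0 ∧ v = c • vev p s (unnum p m)}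

/-- The setting. -/
structure Ctx [Fintype F] (p : ℕ) (s : F) : Prop where
  cases : p = 3 ∨ p = 5
  card : Fintype.card F = p ^ 2
  char : CharP F p
  sq : s * s = 2
  conj : s ^ p = -s

theorem exists_ctx [Fintype F] {p : ℕ} (hp : p = 3 ∨ p = 5) (hF : Fintype.card F = p ^ 2) : ∃ s : F, Ctx p s := by
  have hpp : p.Prime := by rcases hp with rfl | rfl <;> norm_num
  haveI hchar : CharP F p := by
    obtain ⟨l, f, hl, hc, -, hcard⟩ := exists_char_card F
    rw [Nat.card_eq_fintype_card, hF] at hcard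
    have : p ∣ l ^ f := hcard ▸ dvd_pow_self p two_ne_zero
    rwa [(Nat.prime_dvd_prime_iff_eq hpp hl).mp (hpp.dvd_of_dvd_pow this)]
  obtain ⟨s, hs⟩ : IsSquare (2 : F) := FiniteField.isSquare_two_iff.mpr (by
    rw [hF]; rcases hp with rfl | rfl <;> norm_num)
  refine ⟨s, hp, hF, hchar, hs.symm, ?_⟩
  have h0 : ((p : ℕ) : F) = 0 := CharP.cast_eq_zero F p
  rcases hp with rfl | rfl <;> push_cast at h0
  · linear_combination s * hs.symm + s * h0
  · linear_combination (s ^ 3 + 2 * s) * hs.symm + s * h0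

section

variable [Fintype F] {p : ℕ} {s : F} (C : Ctx p s)
include C

theorem Ctx.pos : 0 < p := by rcases C.cases with rfl | rfl <;> norm_num

theorem Ctx.prime : p.Prime := by rcases C.cases with rfl | rfl <;> norm_num

theorem Ctx.p_eq_zero : (p : F) = 0 := by haveI := C.char; exact CharP.cast_eq_zero F p

theorem Ctx.cast_mod (a : ℕ) : ((a % p : ℕ) : F) = (a : F) := by
  conv_rhs => rw [← Nat.mod_add_div a p]
  push_cast
  rw [C.p_eq_zero, zero_mul, add_zero]

theorem Ctx.cd_lt (a b : ℕ) : cd p a b < p * p := by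
  have h1 := Nat.mod_lt a C.pos
  have h2 := Nat.mod_lt b C.pos
  unfold cd
  nlinarith

theorem Ctx.ev_cd (a b : ℕ) : ev p s (cd p a b) = (a : F) + (b : F) * s := by
  have e1 : cd p a b % p = a % p := by rw [cd, Nat.add_mul_mod_self_left, Nat.mod_mod]
  have e2 : cd p a b / p = b % p := by
    rw [cd, Nat.add_mul_div_left _ _ C.pos, Nat.div_eq_of_lt (Nat.mod_lt a C.pos), zero_add]
  rw [ev, e1, e2, C.cast_mod, C.cast_mod]

theorem Ctx.ev_zero : ev p s 0 = 0 := by simp [ev]

theorem Ctx.ev_one : ev p s 1 = 1 := by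
  rcases C.cases with rfl | rfl <;> simp [ev]

theorem Ctx.ev_add (x y : ℕ) : ev p s (cadd p x y) = ev p s x + ev p s y := by
  rw [cadd, C.ev_cd]; simp only [ev]; push_cast; ring

theorem Ctx.ev_mul (x y : ℕ) : ev p s (cmul p x y) = ev p s x * ev p s y := by
  rw [cmul, C.ev_cd]; simp only [ev]; push_cast
  linear_combination (-(((x / p : ℕ) : F) * ((y / p : ℕ) : F))) * C.sq

theorem Ctx.ev_sum3 (a b c : ℕ) : ev p s (sum3 p a b c) = ev p s a + ev p s b + ev p s c := by
  rw [sum3, C.ev_add, C.ev_add]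

theorem Ctx.ev_neg {x : ℕ} (hx : x < p * p) : ev p s (cneg p x) = -ev p s x := by
  rw [cneg, C.ev_cd, ev, Nat.cast_sub (Nat.mod_lt x C.pos).le, Nat.cast_sub ((Nat.div_le_self x p).trans hx.le)]
  push_cast
  rw [C.p_eq_zero]
  ring

theorem Ctx.frob_s : frob C.card s = -s := by rw [frob_apply, C.conj]

theorem Ctx.ev_conj {x : ℕ} (hx : x < p * p) : ev p s (cconj p x) = frob C.card (ev p s x) := by
  rw [cconj, C.ev_cd, ev, map_add, map_mul, map_natCast, map_natCast, C.frob_s,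
    Nat.cast_sub ((Nat.div_le_self x p).trans hx.le)]
  push_cast
  rw [C.p_eq_zero]
  ring

theorem Ctx.two_s_ne_zero : (2 : F) * s ≠ 0 := by
  intro h
  haveI := C.char
  have h2 : ((2 : ℕ) : F) ≠ 0 := by
    rw [Ne, CharP.cast_eq_zero_iff F p]
    rcases C.cases with rfl | rfl <;> norm_num
  push_cast at h2
  rcases mul_eq_zero.mp h with e | e
  · exact h2 e
  · have := C.sq; rw [e, mul_zero] at this; exact h2 this.symm

theorem Ctx.ev_inj {x y : ℕ} (hx : x < p * p) (hy : y < p * p) (h : ev p s x = ev p s y) : x = y := by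
  haveI := C.char
  have h' := congrArg (frob C.card) h
  simp only [ev, map_add, map_mul, map_natCast, C.frob_s] at h h'
  have hb : ((x / p : ℕ) : F) = ((y / p : ℕ) : F) := by
    refine sub_eq_zero.mp ((mul_eq_zero.mp ?_).resolve_right C.two_s_ne_zero)
    linear_combination h - h'
  have ha : ((x % p : ℕ) : F) = ((y % p : ℕ) : F) := by rw [hb] at h; exact add_right_cancel h
  have e1 : x % p = y % p := by
    have := (CharP.natCast_eq_natCast F p).mp ha
    rwa [Nat.ModEq, Nat.mod_mod, Nat.mod_mod] at this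
  have e2 : x / p = y / p := by
    have := (CharP.natCast_eq_natCast F p).mp hb
    rwa [Nat.ModEq, Nat.mod_eq_of_lt (Nat.div_lt_of_lt_mul hx), Nat.mod_eq_of_lt (Nat.div_lt_of_lt_mul hy)] at this
  rw [← Nat.mod_add_div x p, e1, e2, Nat.mod_add_div]

theorem Ctx.exists_code (c : F) : ∃ x, x < p * p ∧ ev p s x = c := by
  have hb : Function.Bijective fun x : Fin (p * p) => ev p s x :=
    (Fintype.bijective_iff_injective_and_card _).mpr
      ⟨fun x y h => Fin.ext (C.ev_inj x.2 y.2 h), by rw [Fintype.card_fin, C.card, pow_two]⟩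
  obtain ⟨x, hx⟩ := hb.2 c
  exact ⟨x, x.2, hx⟩

theorem Ctx.sum3_lt (a b c : ℕ) : sum3 p a b c < p * p := C.cd_lt _ _

theorem Ctx.mev_mmul (A B : Code) : mev p s (mmul p A B) = mev p s A * mev p s B := by
  ext i j
  simp only [mev, mmul, Matrix.of_apply, Matrix.mul_apply, C.ev_sum3, C.ev_mul, Fin.sum_univ_three]

theorem Ctx.vev_mvec (A : Code) (v : Vec) : vev p s (mvec p A v) = mev p s A *ᵥ vev p s v := by
  funext i
  simp only [vev, mev, mvec, Matrix.mulVec, dotProduct, Matrix.of_apply, C.ev_sum3, C.ev_mul, Fin.sum_univ_three]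

theorem Ctx.mev_scal (x : ℕ) : mev p s (scal x) = ev p s x • 1 := by
  ext i j
  simp only [mev, scal, Matrix.of_apply, Matrix.smul_apply, Matrix.one_apply, smul_eq_mul]
  split_ifs
  · rw [mul_one]
  · rw [mul_zero, C.ev_zero]

theorem Ctx.mev_one : mev p s (scal 1) = 1 := by rw [C.mev_scal, C.ev_one, one_smul]

theorem Ctx.mev_cpow (A : Code) (m : ℕ) : mev p s (cpow p A m) = mev p s A ^ m := by
  induction m with
  | zero => rw [cpow, C.mev_one, pow_zero]
  | succ m ih => rw [cpow, C.mev_mmul, ih, pow_succ']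

theorem Ctx.cmul_lt (a b : ℕ) : cmul p a b < p * p := C.cd_lt _ _

theorem Ctx.mev_det (A : Code) : (mev p s A).det = ev p s (cdet p A) := by
  rw [cdet, C.ev_sum3, Matrix.det_fin_three]
  simp only [mev, Matrix.of_apply, C.ev_mul, C.ev_add, C.ev_neg (C.cmul_lt _ _)]
  ring

theorem Ctx.mev_star {A : Code} (hA : ∀ i j, A i j < p * p) :
    mev p s (starC p A) = ((mev p s A).map (frob C.card))ᵀ := by
  ext i j
  simp only [mev, starC, Matrix.of_apply, Matrix.transpose_apply, Matrix.map_apply, C.ev_conj (hA _ _)]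

theorem Ctx.cherm_eq {u v : Vec} (hv : ∀ i, v i < p * p) :
    ev p s (cherm p u v) = Cfsg.hermForm 3 F p (vev p s u) (vev p s v) := by
  simp only [cherm, Cfsg.hermForm, C.ev_sum3, C.ev_mul, C.ev_conj (hv _), frob_apply, Fin.sum_univ_three, vev]

theorem Ctx.exists_vec (x : Fin 3 → F) : ∃ v : Vec, (∀ i, v i < p * p) ∧ vev p s v = x := by
  choose v hv hvx using fun i => C.exists_code (x i)
  exact ⟨v, hv, funext hvx⟩

theorem Ctx.exists_mat (M : Matrix (Fin 3) (Fin 3) F) : ∃ A : Code, (∀ i j, A i j < p * p) ∧ mev p s A = M := by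
  choose A hA hAM using fun i j => C.exists_code (M i j)
  exact ⟨A, hA, Matrix.ext hAM⟩

theorem Ctx.code_eq {A B : Code} (hA : ∀ i j, A i j < p * p) (hB : ∀ i j, B i j < p * p)
    (h : mev p s A = mev p s B) : A = B :=
  funext fun i => funext fun j => C.ev_inj (hA i j) (hB i j) (congrFun (congrFun h i) j)

theorem Ctx.vec_eq {u v : Vec} (hu : ∀ i, u i < p * p) (hv : ∀ i, v i < p * p) (h : vev p s u = vev p s v) : u = v :=
  funext fun i => C.ev_inj (hu i) (hv i) (congrFun h i)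

theorem Ctx.gram_eq : gramMatrix (Cfsg.hermForm 3 F p) = 1 := by
  ext i j
  simp only [gramMatrix, hermForm_eq C.card, stdHerm, Units.val_one, Matrix.one_mulVec]
  rw [Finset.sum_eq_single i (fun l _ hl => by rw [Pi.single_eq_of_ne hl, zero_mul]) (by simp), Pi.single_eq_same,
    one_mul, Matrix.one_apply, Pi.single_apply]
  split_ifs <;> simp

/-- The special unitary element of a good code. -/
theorem Ctx.exists_el {A : Code} (hA : ∀ i j, A i j < p * p) (h : Good p A) :
    ∃ g ∈ suGL 3 F p, (g : Matrix (Fin 3) (Fin 3) F) = mev p s A := by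
  have h1 : mev p s (starC p A) * mev p s A = 1 := by rw [← C.mev_mmul, h.1, C.mev_one]
  let g : GL (Fin 3) F := ⟨mev p s A, mev p s (starC p A), mul_eq_one_comm.mp h1, h1⟩
  refine ⟨g, ⟨mem_GU_iff.mpr fun u v => ?_, ?_⟩, rfl⟩
  · have hT : (mev p s A)ᵀ * (mev p s A).map (frob C.card) = 1 := by
      rw [C.mev_star hA] at h1
      have e2 := congrArg Matrix.transpose h1
      rwa [Matrix.transpose_mul, Matrix.transpose_transpose, Matrix.transpose_one] at e2
    have := ((herm_isSesq (n := 3) C.card).fixes_iff (s := mev p s A) (1 : F)).mpr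
      (by rw [C.gram_eq, mul_one, one_smul, hT]) u v
    rwa [one_mul] at this
  · show Matrix.GeneralLinearGroup.det g = 1
    refine Units.ext ?_
    rw [Matrix.GeneralLinearGroup.val_det_apply, Units.val_one]
    show (mev p s A).det = 1
    rw [C.mev_det, h.2, C.ev_one]

theorem Ctx.unnum_num {v : Vec} (hv : ∀ i, v i < p * p) : unnum p (num p v) = v := by
  have hN : 0 < p * p := Nat.mul_pos C.pos C.pos
  have e : num p v = v 0 + p * p * (v 1 + p * p * v 2) := by unfold num; ring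
  funext i
  fin_cases i
  · show num p v % (p * p) = v 0
    rw [e, Nat.add_mul_mod_self_left, Nat.mod_eq_of_lt (hv 0)]
  · show num p v / (p * p) % (p * p) = v 1
    rw [e, Nat.add_mul_div_left _ _ hN, Nat.div_eq_of_lt (hv 0), zero_add, Nat.add_mul_mod_self_left,
      Nat.mod_eq_of_lt (hv 1)]
  · show num p v / (p * p * (p * p)) % (p * p) = v 2
    rw [← Nat.div_div_eq_div_mul, e, Nat.add_mul_div_left _ _ hN, Nat.div_eq_of_lt (hv 0), zero_add,
      Nat.add_mul_div_left _ _ hN, Nat.div_eq_of_lt (hv 1), zero_add, Nat.mod_eq_of_lt (hv 2)]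

theorem Ctx.mem_stab {g : GL (Fin 3) F} {A : Code} (hg : (g : Matrix (Fin 3) (Fin 3) F) = mev p s A) {S : List ℕ}
    (h : Fix p A S) : g ∈ stabilizing (glToMat (Fin 3) F) (lineSet p s S) := by
  classical
  set L := lineSet p s S
  have hmaps : Set.MapsTo (fun u => (g : Matrix (Fin 3) (Fin 3) F) *ᵥ u) L L := by
    rintro _ ⟨m, hm, c, hc, rfl⟩
    obtain ⟨hk, hmem⟩ := h m hm
    set k := cinv p (lead (mvec p A (unnum p m))) with hkdef
    have hk0 : ev p s k ≠ 0 := fun e =>
      hk (C.ev_inj (C.cmul_lt _ _) (Nat.mul_pos C.pos C.pos) (e.trans C.ev_zero.symm))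
    refine ⟨_, mem_of_testBit hmem, c / ev p s k, div_ne_zero hc hk0, ?_⟩
    show (g : Matrix (Fin 3) (Fin 3) F) *ᵥ (c • vev p s (unnum p m)) = _
    rw [C.unnum_num fun i => C.cmul_lt _ _, hg, Matrix.mulVec_smul, ← C.vev_mvec]
    funext i
    simp only [vev, Pi.smul_apply, smul_eq_mul, C.ev_mul]
    field_simp
  have hinj : Function.Injective (fun u => (g : Matrix (Fin 3) (Fin 3) F) *ᵥ u) := fun a b e => by
    have h1 := congrArg (fun u => ((g⁻¹ : GL (Fin 3) F) : Matrix (Fin 3) (Fin 3) F) *ᵥ u) e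
    simpa only [inv_mulVec_mulVec] using h1
  intro v
  refine ⟨fun hv => hmaps hv, fun hv => ?_⟩
  obtain ⟨u, hu, hu'⟩ := (((Set.toFinite L).injOn_iff_bijOn_of_mapsTo hmaps).mp hinj.injOn).surjOn hv
  exact hinj hu' ▸ hu

theorem Ctx.not_mem_stab {g : GL (Fin 3) F} {A : Code} (hg : (g : Matrix (Fin 3) (Fin 3) F) = mev p s A) {S : List ℕ}
    (h : Moves p A S) : g ∉ stabilizing (glToMat (Fin 3) F) (lineSet p s S) := by
  intro hmem
  obtain ⟨m, hm, hall⟩ := h
  obtain ⟨m', hm', c, -, e⟩ := (hmem (vev p s (unnum p m))).mp ⟨m, hm, 1, one_ne_zero, by rw [one_smul]⟩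
  obtain ⟨k, hk, rfl⟩ := C.exists_code c
  refine hall m' hm' k (List.mem_range.mpr hk) ?_
  refine C.vec_eq (fun i => C.cmul_lt _ _) (fun i => C.sum3_lt _ _ _) ?_
  rw [C.vev_mvec, ← hg]
  refine Eq.trans ?_ e.symm
  funext i
  simp only [vev, Pi.smul_apply, smul_eq_mul, C.ev_mul]

/-- A larger stabiliser of a set of lines shows that a subgroup is not maximal. -/
theorem Ctx.refute {H : Subgroup (GL (Fin 3) F)} (hH : IsMaximalIn (suGL 3 F p) H) {G : GL (Fin 3) F}
    (hG : G ∈ Cfsg.GU 3 F p) {g t : Code} (hgb : ∀ i j, g i j < p * p) (htb : ∀ i j, t i j < p * p)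
    (hg : Good p g) (ht : Good p t) {S T : List ℕ} (hgS : Fix p g S) (hgT : Moves p g T) (htS : Moves p t S)
    (hH' : ∀ h ∈ H, G⁻¹ * h * G ∈ stabilizing (glToMat (Fin 3) F) (lineSet p s S) ∧
      G⁻¹ * h * G ∈ stabilizing (glToMat (Fin 3) F) (lineSet p s T)) : False := by
  obtain ⟨g₀, hg₀, hg₀v⟩ := C.exists_el hgb hg
  obtain ⟨t₀, ht₀, ht₀v⟩ := C.exists_el htb ht
  have hTn : ∀ z ∈ suGL 3 F p, ∀ c ∈ Cfsg.GU 3 F p, c * z * c⁻¹ ∈ suGL 3 F p := fun z hz c hc =>
    ⟨Subgroup.mul_mem _ (Subgroup.mul_mem _ hc hz.1) (Subgroup.inv_mem _ hc), by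
      show Matrix.GeneralLinearGroup.det (c * z * c⁻¹) = 1
      rw [map_mul, map_mul, MonoidHom.mem_ker.mp hz.2, mul_one, ← map_mul, mul_inv_cancel, map_one]⟩
  set M := stabilizing (glToMat (Fin 3) F) (lineSet p s S) ⊓ suGL 3 F p
  let M' : Subgroup (GL (Fin 3) F) := M.map (MulAut.conj G).toMonoidHom
  have hmem : ∀ x, x ∈ M' ↔ G⁻¹ * x * G ∈ M := fun x => by
    constructor
    · rintro ⟨y, hy, rfl⟩; simpa [mul_assoc] using hy
    · exact fun h => ⟨_, h, by simp [mul_assoc]⟩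
  have hle : H ≤ M' := fun h hh => (hmem h).mpr ⟨(hH' h hh).1, by
    have := hTn h (hH.1.le hh) G⁻¹ (Subgroup.inv_mem _ hG)
    rwa [inv_inv] at this⟩
  have hle' : M' ≤ suGL 3 F p := by
    rintro _ ⟨y, hy, rfl⟩; exact hTn y hy.2 G hG
  rcases hH.2 M' hle hle' with e | e
  · have hx : G * g₀ * G⁻¹ ∈ H := e ▸ (hmem _).mpr (by
      rw [show G⁻¹ * (G * g₀ * G⁻¹) * G = g₀ by simp [mul_assoc]]
      exact ⟨C.mem_stab hg₀v hgS, hg₀⟩)
    have := (hH' _ hx).2
    rw [show G⁻¹ * (G * g₀ * G⁻¹) * G = g₀ by simp [mul_assoc]] at this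
    exact C.not_mem_stab hg₀v hgT this
  · have hx : G * t₀ * G⁻¹ ∈ M' := e.symm ▸ hTn t₀ ht₀ G hG
    have := ((hmem _).mp hx).1
    rw [show G⁻¹ * (G * t₀ * G⁻¹) * G = t₀ by simp [mul_assoc]] at this
    exact C.not_mem_stab ht₀v htS this

end

end Cfsg.Lib.Classical.PrimeDim.ThreeSmall
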