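import Cfsg.Agent.Classical.PrimeDim.ThreeSmallData

/-! The finite verifications for the overgroups in `SU₃(3)` and `SU₃(5)`. -/

set_option autoImplicit false
set_option maxRecDepth 100000
set_option synthInstance.maxSize 20000
set_option synthInstance.maxHeartbeats 4000000

namespace Cfsg.Lib.Classical.PrimeDim.ThreeSmall

/-- A permutation code of determinant one. -/
def pcode (f : Fin 3 → Fin 3) : Code := fun i j =>
  if i = f j then (if j = 0 then cdet 5 (fun a b => if a = f b then 1 else 0) else 1) else 0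

/-- Diagonal codes. -/
def dcode (x y z : ℕ) : Code := cM x 0 0 0 y 0 0 0 z

/-- The Heisenberg diagonal and shift. -/
def hX : Code := cM 1 0 0 0 12 0 0 0 17

/-- The shift. -/
def hY : Code := cM 0 0 1 1 0 0 0 1 0

/-- The elements of the Heisenberg group. -/
def helt (i j k : ℕ) : Code := mmul 5 (scal (cpow 5 (scal 12) i 0 0)) (mmul 5 (cpow 5 hX j) (cpow 5 hY k))

theorem frame_data : Good 5 frameg ∧ Good 5 framet ∧ Fix 5 frameg frameS ∧ Moves 5 frameg frameT ∧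
    Moves 5 framet frameS ∧ (∀ i j, frameg i j < 5 * 5) ∧ (∀ i j, framet i j < 5 * 5) := by decide +kernel

theorem five_data : Good 5 fiveg ∧ Good 5 fivet ∧ Fix 5 fiveg fiveS ∧ Moves 5 fiveg fiveT ∧
    Moves 5 fivet fiveS ∧ (∀ i j, fiveg i j < 5 * 5) ∧ (∀ i j, fivet i j < 5 * 5) := by decide +kernel

theorem heis_data : Good 5 heisg ∧ Good 5 heist ∧ Fix 5 heisg heisS ∧ Moves 5 heisg heisT ∧
    Moves 5 heist heisS ∧ (∀ i j, heisg i j < 5 * 5) ∧ (∀ i j, heist i j < 5 * 5) := by decide +kernel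

theorem singer5_data : Good 5 singer5g ∧ Good 5 singer5t ∧ Fix 5 singer5g singer5S ∧ Moves 5 singer5g singer5T ∧
    Moves 5 singer5t singer5S ∧ (∀ i j, singer5g i j < 5 * 5) ∧ (∀ i j, singer5t i j < 5 * 5) := by decide +kernel

theorem singer3_data : Good 3 singer3g ∧ Good 3 singer3t ∧ Fix 3 singer3g singer3S ∧ Moves 3 singer3g singer3T ∧
    Moves 3 singer3t singer3S ∧ (∀ i j, singer3g i j < 3 * 3) ∧ (∀ i j, singer3t i j < 3 * 3) := by decide +kernel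

theorem mu_complete : ∀ x < 25, cmul 5 x (cconj 5 x) = 1 → x ∈ mu := by decide +kernel

theorem perm_fix : ∀ f : Fin 3 → Fin 3, Function.Injective f →
    Good 5 (pcode f) ∧ Fix 5 (pcode f) frameS ∧ Fix 5 (pcode f) frameT := by decide +kernel

theorem diag_fix : ∀ x ∈ mu, ∀ y ∈ mu, ∀ z ∈ mu, cdet 5 (dcode x y z) = 1 →
    Fix 5 (dcode x y z) frameS ∧ Fix 5 (dcode x y z) frameT := by decide +kernel

theorem real_complete : (∀ a < 5, ∀ b < 5, ∀ c < 5, cherm 5 ![a, b, c] ![a, b, c] = 1 → num 5 ![a, b, c] ∈ real5) ∧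
    (∀ a < 3, ∀ b < 3, ∀ c < 3, cherm 3 ![a, b, c] ![a, b, c] = 1 → num 3 ![a, b, c] ∈ real3) := by decide +kernel

theorem real_fix : ∀ a ∈ real5, ∀ b ∈ real5, cherm 5 (unnum 5 a) (unnum 5 b) = 0 → ∀ c ∈ real5,
    cherm 5 (unnum 5 a) (unnum 5 c) = 0 → cherm 5 (unnum 5 b) (unnum 5 c) = 0 →
    cdet 5 (cols (unnum 5 a) (unnum 5 b) (unnum 5 c)) = 1 →
    Fix 5 (cols (unnum 5 a) (unnum 5 b) (unnum 5 c)) fiveS ∧ Fix 5 (cols (unnum 5 a) (unnum 5 b) (unnum 5 c)) fiveT := by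
  decide +kernel

theorem root_fix : ∀ x < 25, cmul 5 x (cmul 5 x x) = 1 → Fix 5 (scal x) fiveS ∧ Fix 5 (scal x) fiveT := by
  decide +kernel

theorem real_monomial : ∀ a ∈ real3, ∃ i : Fin 3, ∀ j, j ≠ i → unnum 3 a j = 0 := by decide +kernel

theorem root_values : ∀ x < 25, sum3 5 (cmul 5 x x) x 1 = 0 → x = 12 ∨ x = 17 := by decide +kernel

theorem helt_low : ∀ i < 3, ∀ j < 3, ∀ k < 2, helt i j k 1 2 = 0 := by decide +kernel

theorem helt_high : ∀ i < 3, ∀ j < 3, helt i j 2 2 1 = 0 := by decide +kernel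

theorem heis_low : ∀ i < 3, ∀ j < 3, ∀ k < 2, (j ≠ 0 ∨ k ≠ 0) → ∀ a < 25, ∀ b < 25,
    mvec 5 (helt i j k) ![a, b, 0] 1 = b → ∀ c < 25, mvec 5 (helt i j k) ![a, b, c] = ![a, b, c] →
      cherm 5 ![a, b, c] ![a, b, c] = 1 → (maskOf heisFX).testBit (num 5 ![a, b, c]) = true := by decide +kernel

theorem heis_high : ∀ i < 3, ∀ j < 3, ∀ a < 25, ∀ c < 25,
    mvec 5 (helt i j 2) ![a, 0, c] 2 = c → ∀ b < 25, mvec 5 (helt i j 2) ![a, b, c] = ![a, b, c] →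
      cherm 5 ![a, b, c] ![a, b, c] = 1 → (maskOf heisFX).testBit (num 5 ![a, b, c]) = true := by decide +kernel

theorem heis_fix : ∀ m ∈ heisFX, ∀ i < 3, ∀ j < 3, ∀ k < 3,
    Good 5 (cols (unnum 5 m) (mvec 5 (helt i j k) (unnum 5 m))
      (mvec 5 (helt i j k) (mvec 5 (helt i j k) (unnum 5 m)))) →
    Fix 5 (cols (unnum 5 m) (mvec 5 (helt i j k) (unnum 5 m))
      (mvec 5 (helt i j k) (mvec 5 (helt i j k) (unnum 5 m)))) heisS ∧
    Fix 5 (cols (unnum 5 m) (mvec 5 (helt i j k) (unnum 5 m))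
      (mvec 5 (helt i j k) (mvec 5 (helt i j k) (unnum 5 m)))) heisT := by decide +kernel

theorem singer5_cent : ∀ a < 25, ∀ b < 25, ∀ c < 25, cherm 5 ![a, b, c] ![a, b, c] = 1 →
    cherm 5 ![a, b, c] (mvec 5 singer5y ![a, b, c]) = cherm 5 ![1, 0, 0] (mvec 5 singer5y ![1, 0, 0]) →
    cdet 5 (cols ![a, b, c] (mvec 5 singer5y ![a, b, c]) (mvec 5 singer5y (mvec 5 singer5y ![a, b, c]))) =
      cdet 5 (cols ![1, 0, 0] (mvec 5 singer5y ![1, 0, 0]) (mvec 5 singer5y (mvec 5 singer5y ![1, 0, 0]))) →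
    cherm 5 ![a, b, c] (mvec 5 singer5y (mvec 5 singer5y ![a, b, c])) =
      cherm 5 ![1, 0, 0] (mvec 5 singer5y (mvec 5 singer5y ![1, 0, 0])) →
    ∃ i < 7, ∃ x ∈ [1, 12, 17], ![a, b, c] = mvec 5 (mmul 5 (cpow 5 singer5y i) (scal x)) ![1, 0, 0] := by
  decide +kernel

theorem singer3_cent : ∀ a < 9, ∀ b < 9, ∀ c < 9, cherm 3 ![a, b, c] ![a, b, c] = 1 →
    cherm 3 ![a, b, c] (mvec 3 singer3y ![a, b, c]) = cherm 3 ![1, 0, 0] (mvec 3 singer3y ![1, 0, 0]) →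
    cdet 3 (cols ![a, b, c] (mvec 3 singer3y ![a, b, c]) (mvec 3 singer3y (mvec 3 singer3y ![a, b, c]))) =
      cdet 3 (cols ![1, 0, 0] (mvec 3 singer3y ![1, 0, 0]) (mvec 3 singer3y (mvec 3 singer3y ![1, 0, 0]))) →
    cherm 3 ![a, b, c] (mvec 3 singer3y (mvec 3 singer3y ![a, b, c])) =
      cherm 3 ![1, 0, 0] (mvec 3 singer3y (mvec 3 singer3y ![1, 0, 0])) →
    ∃ i < 7, ∃ x ∈ [1], ![a, b, c] = mvec 3 (mmul 3 (cpow 3 singer3y i) (scal x)) ![1, 0, 0] := by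
  decide +kernel

theorem singer5_power : ∀ i < 7, ∀ x ∈ [1, 12, 17], cpow 5 (mmul 5 (cpow 5 singer5y i) (scal x)) 7 = scal 1 →
    ctr 5 (mmul 5 (cpow 5 singer5y i) (scal x)) = ctr 5 singer5y →
    ∃ e < 3, mmul 5 (cpow 5 singer5y i) (scal x) = cpow 5 singer5y (4 ^ e % 7) := by decide +kernel

theorem singer3_power : ∀ i < 7, ∀ x ∈ [1], cpow 3 (mmul 3 (cpow 3 singer3y i) (scal x)) 7 = scal 1 →
    ctr 3 (mmul 3 (cpow 3 singer3y i) (scal x)) = ctr 3 singer3y →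
    ∃ e < 3, mmul 3 (cpow 3 singer3y i) (scal x) = cpow 3 singer3y (2 ^ e % 7) := by decide +kernel

theorem singer_scal : (∀ x ∈ [1, 12, 17], Fix 5 (scal x) singer5S ∧ Fix 5 (scal x) singer5T) ∧
    (∀ x ∈ [1], Fix 3 (scal x) singer3S ∧ Fix 3 (scal x) singer3T) := by decide +kernel

theorem singer5_basic : Good 5 singer5y ∧ Good 5 singer5f ∧ cpow 5 singer5y 7 = scal 1 ∧
    mmul 5 singer5f singer5y = mmul 5 (cpow 5 singer5y 4) singer5f ∧
    mmul 5 (cols ![1, 0, 0] (mvec 5 singer5y ![1, 0, 0]) (mvec 5 singer5y (mvec 5 singer5y ![1, 0, 0]))) singer5pi =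
      scal 1 ∧
    Fix 5 singer5y singer5S ∧ Fix 5 singer5y singer5T ∧ Fix 5 singer5f singer5S ∧ Fix 5 singer5f singer5T ∧
    (∀ i j, singer5y i j < 5 * 5) ∧ (∀ i j, singer5f i j < 5 * 5) ∧ (∀ i j, singer5pi i j < 5 * 5) := by decide +kernel

theorem singer3_basic : Good 3 singer3y ∧ Good 3 singer3f ∧ cpow 3 singer3y 7 = scal 1 ∧
    mmul 3 singer3f singer3y = mmul 3 (cpow 3 singer3y 2) singer3f ∧
    mmul 3 (cols ![1, 0, 0] (mvec 3 singer3y ![1, 0, 0]) (mvec 3 singer3y (mvec 3 singer3y ![1, 0, 0]))) singer3pi =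
      scal 1 ∧
    Fix 3 singer3y singer3S ∧ Fix 3 singer3y singer3T ∧ Fix 3 singer3f singer3S ∧ Fix 3 singer3f singer3T ∧
    (∀ i j, singer3y i j < 3 * 3) ∧ (∀ i j, singer3f i j < 3 * 3) ∧ (∀ i j, singer3pi i j < 3 * 3) := by decide +kernel

end Cfsg.Lib.Classical.PrimeDim.ThreeSmall
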