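import Cfsg.Agent.Classical.PrimeDim.ThreeSmallBase
import Cfsg.Agent.Classical.PrimeDim.ThreeSmallChecks
import Cfsg.Agent.Classical.Aschbacher.SymmCongr
import Cfsg.Agent.Classical.Unitary.SympSubMatrix
import Cfsg.Agent.Classical.Misc.ExtraThreeApply

/-! Frames, subfields and extraspecial normalisers in `SU₃(3)` and `SU₃(5)`. -/

set_option autoImplicit false
set_option linter.unusedSimpArgs false
set_option linter.unusedSectionVars false
set_option linter.style.haveILetI false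
set_option maxRecDepth 100000
set_option synthInstance.maxSize 20000
set_option synthInstance.maxHeartbeats 4000000

namespace Cfsg.Lib.Classical.PrimeDim.ThreeSmall

open Matrix Cfsg.Geo
open scoped MatrixGroups
open Cfsg.Lib.Classical.ExtraThree (dA mB Frame exists_frame exists_unitary_frame exists_omega root_ne)

universe u

theorem pcode_lt : ∀ f : Fin 3 → Fin 3, ∀ i j, pcode f i j < 5 * 5 := by decide +kernel

theorem helt_mul : ∀ i < 3, ∀ j < 3, ∀ k < 3, ∀ a < 3, ∀ b < 3, ∀ d < 3,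
    mmul 5 (helt i j k) (helt a b d) = helt ((i + a + 2 * k * b) % 3) ((j + b) % 3) ((k + d) % 3) := by decide +kernel

theorem helt_gen : helt 0 0 0 = scal 1 ∧ helt 0 1 0 = hX ∧ helt 0 2 0 = dcode 1 17 12 ∧ helt 0 0 1 = hY ∧
    (∀ i < 3, helt i 0 0 = scal (helt i 0 0 0 0)) := by decide +kernel

variable {F : Type u} [Field F] [Fintype F] {p : ℕ} {s : F}

section

variable (C : Ctx p s)
include C

theorem Ctx.one_lt : 1 < p * p := by rcases C.cases with rfl | rfl <;> norm_num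

theorem Ctx.good_of_mem {g : GL (Fin 3) F} (hg : g ∈ suGL 3 F p) {A : Code} (hA : ∀ i j, A i j < p * p)
    (e : (g : Matrix (Fin 3) (Fin 3) F) = mev p s A) : Good p A := by
  refine ⟨C.code_eq (fun i j => C.sum3_lt _ _ _) (fun i j => ?_) ?_, C.ev_inj (C.sum3_lt _ _ _) C.one_lt ?_⟩
  · unfold scal
    split_ifs
    · exact C.one_lt
    · exact Nat.mul_pos C.pos C.pos
  · rw [C.mev_mmul, C.mev_star hA, C.mev_one, ← e]
    have h := congrArg Matrix.transpose (gu_transpose C.card hg.1)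
    rwa [Matrix.transpose_mul, Matrix.transpose_transpose, Matrix.transpose_one] at h
  · rw [← C.mev_det, ← e, C.ev_one]
    exact det_eq_one le_rfl hg.2

theorem Ctx.mev_mulVec_single (A : Code) (j : Fin 3) :
    mev p s A *ᵥ Pi.single j 1 = vev p s (fun i => A i j) := by
  funext i
  rw [Matrix.mulVec_single_one]
  rfl

theorem Ctx.vev_unit : vev p s ![1, 0, 0] = Pi.single (0 : Fin 3) (1 : F) := by
  funext i
  fin_cases i <;> simp [vev, C.ev_one, C.ev_zero]

theorem Ctx.exists_GU {M : Matrix (Fin 3) (Fin 3) F} (hM : Mᵀ * M.map (frob C.card) = 1) :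
    ∃ G ∈ Cfsg.GU 3 F p, (G : Matrix (Fin 3) (Fin 3) F) = M := by
  have hd : M.det ≠ 0 := fun e => by
    have h := congrArg Matrix.det hM
    rw [Matrix.det_mul, Matrix.det_transpose, e, zero_mul, Matrix.det_one] at h
    exact zero_ne_one h
  refine ⟨Matrix.GeneralLinearGroup.mkOfDetNeZero M hd, mem_GU_iff.mpr fun u v => ?_, rfl⟩
  have := ((herm_isSesq (n := 3) C.card).fixes_iff (s := M) (1 : F)).mpr
    (by rw [C.gram_eq, mul_one, one_smul, hM]) u v
  rw [one_mul] at this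
  exact this

omit C in
theorem conj_mem_suGL {G h : GL (Fin 3) F} (hG : G ∈ Cfsg.GU 3 F p) (hh : h ∈ suGL 3 F p) :
    G⁻¹ * h * G ∈ suGL 3 F p :=
  ⟨Subgroup.mul_mem _ (Subgroup.mul_mem _ (Subgroup.inv_mem _ hG) hh.1) hG, by
    show Matrix.GeneralLinearGroup.det (G⁻¹ * h * G) = 1
    rw [map_mul, map_mul, MonoidHom.mem_ker.mp hh.2, mul_one, ← map_mul, inv_mul_cancel, map_one]⟩

theorem Ctx.herm_sum (x y : Fin 3 → F) :
    Cfsg.hermForm 3 F p x y = ∑ k, x k * frob C.card (y k) := by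
  simp only [Cfsg.hermForm, frob_apply]

end

/-- In `SU₃(5)` a frame stabiliser is not maximal. -/
theorem frame_false (C : Ctx 5 s) {H : Subgroup (GL (Fin 3) F)} (hH : IsMaximalIn (suGL 3 F 5) H)
    {D : Fin 3 → Submodule F (Fin 3 → F)} (hD : IsNondegenerateMDecomposition (Cfsg.hermForm 3 F 5) 1 D)
    (hle : H ≤ decompositionStabilizer D) : False := by
  classical
  set σ := frob C.card with hσ
  have hs := herm_isSesq (n := 3) C.card
  have hu : ∀ i, ∃ u ∈ D i, Cfsg.hermForm 3 F 5 u u = 1 ∧ ∀ x ∈ D i, ∃ c : F, x = c • u := by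
    intro i
    obtain ⟨⟨v, hv⟩, hv0, hspan⟩ := finrank_eq_one_iff'.mp (hD.decomp.finrank_eq i)
    have hvne : v ≠ 0 := fun e => hv0 (Subtype.ext e)
    have hspan' : ∀ x ∈ D i, ∃ c : F, x = c • v := fun x hx => by
      obtain ⟨c, hc⟩ := hspan ⟨x, hx⟩
      exact ⟨c, (congrArg Subtype.val hc).symm⟩
    obtain ⟨⟨x, hx, hxv⟩, -⟩ := hD.nondegenerate i v hv hvne
    obtain ⟨c, rfl⟩ := hspan' x hx
    rw [hs.smul_left] at hxv
    have hk : Cfsg.hermForm 3 F 5 v v ≠ 0 := right_ne_zero_of_mul hxv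
    obtain ⟨t, ht⟩ := exists_norm_eq C.card (a := (Cfsg.hermForm 3 F 5 v v)⁻¹) (by
      rw [map_inv₀, ← (herm_isUnitary C.card).herm v v])
    have ht0 : t ≠ 0 := fun e => by rw [e, zero_mul] at ht; exact inv_ne_zero hk ht.symm
    refine ⟨t • v, Submodule.smul_mem _ t hv, ?_, fun x hx => ?_⟩
    · rw [hs.smul_left, hs.smul_right, ← mul_assoc, ht, inv_mul_cancel₀ hk]
    · obtain ⟨a, rfl⟩ := hspan' x hx
      exact ⟨a / t, by rw [smul_smul, div_mul_cancel₀ a ht0]⟩
  choose u huD hu1 husp using hu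
  obtain ⟨G, hG, hGv⟩ := C.exists_GU (M := Matrix.of fun i j => u j i) (by
    ext i j
    rw [Matrix.mul_apply, Matrix.one_apply]
    simp only [Matrix.transpose_apply, Matrix.map_apply, Matrix.of_apply]
    rw [← C.herm_sum]
    split_ifs with e
    · exact e ▸ hu1 i
    · exact hD.orthogonal i j e _ (huD i) _ (huD j))
  have hGu : ∀ j, (G : Matrix (Fin 3) (Fin 3) F) *ᵥ Pi.single j 1 = u j := fun j => by
    rw [hGv, Matrix.mulVec_single_one]; rfl
  obtain ⟨hg, ht, hgS, hgT, htS, hgb, htb⟩ := frame_data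
  refine C.refute hH hG hgb htb hg ht hgS hgT htS fun h hh => ?_
  obtain ⟨π, hπ⟩ := hle hh
  have hc : ∀ b, ∃ c : F, (h : Matrix (Fin 3) (Fin 3) F) *ᵥ u b = c • u (π b) := fun b =>
    husp (π b) _ (hπ b ▸ ⟨u b, huD b, Matrix.toLin'_apply _ _⟩)
  choose c hc using hc
  set g' := G⁻¹ * h * G with hg'
  have hg'mem : g' ∈ suGL 3 F 5 := conj_mem_suGL hG (hH.1.le hh)
  have hg'v : ∀ b, (g' : Matrix (Fin 3) (Fin 3) F) *ᵥ Pi.single b 1 = c b • Pi.single (π b) 1 := fun b => by
    rw [hg', Units.val_mul, Units.val_mul, ← Matrix.mulVec_mulVec, ← Matrix.mulVec_mulVec, hGu, hc,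
      Matrix.mulVec_smul, ← hGu, inv_mulVec_mulVec]
  obtain ⟨hpgood, hpS, hpT⟩ := perm_fix π π.injective
  obtain ⟨P, hP, hPv⟩ := C.exists_el (pcode_lt π) hpgood
  set k : Fin 3 → F := fun b => ev 5 s (pcode π (π b) b) with hk
  have hPcol : ∀ b, (P : Matrix (Fin 3) (Fin 3) F) *ᵥ Pi.single b 1 = k b • Pi.single (π b) 1 := fun b => by
    rw [hPv, C.mev_mulVec_single]
    funext i
    by_cases e : i = π b
    · subst e; simp [vev, hk]
    · simp [vev, pcode, e, C.ev_zero]
  have hk0 : ∀ b, k b ≠ 0 := fun b e => by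
    have h1 := congrArg (fun v => ((P⁻¹ : GL (Fin 3) F) : Matrix (Fin 3) (Fin 3) F) *ᵥ v) (hPcol b)
    simp only [inv_mulVec_mulVec, e, zero_smul, Matrix.mulVec_zero] at h1
    simpa using congrFun h1 b
  set D' := P⁻¹ * g' with hD'
  have hD'mem : D' ∈ suGL 3 F 5 := Subgroup.mul_mem _ (Subgroup.inv_mem _ hP) hg'mem
  set d : Fin 3 → F := fun b => c b / k b with hd
  have hD'v : ∀ i b, (D' : Matrix (Fin 3) (Fin 3) F) i b = if i = b then d b else 0 := fun i b => by
    have h1 : (D' : Matrix (Fin 3) (Fin 3) F) *ᵥ Pi.single b 1 = d b • Pi.single b 1 := by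
      have e : (P : Matrix (Fin 3) (Fin 3) F) *ᵥ (d b • Pi.single b 1) =
          (g' : Matrix (Fin 3) (Fin 3) F) *ᵥ Pi.single b 1 := by
        rw [Matrix.mulVec_smul, hPcol, smul_smul, hd, div_mul_cancel₀ _ (hk0 b), hg'v]
      rw [hD', Units.val_mul, ← Matrix.mulVec_mulVec, ← e, inv_mulVec_mulVec]
    have := congrFun h1 i
    rw [Matrix.mulVec_single_one, Matrix.col_apply, Pi.smul_apply, Pi.single_apply, smul_eq_mul] at this
    rw [this]
    split_ifs <;> simp
  choose x hx hxd using fun b => C.exists_code (d b)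
  have hnorm : ∀ b, d b * σ (d b) = 1 := fun b => by
    have h := congrFun (congrFun (gu_transpose C.card hD'mem.1) b) b
    rw [Matrix.mul_apply, Matrix.one_apply_eq] at h
    simp only [Matrix.transpose_apply, Matrix.map_apply, hD'v] at h
    rwa [Finset.sum_eq_single b (fun l _ hl => by rw [if_neg hl, zero_mul]) (by simp), if_pos rfl] at h
  have hmu : ∀ b, x b ∈ mu := fun b => mu_complete _ (hx b) (C.ev_inj (C.cmul_lt _ _) C.one_lt (by
    rw [C.ev_mul, C.ev_conj (hx b), hxd, C.ev_one, hnorm b]))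
  have hDm : (D' : Matrix (Fin 3) (Fin 3) F) = mev 5 s (dcode (x 0) (x 1) (x 2)) := by
    ext i j
    rw [hD'v]
    fin_cases i <;> fin_cases j <;> simp [mev, dcode, cM, hxd, C.ev_zero]
  have hdet : cdet 5 (dcode (x 0) (x 1) (x 2)) = 1 := C.ev_inj (C.sum3_lt _ _ _) C.one_lt (by
    rw [← C.mev_det, ← hDm, C.ev_one]
    exact det_eq_one le_rfl hD'mem.2)
  obtain ⟨hdS, hdT⟩ := diag_fix _ (hmu 0) _ (hmu 1) _ (hmu 2) hdet
  rw [show g' = P * D' by rw [hD', mul_inv_cancel_left]]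
  exact ⟨Subgroup.mul_mem _ (C.mem_stab hPv hpS) (C.mem_stab hDm hdS),
    Subgroup.mul_mem _ (C.mem_stab hPv hpT) (C.mem_stab hDm hdT)⟩

/-- The real points of a subfield structure: an orthonormal basis and the real orthogonal matrices. -/
theorem Ctx.real_structure (C : Ctx p s) {H : Subgroup (GL (Fin 3) F)} (hHT : H ≤ suGL 3 F p) {F₀ : Subfield F}
    {P : GL (Fin 3) F} (hcard : Fintype.card F = Nat.card F₀ ^ 2)
    (hrat : IsFormRationalStructure (Cfsg.hermForm 3 F p) F₀ 1 P) (hle : H ≤ subfieldSubgroup F₀ P) :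
    ∃ G ∈ Cfsg.GU 3 F p, ∀ h ∈ H, ∃ x, x < p * p ∧ cmul p x (cmul p x x) = 1 ∧ ∃ A : Code,
      (∀ i j, A i j < p) ∧ mmul p (starC p A) A = scal 1 ∧ cdet p A = 1 ∧
      ((G⁻¹ * h * G : GL (Fin 3) F) : Matrix (Fin 3) (Fin 3) F) = ev p s x • mev p s A := by
  classical
  haveI := Fact.mk C.prime
  haveI := C.char
  set σ := frob C.card with hσ
  haveI : Fintype F₀ := Fintype.ofFinite _
  have hc0 : Fintype.card F₀ = p := by
    rw [C.card, Nat.card_eq_fintype_card] at hcard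
    exact (Nat.pow_left_injective two_ne_zero hcard).symm
  have hfix : ∀ a ∈ F₀, σ a = a := fun a ha => by
    rw [hσ, frob_apply]
    have := congrArg Subtype.val (FiniteField.pow_card (⟨a, ha⟩ : F₀))
    rwa [hc0] at this
  have hreal : ∀ a ∈ F₀, ∀ x, x < p * p → ev p s x = a → x < p := fun a ha x hx e => by
    have h1 := hfix a ha
    rw [← e, hσ, ← C.ev_conj hx] at h1
    have h2 := C.ev_inj (C.cd_lt _ _) hx h1
    by_contra hc
    push Not at hc
    have hd : x / p < p := Nat.div_lt_of_lt_mul hx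
    have hd0 : 0 < x / p := Nat.div_pos hc C.pos
    have h3 := congrArg (· / p) h2
    simp only [cconj, cd, Nat.mod_mod, Nat.add_mul_div_left _ _ C.pos, Nat.div_eq_of_lt (Nat.mod_lt x C.pos),
      zero_add] at h3
    generalize x / p = y at h3 hd hd0
    rcases C.cases with rfl | rfl <;> omega
  -- the Gram matrix of the structure
  have hsingle : ∀ i k : Fin 3, (Pi.single i (1 : F) : Fin 3 → F) k ∈ F₀ := fun i k => by
    rw [Pi.single_apply]; split_ifs <;> simp [F₀.one_mem, F₀.zero_mem]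
  have hXmem : ∀ i j : Fin 3, Cfsg.hermForm 3 F p ((P : Matrix (Fin 3) (Fin 3) F) *ᵥ Pi.single i 1)
      ((P : Matrix (Fin 3) (Fin 3) F) *ᵥ Pi.single j 1) ∈ F₀ := fun i j => by
    have h := hrat _ _ (hsingle i) (hsingle j)
    rwa [one_mul] at h
  let X₀ : Matrix (Fin 3) (Fin 3) F₀ := Matrix.of fun i j => ⟨_, hXmem i j⟩
  let ι₀ : F₀ →+* F := F₀.subtype
  have hXm : X₀.map ι₀ = (P : Matrix (Fin 3) (Fin 3) F)ᵀ * (P : Matrix (Fin 3) (Fin 3) F).map σ := by
    ext i j
    rw [Matrix.map_apply, Matrix.mul_apply]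
    show Cfsg.hermForm 3 F p _ _ = _
    rw [C.herm_sum]
    refine Finset.sum_congr rfl fun k _ => ?_
    rw [Matrix.mulVec_single_one, Matrix.mulVec_single_one]
    rfl
  have hXs : X₀ᵀ = X₀ := by
    ext i j
    show Cfsg.hermForm 3 F p _ _ = Cfsg.hermForm 3 F p _ _
    rw [(herm_isUnitary C.card).herm]
    exact hfix _ (hXmem i j)
  have hX0 : X₀.det ≠ 0 := fun e => by
    have h1 := ι₀.map_det X₀
    rw [e, map_zero, RingHom.mapMatrix_apply, hXm, Matrix.det_mul, Matrix.det_transpose] at h1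
    have hP : (P : Matrix (Fin 3) (Fin 3) F).det ≠ 0 := gl_det_ne_zero P
    rw [show ((P : Matrix (Fin 3) (Fin 3) F).map σ).det = σ (P : Matrix (Fin 3) (Fin 3) F).det from
      (σ.toRingHom.map_det _).symm] at h1
    exact mul_ne_zero hP ((map_ne_zero σ).mpr hP) h1.symm
  set d := X₀.det with hd
  have h2' : (2 : F₀) ≠ 0 := fun e => by
    have := congrArg ι₀ e
    rw [map_ofNat, map_zero] at this
    exact C.two_s_ne_zero (by rw [this, zero_mul])
  obtain ⟨A₀, hA₀, hA₀e⟩ := Cfsg.Lib.Classical.SymmCongr.exists_congr h2' hX0 hXs (Y := d • 1)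
    (by rw [Matrix.det_smul, Matrix.det_one, mul_one]; exact pow_ne_zero _ hX0)
    (by rw [Matrix.transpose_smul, Matrix.transpose_one])
    ⟨d⁻¹, by rw [Matrix.det_smul, Matrix.det_one, mul_one, Fintype.card_fin, ← hd]; field_simp⟩
  set A : Matrix (Fin 3) (Fin 3) F := A₀.map ι₀ with hA
  have hAσ : A.map σ = A := by
    ext i j
    exact hfix _ (A₀ i j).2
  obtain ⟨t, ht⟩ := exists_norm_eq C.card (a := (ι₀ d)⁻¹) (by rw [map_inv₀]; exact congrArg _ (hfix _ d.2))
  have hd0 : ι₀ d ≠ 0 := (map_ne_zero ι₀).mpr hX0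
  have ht0 : t ≠ 0 := fun e => by rw [e, zero_mul] at ht; exact inv_ne_zero hd0 ht.symm
  obtain ⟨G, hG, hGv⟩ := C.exists_GU (M := t • ((P : Matrix (Fin 3) (Fin 3) F) * A)) (by
    have hone : (1 : Matrix (Fin 3) (Fin 3) F₀).map ι₀ = 1 := Matrix.map_one ι₀ (map_zero _) (map_one _)
    have h1 : Aᵀ * X₀.map ι₀ * A = ι₀ d • (1 : Matrix (Fin 3) (Fin 3) F) := by
      rw [hA, ← Matrix.transpose_map, ← Matrix.map_mul, ← Matrix.map_mul, hA₀e,
        Matrix.map_smul' (⇑ι₀) _ _ (map_mul ι₀), hone]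
    rw [Matrix.map_smul' (⇑σ) _ _ (map_mul σ), Matrix.transpose_smul, Matrix.transpose_mul, Matrix.map_mul,
      hAσ, Matrix.smul_mul, Matrix.mul_smul, smul_smul, ht]
    simp only [Matrix.mul_assoc] at h1 ⊢
    rw [hXm] at h1
    simp only [Matrix.mul_assoc] at h1
    rw [h1, smul_smul, inv_mul_cancel₀ hd0, one_smul])
  refine ⟨G, hG, fun h hh => ?_⟩
  obtain ⟨a, ha, hstep⟩ := (Cfsg.Lib.Classical.mem_subfieldSubgroup_iff F₀ P h).mp (hle hh)
  -- the columns of `G⁻¹ h G`
  set g' := G⁻¹ * h * G with hg'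
  have hcol : ∀ j, ∃ r : Fin 3 → F₀, (g' : Matrix (Fin 3) (Fin 3) F) *ᵥ Pi.single j 1 = a • fun i => ι₀ (r i) := by
    intro j
    obtain ⟨r, hr, hre⟩ := hstep (fun i => ι₀ (A₀ i j)) fun i => (A₀ i j).2
    obtain ⟨w, hw⟩ : ∃ w : Fin 3 → F₀, A *ᵥ (fun i => ι₀ (w i)) = r := by
      refine ⟨A₀⁻¹ *ᵥ fun i => ⟨r i, hr i⟩, ?_⟩
      have h1 : A₀ *ᵥ (A₀⁻¹ *ᵥ fun i => (⟨r i, hr i⟩ : F₀)) = fun i => ⟨r i, hr i⟩ := by
        rw [Matrix.mulVec_mulVec, Matrix.mul_nonsing_inv _ (isUnit_iff_ne_zero.mpr hA₀), Matrix.one_mulVec]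
      funext i
      rw [hA]
      have := congrArg ι₀ (congrFun h1 i)
      rwa [RingHom.map_mulVec] at this
    refine ⟨w, ?_⟩
    have hAj : A *ᵥ Pi.single j 1 = fun i => ι₀ (A₀ i j) := by
      rw [Matrix.mulVec_single_one]; rfl
    have e : (h : Matrix (Fin 3) (Fin 3) F) *ᵥ ((G : Matrix (Fin 3) (Fin 3) F) *ᵥ Pi.single j 1) =
        (G : Matrix (Fin 3) (Fin 3) F) *ᵥ (a • fun i => ι₀ (w i)) := by
      rw [hGv, Matrix.smul_mulVec, Matrix.smul_mulVec, ← Matrix.mulVec_mulVec, ← Matrix.mulVec_mulVec, hAj,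
        Matrix.mulVec_smul, Matrix.mulVec_smul, Matrix.mulVec_smul, hre, hw]
    rw [hg', Units.val_mul, Units.val_mul, ← Matrix.mulVec_mulVec, ← Matrix.mulVec_mulVec, e, inv_mulVec_mulVec]
  choose r hr using hcol
  set B₀ : Matrix (Fin 3) (Fin 3) F₀ := Matrix.of fun i j => r j i with hB₀
  have hg'v : (g' : Matrix (Fin 3) (Fin 3) F) = a • B₀.map ι₀ := by
    ext i j
    have := congrFun (hr j) i
    rw [Matrix.mulVec_single_one, Matrix.col_apply] at this
    exact this
  have hg'mem : g' ∈ suGL 3 F p := conj_mem_suGL hG (hHT hh)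
  -- a cube root in the prime field
  have hdet1 : a ^ 3 * ι₀ B₀.det = 1 := by
    have := det_eq_one le_rfl hg'mem.2
    rw [hg'v, Matrix.det_smul, Fintype.card_fin, ← RingHom.mapMatrix_apply, ← RingHom.map_det] at this
    exact this
  have hb0 : B₀.det ≠ 0 := fun e => by rw [e, map_zero, mul_zero] at hdet1; exact zero_ne_one hdet1
  have hcube : ∀ y : F₀, ∃ c : F₀, c ^ 3 = y := fun y => by
    have hy := FiniteField.pow_card y
    rw [hc0] at hy
    rcases C.cases with rfl | rfl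
    · exact ⟨y, hy⟩
    · exact ⟨y ^ 3, by linear_combination (y ^ 4 + 1) * hy⟩
  obtain ⟨c, hc⟩ := hcube (B₀.det)⁻¹
  have hc0' : c ≠ 0 := fun e => by rw [e, zero_pow (by norm_num)] at hc; exact inv_ne_zero hb0 hc.symm
  have hιc : ι₀ c ≠ 0 := (map_ne_zero ι₀).mpr hc0'
  have ha3 : (a / ι₀ c) ^ 3 = 1 := by
    rw [div_pow, ← map_pow, hc, map_inv₀, div_eq_mul_inv, inv_inv, hdet1]
  obtain ⟨x, hx, hxe⟩ := C.exists_code (a / ι₀ c)
  choose A' hA'b hA'e using fun i j => C.exists_code (ι₀ (c * B₀ i j))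
  have hA'v : mev p s A' = ι₀ c • B₀.map ι₀ := by
    ext i j
    simp only [mev, Matrix.of_apply, hA'e, map_mul, Matrix.smul_apply, Matrix.map_apply, smul_eq_mul]
  have hgx : (g' : Matrix (Fin 3) (Fin 3) F) = ev p s x • mev p s A' := by
    rw [hxe, hA'v, smul_smul, div_mul_cancel₀ a hιc, hg'v]
  have hA'lt : ∀ i j, A' i j < p := fun i j => hreal _ (c * B₀ i j).2 _ (hA'b i j) (hA'e i j)
  have hA'σ : (mev p s A').map σ = mev p s A' := by
    ext i j
    simp only [mev, Matrix.map_apply, Matrix.of_apply, hA'e]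
    exact hfix _ (c * B₀ i j).2
  have hN : ev p s x * σ (ev p s x) = 1 := by
    set N := ev p s x * σ (ev p s x)
    have h1 : N ^ 3 = 1 := by
      show (ev p s x * σ (ev p s x)) ^ 3 = 1
      rw [hxe, mul_pow, ← map_pow, ha3, map_one, one_mul]
    have h2 : N ^ p = N := by
      rw [← frob_apply C.card]
      show σ (ev p s x * σ (ev p s x)) = _
      rw [map_mul, hσ, frob_frob, mul_comm]
    rcases C.cases with rfl | rfl
    · rw [← h2, h1]
    · have h0 : N ≠ 0 := fun e => by rw [e] at h1; norm_num at h1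
      exact mul_left_cancel₀ h0 (by linear_combination h2 - N ^ 2 * h1)
  refine ⟨x, hx, ?_, A', hA'lt, ?_, ?_, hgx⟩
  · refine C.ev_inj (C.cmul_lt _ _) C.one_lt ?_
    rw [C.ev_mul, C.ev_mul, C.ev_one, hxe]
    linear_combination ha3
  · refine C.code_eq (fun i j => C.sum3_lt _ _ _) (fun i j => ?_) ?_
    · unfold scal
      split_ifs
      · exact C.one_lt
      · exact Nat.mul_pos C.pos C.pos
    · rw [C.mev_mmul, C.mev_star hA'b, C.mev_one, hA'σ]
      have h := gu_transpose C.card hg'mem.1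
      rw [hgx, Matrix.map_smul' (⇑σ) _ _ (map_mul σ), hA'σ, Matrix.transpose_smul, Matrix.smul_mul, Matrix.mul_smul,
        smul_smul, hN, one_smul] at h
      exact h
  · refine C.ev_inj (C.sum3_lt _ _ _) C.one_lt ?_
    rw [← C.mev_det, C.ev_one, hA'v, Matrix.det_smul, Fintype.card_fin, ← RingHom.mapMatrix_apply, ← RingHom.map_det,
      ← map_pow, ← map_mul, hc, inv_mul_cancel₀ hb0, map_one]

theorem Ctx.col_facts (C : Ctx p s) {A : Code} (hA : ∀ i j, A i j < p * p) (h : mmul p (starC p A) A = scal 1)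
    (j k : Fin 3) : cherm p (fun i => A i j) (fun i => A i k) = if j = k then 1 else 0 := by
  refine C.ev_inj (C.sum3_lt _ _ _) (by split_ifs <;> [exact C.one_lt; exact Nat.mul_pos C.pos C.pos]) ?_
  have e := congrArg (fun M : Matrix (Fin 3) (Fin 3) F => Mᵀ j k) (congrArg (mev p s) h)
  simp only [C.mev_mmul, C.mev_star hA, C.mev_scal, C.ev_one, one_smul, Matrix.transpose_mul, Matrix.transpose_transpose,
    Matrix.transpose_one] at e
  rw [C.cherm_eq (fun i => hA _ _), C.herm_sum]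
  rw [Matrix.mul_apply] at e
  refine Eq.trans ?_ (e.trans ?_)
  · simp [vev, mev]
  · rw [Matrix.one_apply]
    split_ifs <;> simp [C.ev_one, C.ev_zero]

/-- In `SU₃(5)` the real orthogonal group is not maximal. -/
theorem five_false (C : Ctx 5 s) {H : Subgroup (GL (Fin 3) F)} (hH : IsMaximalIn (suGL 3 F 5) H) {F₀ : Subfield F}
    {P : GL (Fin 3) F} (hcard : Fintype.card F = Nat.card F₀ ^ 2)
    (hrat : IsFormRationalStructure (Cfsg.hermForm 3 F 5) F₀ 1 P) (hle : H ≤ subfieldSubgroup F₀ P) : False := by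
  classical
  obtain ⟨G, hG, hGH⟩ := C.real_structure hH.1.le hcard hrat hle
  obtain ⟨hg, ht, hgS, hgT, htS, hgb, htb⟩ := five_data
  refine C.refute hH hG hgb htb hg ht hgS hgT htS fun h hh => ?_
  obtain ⟨x, hx, hx3, A, hA, hAo, hAd, hge⟩ := hGH h hh
  have hA' : ∀ i j, A i j < 5 * 5 := fun i j => (hA i j).trans (by norm_num)
  have hlt : ∀ j i, (fun i => A i j) i < 5 * 5 := fun j i => hA' i j
  have hmem : ∀ j, num 5 (fun i => A i j) ∈ real5 := fun j => by
    have e : (fun i => A i j) = ![A 0 j, A 1 j, A 2 j] := by funext i; fin_cases i <;> rfl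
    rw [e]
    exact real_complete.1 _ (hA 0 j) _ (hA 1 j) _ (hA 2 j) (by rw [← e, C.col_facts hA' hAo]; simp)
  have hcols : cols (fun i => A i 0) (fun i => A i 1) (fun i => A i 2) = A := by
    funext i j; fin_cases j <;> rfl
  have hfix := real_fix _ (hmem 0) _ (hmem 1)
  simp only [C.unnum_num (hlt 0), C.unnum_num (hlt 1), C.col_facts hA' hAo] at hfix
  specialize hfix (by simp) _ (hmem 2)
  simp only [C.unnum_num (hlt 2), C.col_facts hA' hAo, hcols] at hfix
  obtain ⟨hAS, hAT⟩ := hfix (by simp) (by simp) hAd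
  obtain ⟨hxS, hxT⟩ := root_fix x hx hx3
  obtain ⟨Ael, -, hAel⟩ := C.exists_el hA' ⟨hAo, hAd⟩
  have hx0 : ev 5 s x ≠ 0 := fun e => by
    have := congrArg (ev 5 s) hx3
    rw [C.ev_mul, e, zero_mul, C.ev_one] at this
    exact zero_ne_one this
  have hsc : ((scalarGL (ι := Fin 3) hx0 : GL (Fin 3) F) : Matrix (Fin 3) (Fin 3) F) = mev 5 s (scal x) := by
    rw [scalarGL_val, C.mev_scal]
  rw [show G⁻¹ * h * G = scalarGL hx0 * Ael from Units.ext (by
    rw [hge, Units.val_mul, hAel, scalarGL_val, Matrix.smul_mul, one_mul])]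
  exact ⟨Subgroup.mul_mem _ (C.mem_stab hsc hxS) (C.mem_stab hAel hAS),
    Subgroup.mul_mem _ (C.mem_stab hsc hxT) (C.mem_stab hAel hAT)⟩

/-- In `SU₃(3)` a real orthogonal group stabilises a frame. -/
theorem three_frame (C : Ctx 3 s) {H : Subgroup (GL (Fin 3) F)} (hH : IsMaximalIn (suGL 3 F 3) H) {F₀ : Subfield F}
    {P : GL (Fin 3) F} (hcard : Fintype.card F = Nat.card F₀ ^ 2)
    (hrat : IsFormRationalStructure (Cfsg.hermForm 3 F 3) F₀ 1 P) (hle : H ≤ subfieldSubgroup F₀ P) :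
    ∃ D : Fin 3 → Submodule F (Fin 3 → F), IsNondegenerateMDecomposition (Cfsg.hermForm 3 F 3) 1 D ∧
      H = decompositionStabilizer D ⊓ suGL 3 F 3 := by
  classical
  obtain ⟨G, hG, hGH⟩ := C.real_structure hH.1.le hcard hrat hle
  set e : Fin 3 → Fin 3 → F := fun j => (G : Matrix (Fin 3) (Fin 3) F) *ᵥ Pi.single j 1 with he
  set D : Fin 3 → Submodule F (Fin 3 → F) := fun j => F ∙ e j with hD
  have hself : ∀ i j, Cfsg.hermForm 3 F 3 (e i) (e j) = if i = j then 1 else 0 := fun i j => by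
    show Cfsg.hermForm 3 F 3 ((G : Matrix (Fin 3) (Fin 3) F) *ᵥ _) ((G : Matrix (Fin 3) (Fin 3) F) *ᵥ _) = _
    rw [mem_GU_iff.mp hG, C.herm_sum]
    split_ifs with h
    · subst h
      rw [Finset.sum_eq_single i (fun l _ hl => by rw [Pi.single_eq_of_ne hl, zero_mul]) (by simp)]
      simp
    · rw [Finset.sum_eq_single i (fun l _ hl => by rw [Pi.single_eq_of_ne hl, zero_mul]) (by simp),
        Pi.single_eq_of_ne h, map_zero, mul_zero]
  have hs := herm_isSesq (n := 3) C.card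
  have hne : ∀ j, e j ≠ 0 := fun j h0 => by
    have := hself j j
    rw [h0, if_pos rfl] at this
    exact zero_ne_one ((by simp [C.herm_sum] : Cfsg.hermForm 3 F 3 (0 : Fin 3 → F) 0 = 0).symm.trans this)
  have hdec : IsMDecomposition 1 D :=
    { two_le := by norm_num
      pos := by norm_num
      finrank_eq := fun j => finrank_span_singleton (hne j)
      indep := by
        have hli : LinearIndependent F (G : Matrix (Fin 3) (Fin 3) F).col :=
          Matrix.linearIndependent_cols_iff_isUnit.mpr G.isUnit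
        have : e = (G : Matrix (Fin 3) (Fin 3) F).col := funext fun j => Matrix.mulVec_single_one _ _
        rw [hD, this]
        exact hli.iSupIndep_span_singleton
      iSup_eq_top := top_le_iff.mp fun v _ => by
        set w := ((G⁻¹ : GL (Fin 3) F) : Matrix (Fin 3) (Fin 3) F) *ᵥ v with hw
        have e1 : v = ∑ j, w j • e j := by
          simp only [he, ← Matrix.mulVec_smul, ← Matrix.mulVec_sum]
          rw [← pi_eq_sum_univ' w, hw, mulVec_inv_mulVec]
        rw [e1]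
        exact Submodule.sum_mem _ fun j _ =>
          Submodule.mem_iSup_of_mem j (Submodule.smul_mem _ _ (Submodule.mem_span_singleton_self _)) }
  have hnd : IsNondegenerateMDecomposition (Cfsg.hermForm 3 F 3) 1 D :=
    { decomp := hdec
      nondegenerate := fun j w hw hw0 => by
        obtain ⟨c, rfl⟩ := Submodule.mem_span_singleton.mp hw
        have hc : c ≠ 0 := fun h => hw0 (by rw [h, zero_smul])
        refine ⟨⟨e j, Submodule.mem_span_singleton_self _, ?_⟩, e j, Submodule.mem_span_singleton_self _, ?_⟩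
        · rw [hs.smul_right, hself, if_pos rfl, mul_one]
          exact (map_ne_zero _).mpr hc
        · rw [hs.smul_left, hself, if_pos rfl, mul_one]
          exact hc
      orthogonal := fun i j hij u hu v hv => by
        obtain ⟨a, rfl⟩ := Submodule.mem_span_singleton.mp hu
        obtain ⟨b, rfl⟩ := Submodule.mem_span_singleton.mp hv
        rw [hs.smul_left, hs.smul_right, hself, if_neg hij, mul_zero, mul_zero] }
  refine ⟨D, hnd, eq_inf_of_maximal hH (fun h hh => ?_)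
    (suGL_not_le_decomposition C.card le_rfl (Or.inl le_rfl) hdec)⟩
  obtain ⟨x, hx, hx3, A, hA, hAo, hAd, hge⟩ := hGH h hh
  have hA' : ∀ i j, A i j < 3 * 3 := fun i j => (hA i j).trans (by norm_num)
  have hmono : ∀ j, ∃ i : Fin 3, ∀ l, l ≠ i → A l j = 0 := fun j => by
    have e : (fun i => A i j) = ![A 0 j, A 1 j, A 2 j] := by funext i; fin_cases i <;> rfl
    obtain ⟨i, hi⟩ := real_monomial (num 3 (fun i => A i j)) (by
      rw [e]
      exact real_complete.2 _ (hA 0 j) _ (hA 1 j) _ (hA 2 j) (by rw [← e, C.col_facts hA' hAo]; simp))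
    refine ⟨i, fun l hl => ?_⟩
    have := hi l hl
    rwa [C.unnum_num (fun i => hA' i j)] at this
  choose π hπ using hmono
  set k : Fin 3 → F := fun j => ev 3 s x * ev 3 s (A (π j) j) with hk
  have hhe : ∀ j, (h : Matrix (Fin 3) (Fin 3) F) *ᵥ e j = k j • e (π j) := fun j => by
    have hcol : ((G⁻¹ * h * G : GL (Fin 3) F) : Matrix (Fin 3) (Fin 3) F) *ᵥ Pi.single j 1 =
        k j • Pi.single (π j) 1 := by
      rw [hge, Matrix.smul_mulVec, C.mev_mulVec_single]
      funext l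
      by_cases hl : l = π j
      · subst hl; simp [vev, hk]
      · simp [vev, hπ j l hl, hl, C.ev_zero]
    have := congrArg (fun v => (G : Matrix (Fin 3) (Fin 3) F) *ᵥ v) hcol
    simp only [Units.val_mul, ← Matrix.mulVec_mulVec, mulVec_inv_mulVec, Matrix.mulVec_smul] at this
    exact this
  have hk0 : ∀ j, k j ≠ 0 := fun j h0 => hne j (by
    have := congrArg (fun v => ((h⁻¹ : GL (Fin 3) F) : Matrix (Fin 3) (Fin 3) F) *ᵥ v) (hhe j)
    simpa [inv_mulVec_mulVec, h0] using this)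
  have hinj : Function.Injective π := fun i j hij => by
    by_contra hne'
    have h1 := mem_GU_iff.mp (hH.1.le hh).1 (e i) (e j)
    rw [hhe, hhe, hij, hs.smul_left, hs.smul_right, hself, hself, if_pos rfl, if_neg hne'] at h1
    exact mul_ne_zero (hk0 i) (mul_ne_zero ((map_ne_zero _).mpr (hk0 j)) one_ne_zero) h1
  refine ⟨Equiv.ofBijective π (Finite.injective_iff_bijective.mp hinj), fun j => ?_⟩
  simp only [hD, Submodule.map_span, Set.image_singleton, Matrix.toLin'_apply, Equiv.ofBijective_apply, hhe]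
  exact Submodule.span_singleton_smul_eq (IsUnit.mk0 _ (hk0 j)) _

/-- In `SU₃(5)` the normaliser of an extraspecial group of order twenty-seven is not maximal. -/
theorem heis_false (C : Ctx 5 s) {H : Subgroup (GL (Fin 3) F)} (hH : IsMaximalIn (suGL 3 F 5) H)
    {R : Subgroup (GL (Fin 3) F)} (hsymp : IsSymplecticTypeGroup 3 R) (hRU : R ≤ Cfsg.GU 3 F 5)
    (hR : Nat.card R = 27) (hcen : Nat.card (Subgroup.center R) = 3) (hle : H ≤ subgroupNormalizer R) : False := by
  classical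
  haveI := C.char
  have h3 : (3 : F) ≠ 0 := by
    have : ((3 : ℕ) : F) ≠ 0 := by rw [Ne, CharP.cast_eq_zero_iff F 5]; norm_num
    simpa using this
  have hRe : Monoid.exponent R = 3 := by simpa using hsymp.exponent_eq
  have hRna : ¬ IsMulCommutative R := fun hc => by
    have : Subgroup.center R = ⊤ := by
      rw [eq_top_iff]
      exact fun x _ => Subgroup.mem_center_iff.mpr fun y => hc.is_comm.comm y x
    rw [this, Subgroup.card_top, hR] at hcen
    norm_num at hcen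
  obtain ⟨ω₀, hω₀⟩ := exists_omega (F := F) (by rw [C.card]; norm_num)
  obtain ⟨ω, Pm, c, a, b, S⟩ := exists_frame h3 hω₀ R hR hRe hRna
  obtain ⟨Q, hQ, SQ⟩ := exists_unitary_frame C.card h3 (by norm_num) hRU S
  set a' := Q⁻¹ * a * Q with ha'
  set b' := Q⁻¹ * b * Q with hb'
  have ha'v : (a' : Matrix (Fin 3) (Fin 3) F) = dA ω := by
    rw [ha', Units.val_mul, Units.val_mul, mul_assoc, SQ.eqa, ← mul_assoc, val_inv_mul, one_mul]
  have hb'v : (b' : Matrix (Fin 3) (Fin 3) F) = mB := by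
    rw [hb', Units.val_mul, Units.val_mul, mul_assoc, SQ.eqb, ← mul_assoc, val_inv_mul, one_mul]
  have hev : ev 5 s 12 * ev 5 s 12 = ev 5 s 17 := by
    rw [← C.ev_mul]; rfl
  have hev' : ev 5 s 17 * ev 5 s 17 = ev 5 s 12 := by
    rw [← C.ev_mul]; rfl
  have hmY : mB (F := F) = mev 5 s hY := by
    ext i j; fin_cases i <;> fin_cases j <;> simp [mev, hY, cM, mB, C.ev_zero, C.ev_one]
  obtain ⟨j₀, hj₀, hmX⟩ : ∃ j₀ < 3, dA ω = mev 5 s (helt 0 j₀ 0) := by
    obtain ⟨x, hx, rfl⟩ := C.exists_code ω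
    rcases root_values x hx (C.ev_inj (C.sum3_lt _ _ _) (by norm_num) (by
      rw [C.ev_sum3, C.ev_mul, C.ev_one, C.ev_zero]; linear_combination S.root)) with rfl | rfl
    · refine ⟨1, by norm_num, ?_⟩
      rw [helt_gen.2.1]
      ext i j
      fin_cases i <;> fin_cases j <;> simp [mev, hX, cM, dA, C.ev_zero, C.ev_one, pow_two, hev]
    · refine ⟨2, by norm_num, ?_⟩
      rw [helt_gen.2.2.1]
      ext i j
      fin_cases i <;> fin_cases j <;> simp [mev, dcode, cM, dA, C.ev_zero, C.ev_one, pow_two, hev']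
  have hel : ∀ r ∈ R, ∃ i < 3, ∃ j < 3, ∃ k < 3,
      ((Q⁻¹ * r * Q : GL (Fin 3) F) : Matrix (Fin 3) (Fin 3) F) = mev 5 s (helt i j k) := by
    have hmul : ∀ x y : GL (Fin 3) F, (∃ i < 3, ∃ j < 3, ∃ k < 3,
        ((Q⁻¹ * x * Q : GL (Fin 3) F) : Matrix (Fin 3) (Fin 3) F) = mev 5 s (helt i j k)) →
        (∃ i < 3, ∃ j < 3, ∃ k < 3,
        ((Q⁻¹ * y * Q : GL (Fin 3) F) : Matrix (Fin 3) (Fin 3) F) = mev 5 s (helt i j k)) →
        ∃ i < 3, ∃ j < 3, ∃ k < 3,
        ((Q⁻¹ * (x * y) * Q : GL (Fin 3) F) : Matrix (Fin 3) (Fin 3) F) = mev 5 s (helt i j k) := by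
      rintro x y ⟨i, hi, j, hj, k, hk, e⟩ ⟨i', hi', j', hj', k', hk', e'⟩
      refine ⟨_, Nat.mod_lt (i + i' + 2 * k * j') (by norm_num), _, Nat.mod_lt (j + j') (by norm_num), _,
        Nat.mod_lt (k + k') (by norm_num), ?_⟩
      rw [← helt_mul i hi j hj k hk i' hi' j' hj' k' hk', C.mev_mmul, ← e, ← e', ← Units.val_mul]
      congr 1
      group
    have main : ∀ r, r ∈ Subgroup.closure ({a, b} : Set (GL (Fin 3) F)) → ∃ i < 3, ∃ j < 3, ∃ k < 3,
        ((Q⁻¹ * r * Q : GL (Fin 3) F) : Matrix (Fin 3) (Fin 3) F) = mev 5 s (helt i j k) := by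
      intro r hr
      induction hr using Subgroup.closure_induction with
      | mem x hx =>
        rcases hx with rfl | rfl
        · exact ⟨0, by norm_num, j₀, hj₀, 0, by norm_num, ha'v.trans hmX⟩
        · exact ⟨0, by norm_num, 0, by norm_num, 1, by norm_num, by rw [helt_gen.2.2.2.1, ← hmY]; exact hb'v⟩
      | one => exact ⟨0, by norm_num, 0, by norm_num, 0, by norm_num, by
          rw [helt_gen.1, C.mev_one, mul_one, inv_mul_cancel, Units.val_one]⟩
      | mul x y _ _ hx hy => exact hmul x y hx hy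
      | inv x hx ih =>
        rw [show x⁻¹ = x * x from inv_eq_of_mul_eq_one_right (by
          have h := Monoid.pow_exponent_eq_one (⟨x, SQ.gen ▸ hx⟩ : R)
          rw [hRe, pow_succ, pow_two, mul_assoc] at h
          exact congrArg Subtype.val h)]
        exact hmul x x ih ih
    exact fun r hr => main r (SQ.gen.symm ▸ hr)
  obtain ⟨hg, ht, hgS, hgT, htS, hgb, htb⟩ := heis_data
  refine C.refute hH hQ hgb htb hg ht hgS hgT htS fun h hh => ?_
  set g' := Q⁻¹ * h * Q with hg'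
  have hg'mem : g' ∈ suGL 3 F 5 := conj_mem_suGL hQ (hH.1.le hh)
  have hnorm := Subgroup.mem_normalizer_iff.mp (hle hh)
  obtain ⟨i, hi, j, hj, k, hk, hr1⟩ := hel _ ((hnorm a).mp SQ.mem_a)
  obtain ⟨i', hi', j', hj', k', hk', hr2⟩ := hel _ ((hnorm b).mp SQ.mem_b)
  rw [show Q⁻¹ * (h * a * h⁻¹) * Q = g' * a' * g'⁻¹ by rw [hg', ha']; group] at hr1
  rw [show Q⁻¹ * (h * b * h⁻¹) * Q = g' * b' * g'⁻¹ by rw [hg', hb']; group] at hr2
  have hjk : j ≠ 0 ∨ k ≠ 0 := by
    by_contra hc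
    push Not at hc
    obtain ⟨rfl, rfl⟩ := hc
    rw [helt_gen.2.2.2.2 i hi, C.mev_scal] at hr1
    set e := ev 5 s (helt i 0 0 0 0)
    have h1 : dA ω = e • (1 : Matrix (Fin 3) (Fin 3) F) := by
      calc dA ω = ((g'⁻¹ * (g' * a' * g'⁻¹) * g' : GL (Fin 3) F) : Matrix (Fin 3) (Fin 3) F) := by
            rw [← ha'v]; congr 1; group
        _ = _ := by rw [Units.val_mul, Units.val_mul, hr1, Matrix.mul_smul, mul_one, Matrix.smul_mul, val_inv_mul]
    have e0 := congrFun (congrFun h1 0) 0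
    have e1 := congrFun (congrFun h1 1) 1
    simp [dA] at e0 e1
    exact root_ne h3 S.root (e1.trans e0.symm)
  obtain ⟨A, hA, hAv⟩ := C.exists_mat (g' : Matrix (Fin 3) (Fin 3) F)
  set v₀ : Fin 3 → F := (g' : Matrix (Fin 3) (Fin 3) F) *ᵥ Pi.single 0 1 with hv₀
  have hu : vev 5 s (fun l => A l 0) = v₀ := by rw [hv₀, ← hAv, C.mev_mulVec_single]
  have hA0 : a'.val *ᵥ Pi.single 0 1 = Pi.single (0 : Fin 3) (1 : F) := by
    rw [ha'v, dA, Matrix.diagonal_mulVec_single]
    simp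
  have hB : ∀ l : Fin 3, l ≠ 2 → b'.val *ᵥ Pi.single l 1 = Pi.single (l + 1 : Fin 3) (1 : F) := fun l hl => by
    rw [hb'v, Matrix.mulVec_single_one]
    funext o
    fin_cases l <;> first | exact absurd rfl hl | (fin_cases o <;> simp [mB])
  have hr1u : mev 5 s (helt i j k) *ᵥ v₀ = v₀ := by
    rw [← hr1, hv₀, Units.val_mul, Units.val_mul, ← Matrix.mulVec_mulVec, ← Matrix.mulVec_mulVec,
      inv_mulVec_mulVec, hA0]
  have hstep : ∀ l : Fin 3, l ≠ 2 → mev 5 s (helt i' j' k') *ᵥ ((g' : Matrix (Fin 3) (Fin 3) F) *ᵥ Pi.single l 1) =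
      (g' : Matrix (Fin 3) (Fin 3) F) *ᵥ Pi.single (l + 1) 1 := fun l hl => by
    rw [← hr2, Units.val_mul, Units.val_mul, ← Matrix.mulVec_mulVec, ← Matrix.mulVec_mulVec, inv_mulVec_mulVec,
      hB l hl]
  set u : Vec := fun l => A l 0 with hudef
  have hult : ∀ l, u l < 5 * 5 := fun l => hA l 0
  have hfix1 : mvec 5 (helt i j k) u = u := C.vec_eq (fun l => C.sum3_lt _ _ _) hult (by
    rw [C.vev_mvec, hu, hr1u])
  have hAcols : A = cols u (mvec 5 (helt i' j' k') u) (mvec 5 (helt i' j' k') (mvec 5 (helt i' j' k') u)) := by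
    have c1 : mvec 5 (helt i' j' k') u = fun l => A l 1 := C.vec_eq (fun l => C.sum3_lt _ _ _) (fun l => hA l 1) (by
      rw [C.vev_mvec, hu, hv₀, hstep 0 (by decide), ← hAv, C.mev_mulVec_single]; rfl)
    have c2 : mvec 5 (helt i' j' k') (fun l => A l 1) = fun l => A l 2 :=
      C.vec_eq (fun l => C.sum3_lt _ _ _) (fun l => hA l 2) (by
        rw [C.vev_mvec, ← C.mev_mulVec_single, hAv, hstep 1 (by decide), ← hAv, C.mev_mulVec_single]; rfl)
    rw [c1, c2]
    funext l o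
    fin_cases o <;> rfl
  have hgood := C.good_of_mem hg'mem hA hAv.symm
  have hnorm1 : cherm 5 u u = 1 := (C.col_facts hA hgood.1 0 0).trans (if_pos rfl)
  have hueq : u = ![u 0, u 1, u 2] := by funext l; fin_cases l <;> rfl
  have hmem : num 5 u ∈ heisFX := by
    rw [hueq]
    rcases (show k < 2 ∨ k = 2 by omega) with hk2 | rfl
    · refine mem_of_testBit (heis_low i hi j hj k hk2 hjk _ (hult 0) _ (hult 1) ?_ _ (hult 2)
        (hueq ▸ hfix1) (hueq ▸ hnorm1))
      have h12 := helt_low i hi j hj k hk2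
      have := congrFun hfix1 1
      simp only [mvec, h12] at this ⊢
      simpa [cmul] using this
    · refine mem_of_testBit (heis_high i hi j hj _ (hult 0) _ (hult 2) ?_ _ (hult 1) (hueq ▸ hfix1) (hueq ▸ hnorm1))
      have h21 := helt_high i hi j hj
      have := congrFun hfix1 2
      simp only [mvec, h21] at this ⊢
      simpa [cmul] using this
  have hAfix := heis_fix _ hmem i' hi' j' hj' k' hk'
  rw [C.unnum_num hult, ← hAcols] at hAfix
  obtain ⟨hS, hT⟩ := hAfix hgood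
  exact ⟨C.mem_stab hAv.symm hS, C.mem_stab hAv.symm hT⟩

end Cfsg.Lib.Classical.PrimeDim.ThreeSmall
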