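import Cfsg.Agent.Classical.PrimeDim.ThreeSmallCode

/-! Tables for overgroups in `SU₃(3)` and `SU₃(5)`. -/

set_option autoImplicit false

namespace Cfsg.Lib.Classical.PrimeDim.ThreeSmall

/-- Lines fixed by the larger group (C2). -/
def frameS : List ℕ := [
  1, 25, 26, 101, 301, 326, 426, 451, 625, 626, 650, 776,
  801, 926, 1076, 1201, 1226, 1401, 1551, 1701, 1851, 2026, 2176, 2326,
  2476, 2501, 2525, 2651, 2676, 2801, 2951, 3076, 3101, 3476, 3526, 3776,
  3801, 3826, 3851, 4401, 4476, 5326, 5426, 5851, 5951, 6051, 6151, 6551,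
  6701, 7151, 7351, 7501, 7525, 7526, 7551, 7576, 7601, 7751, 7876, 8126,
  8150, 8326, 8351, 8451, 8551, 8651, 8676, 8876, 9251, 9676, 9826, 10126,
  10501, 10626, 10650, 10826, 10851, 10951, 11051, 11151, 11176, 11251, 11275, 11276,
  11301, 11326, 11351, 11501, 11626, 12151, 12351, 12851, 12901, 13351, 13451, 13551,
  13651, 14076, 14176, 14401, 14476, 15026, 15051, 15076, 15101]

/-- Lines fixed by the smaller group (C2). -/
def frameT : List ℕ := [
  1, 25, 625]

/-- An element of the larger group (C2). -/
def frameg : Code := cM 2 21 5 6 2 14 20 19 0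

/-- An element outside the larger group (C2). -/
def framet : Code := cM 14 23 13 13 15 11 22 15 7

/-- Lines fixed by the larger group (C5). -/
def fiveS : List ℕ := [
  1, 25, 26, 101, 301, 326, 426, 451, 625, 626, 650, 651,
  676, 701, 726, 876, 1001, 1276, 1301, 1326, 1351, 1901, 1926, 1951,
  1976, 2501, 2525, 2526, 2551, 2576, 2601, 2751, 2876, 3251, 3626, 3976,
  4076, 4176, 4276, 4701, 4801, 5301, 5451, 5776, 5926, 6076, 6226, 6276,
  6351, 7226, 7276, 7501, 7525, 7701, 7726, 7826, 7926, 8026, 8051, 8126,
  8150, 8276, 8301, 8426, 8576, 8701, 8726, 9026, 9226, 9401, 9476, 10276,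
  10476, 10626, 10650, 10776, 10801, 10926, 11076, 11201, 11226, 11251, 11275, 11451,
  11476, 11576, 11676, 11776, 11801, 12226, 12276, 12626, 13001, 13276, 13426, 13576,
  13726, 14051, 14201, 14701, 14801, 15226, 15326, 15426, 15526]

/-- Lines fixed by the smaller group (C5). -/
def fiveT : List ℕ := [
  51, 76, 1251, 1275, 1876, 1900]

/-- An element of the larger group (C5). -/
def fiveg : Code := cM 0 0 12 0 4 0 17 0 0

/-- An element outside the larger group (C5). -/
def fivet : Code := cM 5 22 17 22 5 17 17 17 6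

/-- Lines fixed by the larger group (C6). -/
def heisS : List ℕ := [
  751, 901, 1026, 1101, 3151, 3551, 4551, 4576, 5176, 5376, 6801, 6826,
  6901, 7176, 7776, 7851, 7901, 8001, 9051, 9176, 9576, 9751, 10026, 10301,
  10751, 10976, 11101, 11126, 11901, 12301, 12801, 12926, 14001, 14301, 14626, 14951]

/-- Lines fixed by the smaller group (C6). -/
def heisT : List ℕ := [
  101, 326, 451, 2501, 2525, 8126, 8150, 11251, 11275]

/-- An element of the larger group (C6). -/
def heisg : Code := cM 2 16 3 11 0 11 3 16 2

/-- An element outside the larger group (C6). -/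
def heist : Code := cM 9 3 14 22 20 12 0 2 7

/-- Lines fixed by the larger group (C3). -/
def singer5S : List ℕ := [
  25, 251, 376, 676, 701, 1426, 1601, 1651, 1826, 2026, 2176, 2326,
  2476, 2726, 3026, 3126, 3326, 3351, 3401, 3601, 3651, 3676, 3876, 4001,
  4126, 4251, 4401, 4476, 5001, 5026, 5051, 5076, 5101, 5126, 5501, 5851,
  5951, 6051, 6151, 6576, 6676, 6876, 7026, 7051, 7226, 7276, 7451, 7476,
  7501, 7651, 7676, 7801, 7951, 8076, 8101, 8176, 8201, 8775, 8876, 9251,
  9376, 9401, 9426, 9451, 9476, 9501, 9876, 10001, 10025, 10051, 10076, 10151,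
  10226, 10526, 10601, 10776, 11226, 11251, 11451, 11476, 11576, 11676, 11776, 11801,
  12001, 12376, 12626, 13001, 13326, 13401, 13601, 13676, 14051, 14201, 14376, 14501,
  14651, 14726, 14776, 14851, 14876, 15126, 15251, 15376, 15501]

/-- Lines fixed by the smaller group (C3). -/
def singer5T : List ℕ := [
  2001, 2526, 3726, 4826, 9001, 13151, 15401]

/-- An element of the larger group (C3). -/
def singer5g : Code := cM 0 11 16 16 2 9 11 24 2

/-- An element outside the larger group (C3). -/
def singer5t : Code := cM 14 17 7 15 5 4 1 10 11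

/-- Lines fixed by the larger group (C3, three). -/
def singer3S : List ℕ := [
  28, 118, 127, 145, 154, 163, 307, 334, 379, 388, 442, 451,
  460, 495, 559, 586, 622, 640, 685, 694, 703]

/-- Lines fixed by the smaller group (C3, three). -/
def singer3T : List ℕ := [
  46, 64, 100, 172, 217, 496, 505]

/-- An element of the larger group (C3, three). -/
def singer3g : Code := cM 1 7 6 4 0 5 3 8 1

/-- An element outside the larger group (C3, three). -/
def singer3t : Code := cM 7 4 0 2 3 5 1 6 5

/-- An element of order seven. -/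
def singer5y : Code := cM 6 19 9 4 22 14 17 13 9

/-- A normalising element. -/
def singer5f : Code := cM 3 6 5 0 3 22 10 14 4

/-- An inverse change of basis. -/
def singer5pi : Code := cM 1 21 7 0 14 23 0 13 4

/-- A scalar. -/
def singer5z : Code := cM 12 0 0 0 12 0 0 0 12

/-- An element of order seven. -/
def singer3y : Code := cM 2 7 3 1 2 8 7 2 6

/-- A normalising element. -/
def singer3f : Code := cM 2 3 8 4 5 0 1 6 8

/-- An inverse change of basis. -/
def singer3pi : Code := cM 1 0 8 0 0 8 0 2 8

/-- The elements of norm one. -/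
def mu : List ℕ := [
  1, 4, 12, 13, 17, 18]

/-- Real vectors of norm one. -/
def real5 : List ℕ := [
  1, 4, 25, 100, 625, 652, 653, 676, 679, 701, 704, 727,
  728, 1276, 1279, 1351, 1354, 1901, 1904, 1976, 1979, 2500, 2527, 2528,
  2551, 2554, 2576, 2579, 2602, 2603]

/-- Real vectors of norm one. -/
def real3 : List ℕ := [
  1, 2, 9, 18, 81, 162]

-- cube roots of one: [12, 17], mu: [1, 4, 12, 13, 17, 18]
/-- Unit vectors fixed by a non-scalar element of the Heisenberg group. -/
def heisFX : List ℕ := [
  1, 4, 12, 13, 17, 18, 25, 100, 300, 325, 425, 450,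
  625, 2500, 4557, 4558, 4565, 4582, 4583, 4590, 4757, 4758, 4765, 5182,
  5183, 5190, 5207, 5208, 5215, 5382, 5383, 5390, 6510, 6522, 6523, 6810,
  6822, 6823, 6835, 6847, 6848, 7500, 8125, 9557, 9558, 9565, 9582, 9583,
  9590, 9757, 9758, 9765, 10625, 11250, 14010, 14022, 14023, 14310, 14322, 14323,
  14335, 14347, 14348, 14635, 14647, 14648, 14935, 14947, 14948, 14960, 14972, 14973]

end Cfsg.Lib.Classical.PrimeDim.ThreeSmall
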