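import Cfsg.Agent.Classical.PrimeDim.ThreeSmallCases

/-! In `SU₃(3)` and `SU₃(5)` the normaliser of a field of degree three is not maximal. -/

set_option autoImplicit false
set_option linter.unusedSimpArgs false
set_option linter.unusedSectionVars false
set_option linter.style.haveILetI false
set_option maxRecDepth 100000

namespace Cfsg.Lib.Classical.PrimeDim.ThreeSmall

open Matrix Cfsg.Geo
open scoped MatrixGroups

universe u

variable {F : Type u} [Field F] [Fintype F] {p : ℕ} {s : F}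

set_option maxHeartbeats 800000 in
/-- An isometry of order seven in a subfield of degree three closed under adjoints. -/
theorem exists_seven (C : Ctx p s) {K : Subalgebra F (Matrix (Fin 3) (Fin 3) F)} (hK : IsFieldSubalgebra 3 K)
    (hadj : IsAdjointClosedFor (Cfsg.hermForm 3 F p) K) :
    ∃ k : GL (Fin 3) F, k ∈ suGL 3 F p ∧ (k : Matrix (Fin 3) (Fin 3) F) ∈ K ∧ orderOf k = 7 := by
  classical
  set σ := frob C.card with hσ
  let st : Matrix (Fin 3) (Fin 3) F → Matrix (Fin 3) (Fin 3) F := fun M => (M.map σ)ᵀ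
  have hmm : ∀ M, st (st M) = M := fun M => by
    ext i j; simp [st, hσ, frob_frob]
  have hstmul : ∀ A B, st (A * B) = st B * st A := fun A B => by
    simp [st, Matrix.map_mul, Matrix.transpose_mul]
  have hadjeq : ∀ (M : Matrix (Fin 3) (Fin 3) F) u v,
      Cfsg.hermForm 3 F p (M *ᵥ u) v = Cfsg.hermForm 3 F p u (st M *ᵥ v) := fun M u v => by
    rw [hermForm_eq C.card]
    simp only [stdHerm, Units.val_one, Matrix.one_mulVec]
    show (M *ᵥ u) ⬝ᵥ (⇑σ ∘ v) = u ⬝ᵥ (⇑σ ∘ (st M *ᵥ v))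
    rw [comp_mulVec, show (st M).map σ = Mᵀ by ext i j; simp [st, hσ, frob_frob], Matrix.dotProduct_mulVec,
      Matrix.vecMul_transpose]
  have hstK : ∀ M ∈ K, st M ∈ K := by
    intro M hM
    obtain ⟨M', hM', he⟩ := hadj M hM
    suffices st M = M' by rwa [this]
    refine Matrix.toLin'.injective (LinearMap.ext fun v => ?_)
    rw [Matrix.toLin'_apply, Matrix.toLin'_apply]
    by_contra hne
    obtain ⟨x, hx⟩ := ((herm_isSesq C.card).nondegenerate _ (sub_ne_zero.mpr hne)).1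
    apply hx
    have hs := herm_isSesq (n := 3) C.card
    rw [sub_eq_add_neg, ← neg_one_smul F (M' *ᵥ v), hs.add_right, hs.smul_right, map_neg, map_one,
      ← hadjeq, he x v]
    ring
  let U : Subgroup (GL (Fin 3) F) :=
    { carrier := {g | (g : Matrix (Fin 3) (Fin 3) F) ∈ K}
      mul_mem' := fun {a b} ha hb => show ((a * b : GL (Fin 3) F) : Matrix (Fin 3) (Fin 3) F) ∈ K by
        rw [Units.val_mul]; exact mul_mem ha hb
      one_mem' := one_mem K
      inv_mem' := fun {g} hg => by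
        obtain ⟨y, hy, he⟩ := hK.inv _ hg g.ne_zero
        show ((g⁻¹ : GL (Fin 3) F) : Matrix (Fin 3) (Fin 3) F) ∈ K
        rw [show ((g⁻¹ : GL (Fin 3) F) : Matrix (Fin 3) (Fin 3) F) = y from Units.inv_eq_of_mul_eq_one_right he]
        exact hy }
  have hUcard : Nat.card U + 1 = (p ^ 2) ^ 3 := by
    let e : Option U → K := fun o => match o with
      | none => 0
      | some u => ⟨((u : GL (Fin 3) F) : Matrix (Fin 3) (Fin 3) F), u.2⟩
    have he : Function.Bijective e := by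
      constructor
      · rintro (_ | a) (_ | b) h
        · rfl
        · exact absurd (congrArg Subtype.val h).symm (Units.ne_zero _)
        · exact absurd (congrArg Subtype.val h) (Units.ne_zero _)
        · exact congrArg some (Subtype.ext (Units.ext (congrArg (fun x : K => (x : Matrix (Fin 3) (Fin 3) F)) h)))
      · rintro ⟨x, hx⟩
        by_cases h0 : x = 0
        · exact ⟨none, Subtype.ext h0.symm⟩
        · obtain ⟨u, hu⟩ := fieldSub_isUnit hK hx h0
          exact ⟨some ⟨u, show (u : Matrix (Fin 3) (Fin 3) F) ∈ K by rw [hu]; exact hx⟩, Subtype.ext hu⟩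
    have h1 := Nat.card_eq_of_bijective e he
    rw [Finite.card_option, Module.natCard_eq_pow_finrank (K := F) (V := K), hK.finrank_eq,
      Nat.card_eq_fintype_card (α := F), C.card] at h1
    omega
  let stU : U → GL (Fin 3) F := fun u =>
    ⟨st ((u : GL (Fin 3) F) : Matrix (Fin 3) (Fin 3) F), st (((u : GL (Fin 3) F)⁻¹ : GL (Fin 3) F) : Matrix (Fin 3) (Fin 3) F),
      by rw [← hstmul, val_inv_mul]; simp [st],
      by rw [← hstmul, val_mul_inv]; simp [st]⟩
  have hcommU : ∀ a ∈ U, ∀ b ∈ U, a * b = b * a := fun a ha b hb =>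
    Units.ext (by rw [Units.val_mul, Units.val_mul]; exact hK.comm _ ha _ hb)
  have hstU : ∀ u : U, stU u ∈ U := fun u => hstK _ u.2
  let Nh : U →* U := MonoidHom.mk' (fun u => ⟨stU u * u, U.mul_mem (hstU u) u.2⟩) (fun a b => by
    refine Subtype.ext ?_
    show stU (a * b) * ((a : GL (Fin 3) F) * b) = stU a * a * (stU b * b)
    have e : stU (a * b) = stU a * stU b := Units.ext (by
      rw [Units.val_mul]
      show st (((a : GL (Fin 3) F) : Matrix (Fin 3) (Fin 3) F) * ((b : GL (Fin 3) F) : Matrix (Fin 3) (Fin 3) F)) = _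
      rw [hstmul]
      exact hK.comm _ (hstU b) _ (hstU a))
    rw [e, mul_assoc, mul_assoc]
    congr 1
    rw [← mul_assoc, hcommU _ (hstU b) _ a.2, mul_assoc])
  let Ufix : Subgroup U :=
    { carrier := {u | stU u = u}
      mul_mem' := fun {a b} ha hb => by
        refine Units.ext ?_
        show st (((a : GL (Fin 3) F) : Matrix (Fin 3) (Fin 3) F) * ((b : GL (Fin 3) F) : Matrix (Fin 3) (Fin 3) F)) = _
        rw [hstmul, show st ((a : GL (Fin 3) F) : Matrix (Fin 3) (Fin 3) F) = _ from congrArg Units.val ha,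
          show st ((b : GL (Fin 3) F) : Matrix (Fin 3) (Fin 3) F) = _ from congrArg Units.val hb]
        exact hK.comm _ b.2 _ a.2
      one_mem' := Units.ext (by simp [stU, st])
      inv_mem' := fun {a} ha => Units.ext (by
        show st (((a : GL (Fin 3) F)⁻¹ : GL (Fin 3) F) : Matrix (Fin 3) (Fin 3) F) = _
        exact congrArg (fun g : GL (Fin 3) F => ((g⁻¹ : GL (Fin 3) F) : Matrix (Fin 3) (Fin 3) F)) ha) }
  obtain ⟨θ, hθ⟩ : ∃ θ, σ θ ≠ θ := by
    by_contra hc
    push Not at hc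
    exact frob_ne_refl C.card (RingEquiv.ext hc)
  have hstadd : ∀ A B, st (A + B) = st A + st B := fun A B => by ext i j; simp [st]
  have hstsmul : ∀ (c : F) A, st (c • A) = σ c • st A := fun c A => by ext i j; simp [st]
  have hfixcard : Nat.card Ufix + 1 = p ^ 3 := by
    let Fx := {x : K // st (x : Matrix (Fin 3) (Fin 3) F) = x}
    let e : Fx × Fx → K := fun p => p.1.1 + θ • p.2.1
    have he : Function.Bijective e := by
      constructor
      · rintro ⟨a, b⟩ ⟨a', b'⟩ h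
        have h1 := congrArg Subtype.val h
        simp only [e, Submodule.coe_add, AddMemClass.coe_add, SetLike.val_smul] at h1
        have h2 := congrArg st h1
        rw [hstadd, hstadd, hstsmul, hstsmul, a.2, b.2, a'.2, b'.2] at h2
        have hb : (θ - σ θ) • ((b.1 : Matrix (Fin 3) (Fin 3) F) - b'.1) = 0 := by
          have : ((a.1 : Matrix (Fin 3) (Fin 3) F) + θ • b.1) - (a.1 + σ θ • b.1) =
              ((a'.1 : Matrix (Fin 3) (Fin 3) F) + θ • b'.1) - (a'.1 + σ θ • b'.1) := by rw [h1, h2]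
          rw [sub_smul, smul_sub, smul_sub, ← sub_eq_zero.mpr this]
          abel
        have hb' := sub_eq_zero.mp ((smul_eq_zero.mp hb).resolve_left (sub_ne_zero.mpr hθ.symm))
        rw [hb'] at h1
        exact Prod.ext (Subtype.ext (Subtype.ext (add_right_cancel h1))) (Subtype.ext (Subtype.ext hb'))
      · intro x
        set b : K := (θ - σ θ)⁻¹ • (x - ⟨st x.1, hstK _ x.2⟩) with hb_def
        have hbv : (b : Matrix (Fin 3) (Fin 3) F) = (θ - σ θ)⁻¹ • ((x : Matrix (Fin 3) (Fin 3) F) - st x.1) := rfl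
        have hbfix : st (b : Matrix (Fin 3) (Fin 3) F) = b := by
          have hsub : ∀ A B, st (A - B) = st A - st B := fun A B => by ext i j; simp [st]
          rw [hbv, hstsmul, hsub, hmm, map_inv₀, map_sub, hσ, frob_frob, ← neg_sub (x : Matrix (Fin 3) (Fin 3) F),
            smul_neg, ← neg_smul, ← inv_neg, neg_sub]
        refine ⟨⟨⟨x - θ • b, ?_⟩, ⟨b, hbfix⟩⟩, by simp [e]⟩
        show st ((x : Matrix (Fin 3) (Fin 3) F) - θ • (b : Matrix (Fin 3) (Fin 3) F)) = _
        have hsub : ∀ A B, st (A - B) = st A - st B := fun A B => by ext i j; simp [st]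
        rw [hsub, hstsmul, hbfix]
        show _ = (x : Matrix (Fin 3) (Fin 3) F) - θ • (b : Matrix (Fin 3) (Fin 3) F)
        have h3 : (θ - σ θ) • (b : Matrix (Fin 3) (Fin 3) F) = (x : Matrix (Fin 3) (Fin 3) F) - st x.1 := by
          rw [hbv, smul_smul, mul_inv_cancel₀ (sub_ne_zero.mpr hθ.symm), one_smul]
        rw [sub_smul] at h3
        have h4 : (x : Matrix (Fin 3) (Fin 3) F) - θ • (b : Matrix (Fin 3) (Fin 3) F) =
            st x.1 - σ θ • (b : Matrix (Fin 3) (Fin 3) F) := by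
          rw [← sub_eq_zero] at h3 ⊢
          rw [← neg_eq_zero, ← h3]
          abel
        rw [h4]
    have h1 := Nat.card_eq_of_bijective e he
    rw [Nat.card_prod, Module.natCard_eq_pow_finrank (K := F) (V := K), hK.finrank_eq,
      Nat.card_eq_fintype_card (α := F), C.card] at h1
    have hFx : Nat.card Fx = p ^ 3 := by
      refine Nat.pow_left_injective (n := 2) two_ne_zero ?_
      show Nat.card Fx ^ 2 = (p ^ 3) ^ 2
      rw [pow_two, h1]; ring
    let e' : Option Ufix → Fx := fun o => match o with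
      | none => ⟨0, by ext i j; simp [st]⟩
      | some u => ⟨⟨((u : U) : GL (Fin 3) F).1, (u : U).2⟩, congrArg Units.val u.2⟩
    have he' : Function.Bijective e' := by
      constructor
      · rintro (_ | a) (_ | b) h
        · rfl
        · exact absurd (congrArg (fun z : Fx => ((z.1 : K) : Matrix (Fin 3) (Fin 3) F)) h).symm (Units.ne_zero _)
        · exact absurd (congrArg (fun z : Fx => ((z.1 : K) : Matrix (Fin 3) (Fin 3) F)) h) (Units.ne_zero _)
        · exact congrArg some (Subtype.ext (Subtype.ext (Units.ext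
            (congrArg (fun z : Fx => ((z.1 : K) : Matrix (Fin 3) (Fin 3) F)) h))))
      · rintro ⟨⟨x, hx⟩, hfx⟩
        by_cases h0 : x = 0
        · exact ⟨none, Subtype.ext (Subtype.ext h0.symm)⟩
        · obtain ⟨u, hu⟩ := fieldSub_isUnit hK hx h0
          have huU : u ∈ U := show (u : Matrix (Fin 3) (Fin 3) F) ∈ K by rw [hu]; exact hx
          exact ⟨some ⟨⟨u, huU⟩, Units.ext (show st (u : Matrix (Fin 3) (Fin 3) F) = u by rw [hu]; exact hfx)⟩,
            Subtype.ext (Subtype.ext hu)⟩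
    have h2 := Nat.card_eq_of_bijective e' he'
    rw [Finite.card_option, hFx] at h2
    omega
  have hrange : Nh.range ≤ Ufix := by
    rintro _ ⟨u, rfl⟩
    refine Units.ext ?_
    show st (st ((u : GL (Fin 3) F) : Matrix (Fin 3) (Fin 3) F) * ((u : GL (Fin 3) F) : Matrix (Fin 3) (Fin 3) F)) = _
    rw [hstmul, hmm]
    rfl
  have hdvd : 7 ∣ Nat.card Nh.ker := by
    have hm := Nh.ker.card_mul_index
    rw [Subgroup.index_ker] at hm
    have h7 : 7 ∣ Nat.card U := by rcases C.cases with rfl | rfl <;> omega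
    rcases (Nat.Prime.dvd_mul (by norm_num : Nat.Prime 7)).mp (hm.symm ▸ h7) with h | h
    · exact h
    · have := h.trans (Subgroup.card_dvd_of_le hrange)
      rcases C.cases with rfl | rfl <;> omega
  haveI : Fact (Nat.Prime 7) := ⟨by norm_num⟩
  obtain ⟨⟨⟨k, hkU⟩, hkker⟩, hk⟩ := exists_prime_orderOf_dvd_card' 7 hdvd
  rw [← Subgroup.orderOf_coe, ← Subgroup.orderOf_coe] at hk
  have hiso : st (k : Matrix (Fin 3) (Fin 3) F) * (k : Matrix (Fin 3) (Fin 3) F) = 1 :=
    congrArg (fun z : U => ((z : GL (Fin 3) F) : Matrix (Fin 3) (Fin 3) F)) hkker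
  refine ⟨k, ⟨mem_GU_iff.mpr fun u v => ?_, ?_⟩, hkU, hk⟩
  · rw [hadjeq, Matrix.mulVec_mulVec, hiso, Matrix.one_mulVec]
  · show Matrix.GeneralLinearGroup.det k = 1
    refine Units.ext ?_
    rw [Matrix.GeneralLinearGroup.val_det_apply, Units.val_one]
    set d := (k : Matrix (Fin 3) (Fin 3) F).det
    have h7 : d ^ 7 = 1 := by
      rw [← Matrix.det_pow, ← Units.val_pow_eq_pow_val, ← hk, pow_orderOf_eq_one, Units.val_one, Matrix.det_one]
    have hp1 : d ^ (p + 1) = 1 := by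
      have h := congrArg Matrix.det hiso
      rw [Matrix.det_mul, Matrix.det_one, Matrix.det_transpose, show ((k : Matrix (Fin 3) (Fin 3) F).map σ).det = σ d from
        (σ.toRingHom.map_det _).symm, hσ, frob_apply] at h
      rw [pow_succ, h]
    refine orderOf_eq_one_iff.mp (Nat.dvd_one.mp ((Nat.dvd_gcd (orderOf_dvd_of_pow_eq_one h7)
      (orderOf_dvd_of_pow_eq_one hp1)).trans ?_))
    rcases C.cases with rfl | rfl <;> norm_num

theorem Ctx.mev_trace (C : Ctx p s) (A : Code) : Matrix.trace (mev p s A) = ev p s (ctr p A) := by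
  simp [Matrix.trace, Fin.sum_univ_three, ctr, mev, C.ev_sum3]

theorem Ctx.cpow_lt (C : Ctx p s) (A : Code) (m : ℕ) (i j : Fin 3) : cpow p A m i j < p * p := by
  cases m with
  | zero =>
    show scal 1 i j < p * p
    unfold scal
    split_ifs
    · exact C.one_lt
    · exact Nat.mul_pos C.pos C.pos
  | succ m => exact C.sum3_lt _ _ _

/-- A matrix commuting with a cyclic one is known from one column. -/
theorem Ctx.mul_cyclic (C : Ctx p s) {Z : Matrix (Fin 3) (Fin 3) F} {y : Code}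
    (hc : Z * mev p s y = mev p s y * Z) {u : Vec} (hu : Z *ᵥ Pi.single 0 1 = vev p s u) :
    Z * mev p s (cols ![1, 0, 0] (mvec p y ![1, 0, 0]) (mvec p y (mvec p y ![1, 0, 0]))) =
      mev p s (cols u (mvec p y u) (mvec p y (mvec p y u))) := by
  have h0 : Z *ᵥ vev p s ![1, 0, 0] = vev p s u := by rw [C.vev_unit, hu]
  have hcom : ∀ v, Z *ᵥ vev p s (mvec p y v) = mev p s y *ᵥ (Z *ᵥ vev p s v) := fun v => by
    rw [C.vev_mvec, Matrix.mulVec_mulVec, hc, ← Matrix.mulVec_mulVec]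
  have h1 : Z *ᵥ vev p s (mvec p y ![1, 0, 0]) = vev p s (mvec p y u) := by rw [hcom, h0, ← C.vev_mvec]
  have h2 : Z *ᵥ vev p s (mvec p y (mvec p y ![1, 0, 0])) = vev p s (mvec p y (mvec p y u)) := by
    rw [hcom, h1, ← C.vev_mvec]
  have key : ∀ j, (Z * mev p s (cols ![1, 0, 0] (mvec p y ![1, 0, 0]) (mvec p y (mvec p y ![1, 0, 0])))) *ᵥ
      Pi.single j 1 = mev p s (cols u (mvec p y u) (mvec p y (mvec p y u))) *ᵥ Pi.single j 1 := fun j => by
    rw [← Matrix.mulVec_mulVec, C.mev_mulVec_single, C.mev_mulVec_single]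
    fin_cases j
    exacts [h0, h1, h2]
  ext i j
  have := congrFun (key j) i
  rwa [Matrix.mulVec_single_one, Matrix.mulVec_single_one] at this

set_option maxHeartbeats 800000 in
/-- The normaliser of an adjoint-closed field of degree three is not maximal. -/
theorem singer_false (C : Ctx p s) {y f pi g t : Code} {S T L : List ℕ} {m : ℕ}
    (hyg : Good p y) (hfg : Good p f) (hy7 : cpow p y 7 = scal 1) (hfy : mmul p f y = mmul p (cpow p y m) f)
    (hpi : mmul p (cols ![1, 0, 0] (mvec p y ![1, 0, 0]) (mvec p y (mvec p y ![1, 0, 0]))) pi = scal 1)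
    (hyS : Fix p y S) (hyT : Fix p y T) (hfS : Fix p f S) (hfT : Fix p f T)
    (hyb : ∀ i j, y i j < p * p) (hfb : ∀ i j, f i j < p * p)
    (hy1 : y ≠ scal 1)
    (hcent : ∀ a < p * p, ∀ b < p * p, ∀ c < p * p, cherm p ![a, b, c] ![a, b, c] = 1 →
      cherm p ![a, b, c] (mvec p y ![a, b, c]) = cherm p ![1, 0, 0] (mvec p y ![1, 0, 0]) →
      cdet p (cols ![a, b, c] (mvec p y ![a, b, c]) (mvec p y (mvec p y ![a, b, c]))) =
        cdet p (cols ![1, 0, 0] (mvec p y ![1, 0, 0]) (mvec p y (mvec p y ![1, 0, 0]))) →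
      cherm p ![a, b, c] (mvec p y (mvec p y ![a, b, c])) = cherm p ![1, 0, 0] (mvec p y (mvec p y ![1, 0, 0])) →
      ∃ i < 7, ∃ x ∈ L, ![a, b, c] = mvec p (mmul p (cpow p y i) (scal x)) ![1, 0, 0])
    (hpow : ∀ i < 7, ∀ x ∈ L, cpow p (mmul p (cpow p y i) (scal x)) 7 = scal 1 →
      ctr p (mmul p (cpow p y i) (scal x)) = ctr p y →
      ∃ e < 3, mmul p (cpow p y i) (scal x) = cpow p y (m ^ e % 7))
    (hscal : ∀ x ∈ L, Fix p (scal x) S ∧ Fix p (scal x) T) (hL : ∀ x ∈ L, x ≠ 0 ∧ x < p * p)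
    (hg : Good p g) (ht : Good p t) (hgS : Fix p g S) (hgT : Moves p g T) (htS : Moves p t S)
    (hgb : ∀ i j, g i j < p * p) (htb : ∀ i j, t i j < p * p)
    {H : Subgroup (GL (Fin 3) F)} (hH : IsMaximalIn (suGL 3 F p) H) {K : Subalgebra F (Matrix (Fin 3) (Fin 3) F)}
    (hK : IsFieldSubalgebra 3 K) (hadj : IsAdjointClosedFor (Cfsg.hermForm 3 F p) K)
    (hle : H ≤ subalgebraNormalizer K) : False := by
  classical
  haveI : Fact (Nat.Prime 7) := ⟨by norm_num⟩
  obtain ⟨k, hkT, hkK, hk⟩ := exists_seven C hK hadj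
  obtain ⟨y₀, hy₀, hy₀v⟩ := C.exists_el hyb hyg
  obtain ⟨f₀, hf₀, hf₀v⟩ := C.exists_el hfb hfg
  have hy₀7 : y₀ ^ 7 = 1 := Units.ext (by
    rw [Units.val_pow_eq_pow_val, hy₀v, ← C.mev_cpow, hy7, C.mev_one, Units.val_one])
  have hy₀ord : orderOf y₀ = 7 := orderOf_eq_prime hy₀7 fun e => hy1 (C.code_eq hyb
    (fun i j => C.cpow_lt (scal 1) 0 i j) (by rw [← hy₀v, e, Units.val_one, C.mev_one]))
  -- conjugate the subgroups of order seven
  obtain ⟨G, hG, hGk⟩ : ∃ G ∈ Cfsg.GU 3 F p, G * y₀ * G⁻¹ ∈ Subgroup.zpowers k := by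
    let U := ↥(Cfsg.GU 3 F p)
    let a : U := ⟨k, hkT.1⟩
    let b : U := ⟨y₀, hy₀.1⟩
    have hcard : ¬ 7 ^ 2 ∣ Nat.card U := by
      rw [Cfsg.Lib.Classical.card_GU C.card, Cfsg.Lib.Classical.cardGUFormula]
      rcases C.cases with rfl | rfl <;> simp [Finset.prod_range_succ, Nat.even_iff] <;> norm_num
    have hP : ∀ c : U, orderOf (c : GL (Fin 3) F) = 7 → ∃ P : Sylow 7 U, (P : Subgroup U) = Subgroup.zpowers c := by
      intro c hc
      rw [Subgroup.orderOf_coe] at hc
      have hcard' : Nat.card (Subgroup.zpowers c) = 7 := by rw [Nat.card_zpowers, hc]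
      obtain ⟨P, hP⟩ := (IsPGroup.of_card (n := 1) (by rw [hcard', pow_one])).exists_le_sylow
      refine ⟨P, (Subgroup.eq_of_le_of_card_ge hP ?_).symm⟩
      obtain ⟨e, he⟩ := IsPGroup.iff_card.mp P.isPGroup'
      rw [hcard', he]
      have hd := Subgroup.card_subgroup_dvd_card (P : Subgroup U)
      rw [he] at hd
      rcases e with _ | _ | e
      · norm_num
      · norm_num
      · exact absurd ((pow_dvd_pow 7 (by omega)).trans hd) hcard
    obtain ⟨P, hP'⟩ := hP a hk
    obtain ⟨Q, hQ'⟩ := hP b hy₀ord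
    obtain ⟨c, hc⟩ := MulAction.exists_smul_eq U P Q
    refine ⟨(c : GL (Fin 3) F)⁻¹, Subgroup.inv_mem _ c.2, ?_⟩
    have hb : b ∈ (Q : Subgroup U) := hQ' ▸ Subgroup.mem_zpowers b
    rw [← hc, Sylow.coe_subgroup_smul, Subgroup.mem_pointwise_smul_iff_inv_smul_mem] at hb
    rw [hP', Subgroup.mem_zpowers_iff] at hb
    obtain ⟨z, hz⟩ := hb
    refine Subgroup.mem_zpowers_iff.mpr ⟨z, ?_⟩
    simp [MulAut.conj_apply] at hz
    rw [inv_inv]
    exact (congrArg Subtype.val hz :)
  set y' := G * y₀ * G⁻¹ with hy'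
  have hy'K : (y' : Matrix (Fin 3) (Fin 3) F) ∈ K := by
    obtain ⟨e, he⟩ := (mem_powers_iff_mem_zpowers (x := k)).mpr hGk
    simp only at he
    rw [← he, Units.val_pow_eq_pow_val]
    exact pow_mem hkK e
  -- elements commuting with `y₀`
  have hcen : ∀ z ∈ suGL 3 F p, (z : Matrix (Fin 3) (Fin 3) F) * mev p s y = mev p s y * (z : Matrix (Fin 3) (Fin 3) F) →
      ∃ i < 7, ∃ x ∈ L, (z : Matrix (Fin 3) (Fin 3) F) = mev p s (mmul p (cpow p y i) (scal x)) := by
    intro z hz hcom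
    set Y : Matrix (Fin 3) (Fin 3) F := mev p s y
    obtain ⟨u, hu, huv⟩ := C.exists_vec ((z : Matrix (Fin 3) (Fin 3) F) *ᵥ Pi.single 0 1)
    have hue : u = ![u 0, u 1, u 2] := by funext l; fin_cases l <;> rfl
    have hme : ∀ v, ∀ i, mvec p y v i < p * p := fun v i => C.sum3_lt _ _ _
    have hiso : ∀ v w, Cfsg.hermForm 3 F p ((z : Matrix (Fin 3) (Fin 3) F) *ᵥ v) ((z : Matrix (Fin 3) (Fin 3) F) *ᵥ w) =
        Cfsg.hermForm 3 F p v w := mem_GU_iff.mp hz.1
    have hcomv : ∀ v, Y *ᵥ ((z : Matrix (Fin 3) (Fin 3) F) *ᵥ v) = (z : Matrix (Fin 3) (Fin 3) F) *ᵥ (Y *ᵥ v) := fun v => by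
      rw [Matrix.mulVec_mulVec, ← hcom, ← Matrix.mulVec_mulVec]
    have h0 : ∀ i, (![1, 0, 0] : Vec) i < p * p := fun i => by
      fin_cases i <;> [exact C.one_lt; exact Nat.mul_pos C.pos C.pos; exact Nat.mul_pos C.pos C.pos]
    have hz1 := C.mul_cyclic hcom huv.symm
    obtain ⟨i, hi, x, hx, he⟩ := hcent (u 0) (hu 0) (u 1) (hu 1) (u 2) (hu 2)
      (by
        rw [← hue]
        refine C.ev_inj (C.sum3_lt _ _ _) C.one_lt ?_
        rw [C.cherm_eq hu, huv, hiso, C.ev_one, C.herm_sum]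
        simp [Fin.sum_univ_three])
      (by
        rw [← hue]
        refine C.ev_inj (C.sum3_lt _ _ _) (C.sum3_lt _ _ _) ?_
        rw [C.cherm_eq (hme _), C.cherm_eq (hme _), C.vev_mvec, C.vev_mvec, huv, C.vev_unit, hcomv, hiso])
      (by
        rw [← hue]
        refine C.ev_inj (C.sum3_lt _ _ _) (C.sum3_lt _ _ _) ?_
        rw [← C.mev_det, ← C.mev_det, ← hz1, Matrix.det_mul, det_eq_one le_rfl hz.2, one_mul])
      (by
        rw [← hue]
        refine C.ev_inj (C.sum3_lt _ _ _) (C.sum3_lt _ _ _) ?_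
        rw [C.cherm_eq (hme _), C.cherm_eq (hme _), C.vev_mvec, C.vev_mvec, C.vev_mvec, C.vev_mvec, huv, C.vev_unit,
          hcomv, hcomv, hiso])
    rw [← hue] at he
    refine ⟨i, hi, x, hx, ?_⟩
    set A := mmul p (cpow p y i) (scal x)
    have hA : mev p s A * Y = Y * mev p s A := by
      rw [C.mev_mmul, C.mev_cpow, C.mev_scal, Matrix.mul_smul, mul_one, Matrix.smul_mul, Matrix.mul_smul,
        ← pow_succ, ← pow_succ']
    have hA1 := C.mul_cyclic hA (u := u) (by rw [he, C.vev_mvec, C.vev_unit])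
    have hB : mev p s (cols ![1, 0, 0] (mvec p y ![1, 0, 0]) (mvec p y (mvec p y ![1, 0, 0]))) * mev p s pi = 1 := by
      rw [← C.mev_mmul, hpi, C.mev_one]
    have := congrArg (fun M => M * mev p s pi) (hz1.trans hA1.symm)
    simp only [mul_assoc, hB, mul_one] at this
    exact this
  refine C.refute hH hG hgb htb hg ht hgS hgT htS fun h hh => ?_
  set h' := G⁻¹ * h * G with hh'
  have hh'mem : h' ∈ suGL 3 F p := conj_mem_suGL hG (hH.1.le hh)
  -- the image of `y₀` commutes with it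
  set w := h' * y₀ * h'⁻¹ with hw
  have hwmem : w ∈ suGL 3 F p :=
    Subgroup.mul_mem _ (Subgroup.mul_mem _ hh'mem hy₀) (Subgroup.inv_mem _ hh'mem)
  have hcomw : w * y₀ = y₀ * w := by
    have hY : ((h * y' * h⁻¹ : GL (Fin 3) F) : Matrix (Fin 3) (Fin 3) F) ∈ K := by
      rw [Units.val_mul, Units.val_mul]
      exact (hle hh _).mp hy'K
    have e : (h * y' * h⁻¹) * y' = y' * (h * y' * h⁻¹) := Units.ext (by
      rw [Units.val_mul, Units.val_mul]; exact hK.comm _ hY _ hy'K)
    calc w * y₀ = G⁻¹ * ((h * y' * h⁻¹) * y') * G := by rw [hw, hh', hy']; group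
      _ = G⁻¹ * (y' * (h * y' * h⁻¹)) * G := by rw [e]
      _ = y₀ * w := by rw [hw, hh', hy']; group
  obtain ⟨i, hi, x, hx, hwv⟩ := hcen w hwmem (by rw [← hy₀v, ← Units.val_mul, hcomw, Units.val_mul])
  have hAb : ∀ a b, mmul p (cpow p y i) (scal x) a b < p * p := fun a b => C.sum3_lt _ _ _
  obtain ⟨e, he, hwe⟩ := hpow i hi x hx
    (C.code_eq (C.cpow_lt _ _) (C.cpow_lt (scal 1) 0) (by
      rw [C.mev_cpow, ← hwv, ← Units.val_pow_eq_pow_val, hw, ← MulAut.conj_apply, ← map_pow, hy₀7, map_one,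
        Units.val_one]
      exact C.mev_one.symm))
    (C.ev_inj (C.sum3_lt _ _ _) (C.sum3_lt _ _ _) (by
      rw [← C.mev_trace, ← C.mev_trace, ← hwv, ← hy₀v, hw, Units.val_mul, Units.val_mul, Matrix.trace_mul_comm,
        ← mul_assoc, val_inv_mul, one_mul]))
  have hw' : w = y₀ ^ (m ^ e) := by
    have h1 : w = y₀ ^ (m ^ e % 7) := Units.ext (by
      rw [hwv, hwe, C.mev_cpow, ← hy₀v, Units.val_pow_eq_pow_val])
    rw [h1, ← hy₀ord, pow_mod_orderOf]
  have hfy' : SemiconjBy f₀ y₀ (y₀ ^ m) := Units.ext (by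
    rw [Units.val_mul, Units.val_mul, Units.val_pow_eq_pow_val, hy₀v, hf₀v, ← C.mev_cpow, ← C.mev_mmul, hfy,
      C.mev_mmul])
  have hfe : SemiconjBy (f₀ ^ e) y₀ (y₀ ^ (m ^ e)) := by
    clear he hwe hw' hwv
    induction e with
    | zero => rw [pow_zero, pow_zero, pow_one]; exact SemiconjBy.one_left _
    | succ e ih =>
      rw [pow_succ' f₀, pow_succ' m, pow_mul]
      exact (hfy'.pow_right (m ^ e)).mul_left ih
  set z := (f₀ ^ e)⁻¹ * h' with hz
  have hzy : z * y₀ = y₀ * z := by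
    have h1 : h' * y₀ = w * h' := by rw [hw]; group
    calc z * y₀ = (f₀ ^ e)⁻¹ * y₀ ^ (m ^ e) * h' := by rw [hz, mul_assoc, h1, hw', ← mul_assoc]
      _ = y₀ * z := by
          rw [hz, show (f₀ ^ e)⁻¹ * y₀ ^ (m ^ e) = y₀ * (f₀ ^ e)⁻¹ from
            inv_mul_eq_iff_eq_mul.mpr (by rw [← mul_assoc, hfe.eq, mul_inv_cancel_right])]
          exact mul_assoc _ _ _
  obtain ⟨j, -, x', hx', hzv⟩ := hcen z
    (Subgroup.mul_mem _ (Subgroup.inv_mem _ (Subgroup.pow_mem _ hf₀ _)) hh'mem)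
    (by rw [← hy₀v, ← Units.val_mul, hzy, Units.val_mul])
  have hx0 : ev p s x' ≠ 0 := fun e0 =>
    (hL x' hx').1 (C.ev_inj (hL x' hx').2 (Nat.mul_pos C.pos C.pos) (e0.trans C.ev_zero.symm))
  have hsc : ((scalarGL (ι := Fin 3) hx0 : GL (Fin 3) F) : Matrix (Fin 3) (Fin 3) F) = mev p s (scal x') := by
    rw [scalarGL_val, C.mev_scal]
  have heq : h' = f₀ ^ e * (y₀ ^ j * scalarGL hx0) := by
    have h1 : z = y₀ ^ j * scalarGL hx0 := Units.ext (by
      rw [hzv, C.mev_mmul, C.mev_cpow, Units.val_mul, Units.val_pow_eq_pow_val, hy₀v, hsc])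
    rw [← h1, hz, mul_inv_cancel_left]
  rw [heq]
  exact ⟨Subgroup.mul_mem _ (Subgroup.pow_mem _ (C.mem_stab hf₀v hfS) _)
      (Subgroup.mul_mem _ (Subgroup.pow_mem _ (C.mem_stab hy₀v hyS) _) (C.mem_stab hsc (hscal x' hx').1)),
    Subgroup.mul_mem _ (Subgroup.pow_mem _ (C.mem_stab hf₀v hfT) _)
      (Subgroup.mul_mem _ (Subgroup.pow_mem _ (C.mem_stab hy₀v hyT) _) (C.mem_stab hsc (hscal x' hx').2))⟩

theorem singer_nontriv : singer5y ≠ scal 1 ∧ singer3y ≠ scal 1 := by decide +kernel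

/-- In `SU₃(5)` the normaliser of a field of degree three is not maximal. -/
theorem field_false_five (C : Ctx 5 s) {H : Subgroup (GL (Fin 3) F)} (hH : IsMaximalIn (suGL 3 F 5) H)
    {K : Subalgebra F (Matrix (Fin 3) (Fin 3) F)} (hK : IsFieldSubalgebra 3 K)
    (hadj : IsAdjointClosedFor (Cfsg.hermForm 3 F 5) K) (hle : H ≤ subalgebraNormalizer K) : False := by
  obtain ⟨a, b, c, d, e, f, g, h, i, j, k, -⟩ := singer5_basic
  obtain ⟨hg, ht, hgS, hgT, htS, hgb, htb⟩ := singer5_data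
  exact singer_false C a b c d e f g h i j k singer_nontriv.1 singer5_cent singer5_power singer_scal.1
    (by decide) hg ht hgS hgT htS hgb htb hH hK hadj hle

/-- In `SU₃(3)` the normaliser of a field of degree three is not maximal. -/
theorem field_false_three (C : Ctx 3 s) {H : Subgroup (GL (Fin 3) F)} (hH : IsMaximalIn (suGL 3 F 3) H)
    {K : Subalgebra F (Matrix (Fin 3) (Fin 3) F)} (hK : IsFieldSubalgebra 3 K)
    (hadj : IsAdjointClosedFor (Cfsg.hermForm 3 F 3) K) (hle : H ≤ subalgebraNormalizer K) : False := by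
  obtain ⟨a, b, c, d, e, f, g, h, i, j, k, -⟩ := singer3_basic
  obtain ⟨hg, ht, hgS, hgT, htS, hgb, htb⟩ := singer3_data
  exact singer_false C a b c d e f g h i j k singer_nontriv.2 singer3_cent singer3_power singer_scal.2
    (by decide) hg ht hgS hgT htS hgb htb hH hK hadj hle

end Cfsg.Lib.Classical.PrimeDim.ThreeSmall
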